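import Cfsg.Agent.H75.Final
import Cfsg.Agent.LieClassical.OrthSimple
import Cfsg.Agent.LieClassical.OrthForms
import Cfsg.Agent.LieClassical.QuadCount

/-!
Transfer from subgroups of `E Q` to subgroups of `POmega`, exact indices of the point stabilisers,
and the numerical data for `quadFormOdd`.
-/

set_option autoImplicit false

namespace Cfsg.Agent.H75.OrthIdx

open QuadraticMap Cfsg.Agent.LieClassical.OrthCore Cfsg.Agent.LieClassical.OrthTrans
open Cfsg.Agent.LieClassical.OrthFinite Cfsg.Agent.LieClassical.OrthForms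

/-- reverse covering lemma -/
theorem relIndex_mul_ncard_le {G Y : Type*} [Group G] (P N : Subgroup G)
    (hfin : N.relIndex P ≠ 0) (β : G → Y → Y) (T : Set Y) (O' : Set Y)
    (hO' : O'.Finite) (hmap : ∀ g ∈ P, ∀ t ∈ T, β g t ∈ O')
    (hinj : ∀ g ∈ P, ∀ g' ∈ P, ∀ t ∈ T, ∀ t' ∈ T, β g t = β g' t' → g⁻¹ * g' ∈ N)
    (hβ : ∀ g ∈ P, Set.InjOn (β g) T) :
    N.relIndex P * T.ncard ≤ O'.ncard := by
  classical
  have : Finite O' := hO'
  let φ : (P ⧸ N.subgroupOf P) × T → O' := fun c =>
    ⟨β (c.1.out : P) c.2, hmap _ (c.1.out : P).2 _ c.2.2⟩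
  have hφ : Function.Injective φ := by
    rintro ⟨c, t⟩ ⟨c', t'⟩ heq
    have h1 : β (c.out : P) t = β (c'.out : P) t' := congrArg Subtype.val heq
    have h2 := hinj _ (c.out : P).2 _ (c'.out : P).2 _ t.2 _ t'.2 h1
    have h3 : c = c' := by
      rw [← Quotient.out_eq c, ← Quotient.out_eq c']
      exact QuotientGroup.eq.2 h2
    subst h3
    have h4 := hβ _ (c.out : P).2 t.2 t'.2 h1
    rw [Subtype.ext h4]
  have h1 := Nat.card_le_card_of_injective φ hφ
  rw [Nat.card_prod] at h1
  exact h1

variable {F V : Type*} [Field F] [AddCommGroup V] [Module F V] {Q : QuadraticForm F V}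

section fin

variable [Finite F] [FiniteDimensional F V]

theorem relIndex_StT_sing (hG : Good Q) {t : V} (ht0 : t ≠ 0) (htQ : Q t = 0) :
    (StT Q (Submodule.span F {t})).relIndex (E Q) * (Nat.card F - 1) =
      {w : V | w ≠ 0 ∧ Q w = 0}.ncard := by
  classical
  have : Finite V := Module.finite_of_finite F
  apply le_antisymm
  · set T : Set V := {w | w ≠ 0 ∧ w ∈ Submodule.span F {t}} with hT
    have hTc : T.ncard = Nat.card F - 1 := by
      have h1 : T = (Submodule.span F {t} : Set V) \ {0} := by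
        ext w
        simp only [hT, Set.mem_ofPred_eq, Set.mem_sdiff, SetLike.mem_coe, Set.mem_singleton_iff]
        tauto
      rw [h1, Set.ncard_sdiff_singleton_of_mem (Submodule.zero_mem _)]
      have h2 : (Submodule.span F {t} : Set V).ncard = Nat.card (Submodule.span F {t}) := rfl
      rw [h2, Module.natCard_eq_pow_finrank (K := F) (V := Submodule.span F {t}),
        finrank_span_singleton ht0, pow_one]
    rw [← hTc]
    refine relIndex_mul_ncard_le (E Q) _ (relIndex_ne _ _) (fun g y => g y) T _ (Set.toFinite _)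
      ?_ ?_ ?_
    · rintro g hg x ⟨hx0, hx⟩
      obtain ⟨c, rfl⟩ := Submodule.mem_span_singleton.1 hx
      refine ⟨(map_ne_zero_iff g g.injective).2 hx0, ?_⟩
      show Q (g (c • t)) = 0
      rw [mem_O.1 (E_le_O hg), QuadraticMap.map_smul, htQ, smul_zero]
    · rintro g hg g' hg' x ⟨hx0, hx⟩ x' ⟨hx0', hx'⟩ heq
      obtain ⟨c, rfl⟩ := Submodule.mem_span_singleton.1 hx
      obtain ⟨c', rfl⟩ := Submodule.mem_span_singleton.1 hx'
      have hc : c ≠ 0 := fun h => hx0 (by rw [h, zero_smul])
      have hc' : c' ≠ 0 := fun h => hx0' (by rw [h, zero_smul])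
      have h1 : (g⁻¹ * g') t = (c'⁻¹ * c) • t := by
        show g⁻¹ (g' t) = _
        have h2 : g (c • t) = g' (c' • t) := heq
        rw [map_smul g'] at h2
        have h3 : g' t = c'⁻¹ • g (c • t) := by
          rw [h2, smul_smul, inv_mul_cancel₀ hc', one_smul]
        have h4 : g⁻¹ (g (c • t)) = c • t := LinearEquiv.symm_apply_apply g _
        rw [h3, map_smul, h4, smul_smul]
      refine ⟨(E Q).mul_mem ((E Q).inv_mem hg) hg', fun y => ?_⟩
      constructor
      · intro hy
        obtain ⟨d, rfl⟩ := Submodule.mem_span_singleton.1 hy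
        rw [map_smul, h1, smul_smul]
        exact Submodule.smul_mem _ _ (Submodule.mem_span_singleton_self t)
      · intro hy
        obtain ⟨d, hd⟩ := Submodule.mem_span_singleton.1 hy
        have h5 : (g⁻¹ * g') y = (g⁻¹ * g') ((d * (c⁻¹ * c')) • t) := by
          rw [map_smul, h1, smul_smul, ← hd]
          congr 1
          field_simp
        have h6 := (g⁻¹ * g').injective h5
        rw [h6]
        exact Submodule.smul_mem _ _ (Submodule.mem_span_singleton_self t)
    · intro g _ x _ y _ h
      exact g.injective h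
  · exact sing_point_bound hG (fun g hg => hg.1) ht0 htQ fun h hh =>
      (hh.2 t).1 (Submodule.mem_span_singleton_self t)

theorem relIndex_StT_nonsing (hG : Good Q) (h2 : (2 : F) ≠ 0) {a : V} (haQ : Q a ≠ 0) :
    (StT Q (Submodule.span F {a})).relIndex (E Q) * 2 = {w : V | Q w = Q a}.ncard := by
  classical
  have : Finite V := Module.finite_of_finite F
  have ha0 : a ≠ 0 := by
    rintro rfl; exact haQ (QuadraticMap.map_zero Q)
  apply le_antisymm
  · have hne : a ≠ -a := by
      intro h
      have h3 : (2 : F) • a = 0 := by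
        rw [two_smul]
        nth_rewrite 2 [h]
        rw [add_neg_cancel]
      rcases smul_eq_zero.1 h3 with h4 | h4
      · exact h2 h4
      · exact ha0 h4
    have hTc : ({a, -a} : Set V).ncard = 2 := Set.ncard_pair hne
    rw [← hTc]
    refine relIndex_mul_ncard_le (E Q) _ (relIndex_ne _ _) (fun g y => g y) {a, -a} _
      (Set.toFinite _) ?_ ?_ ?_
    · rintro g hg x hx
      show Q (g x) = Q a
      rw [mem_O.1 (E_le_O hg)]
      rcases hx with rfl | rfl
      · rfl
      · rw [QuadraticMap.map_neg]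
    · rintro g hg g' hg' x hx x' hx' heq
      have h1 : ∃ c : F, c ≠ 0 ∧ (g⁻¹ * g') a = c • a := by
        have h3 : g x = g' x' := heq
        have h4 : (g⁻¹ * g') x' = x := by
          show g⁻¹ (g' x') = x
          rw [← h3]
          exact LinearEquiv.symm_apply_apply g x
        rcases hx with rfl | rfl <;> rcases hx' with rfl | rfl
        · exact ⟨1, one_ne_zero, by rw [h4, one_smul]⟩
        · refine ⟨-1, neg_ne_zero.2 one_ne_zero, ?_⟩
          rw [map_neg] at h4
          rw [neg_smul, one_smul, ← h4, neg_neg, h4]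
        · exact ⟨-1, neg_ne_zero.2 one_ne_zero, by rw [h4, neg_smul, one_smul]⟩
        · refine ⟨1, one_ne_zero, ?_⟩
          rw [map_neg] at h4
          rw [one_smul]
          exact neg_injective h4
      obtain ⟨c, hc, hca⟩ := h1
      refine ⟨(E Q).mul_mem ((E Q).inv_mem hg) hg', fun y => ?_⟩
      constructor
      · intro hy
        obtain ⟨d, rfl⟩ := Submodule.mem_span_singleton.1 hy
        rw [map_smul, hca, smul_smul]
        exact Submodule.smul_mem _ _ (Submodule.mem_span_singleton_self a)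
      · intro hy
        obtain ⟨d, hd⟩ := Submodule.mem_span_singleton.1 hy
        have h5 : (g⁻¹ * g') y = (g⁻¹ * g') ((d * c⁻¹) • a) := by
          rw [map_smul, hca, smul_smul, ← hd]
          congr 1
          field_simp
        have h6 := (g⁻¹ * g').injective h5
        rw [h6]
        exact Submodule.smul_mem _ _ (Submodule.mem_span_singleton_self a)
    · intro g _ x _ y _ h
      exact g.injective h
  · exact nonsing_point_bound hG (H := StT Q (Submodule.span F {a})) (fun g hg => hg.1) haQ
      fun h hh => (hh.2 a).1 (Submodule.mem_span_singleton_self a)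

end fin

/-- Central elements of `E Q` are scalars. -/
theorem center_scalar (hG : Good Q) {z : E Q} (hz : z ∈ Subgroup.center (E Q)) :
    ∃ c : F, ∀ v, (z : V ≃ₗ[F] V) v = c • v := by
  set N := (Subgroup.center (E Q)).map (E Q).subtype with hN
  have hNE : N ≤ E Q := by
    rintro _ ⟨x, -, rfl⟩
    exact x.2
  have hzN : (z : V ≃ₗ[F] V) ∈ N := ⟨z, hz, rfl⟩
  have hcomm : ∀ n ∈ N, ∀ g ∈ E Q, g * n = n * g := by
    rintro _ ⟨x, hx, rfl⟩ g hg
    have := Subgroup.mem_center_iff.1 hx ⟨g, hg⟩
    exact congrArg Subtype.val this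
  rcases Cfsg.Agent.LieClassical.OrthSimple.good_normal_dichotomy hG hNE (fun g hg n hn => by
    rw [hcomm n hn g hg, mul_inv_cancel_right]; exact hn) with h | h
  · exact h _ hzN
  · exfalso
    obtain ⟨g, hg, hg1⟩ := Cfsg.Agent.LieClassical.OrthSimple.good_E_ne_bot hG
    have h1 : ⁅E Q, E Q⁆ ≤ ⊥ := by
      rw [Subgroup.commutator_le]
      intro g1 hg1 g2 hg2
      rw [← h] at hg1
      rw [Subgroup.mem_bot, commutatorElement_def, ← hcomm g1 hg1 g2 hg2]
      group
    rw [hG.E_perfect] at h1
    exact hg1 (Subgroup.mem_bot.1 (h1 hg))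

section transfer

variable {ι : Type} [Fintype ι] [DecidableEq ι] {F : Type*} [Field F]
  {Q : QuadraticForm F (ι → F)}

/-- The projection from `E Q` to `POmega`. -/
noncomputable def omHom (hG : Good Q) : E Q →* Cfsg.POmega F ⇑Q :=
  (quotientCenterCongr ((omegaEquiv Q).trans
    (MulEquiv.subgroupCongr hG.commutator_eq_E))).symm.toMonoidHom.comp
    (QuotientGroup.mk' (Subgroup.center (E Q)))

theorem omHom_surjective (hG : Good Q) : Function.Surjective (omHom hG) := by
  intro x
  obtain ⟨y, hy⟩ := QuotientGroup.mk'_surjective (Subgroup.center (E Q))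
    ((quotientCenterCongr ((omegaEquiv Q).trans
      (MulEquiv.subgroupCongr hG.commutator_eq_E))) x)
  refine ⟨y, ?_⟩
  show (quotientCenterCongr _).symm (QuotientGroup.mk' (Subgroup.center (E Q)) y) = x
  rw [hy, MulEquiv.symm_apply_apply]

theorem omHom_ker (hG : Good Q) : (omHom hG).ker = Subgroup.center (E Q) := by
  ext z
  rw [MonoidHom.mem_ker]
  show (quotientCenterCongr _).symm (QuotientGroup.mk' (Subgroup.center (E Q)) z) = 1 ↔ _
  rw [MulEquiv.map_eq_one_iff, QuotientGroup.mk'_apply, QuotientGroup.eq_one_iff]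

theorem lower_transfer (hG : Good Q) {b : ℕ}
    (h : ∀ H : Subgroup ((ι → F) ≃ₗ[F] (ι → F)), H ≤ E Q → ¬ E Q ≤ H → b ≤ H.relIndex (E Q)) :
    ∀ H : Subgroup (Cfsg.POmega F ⇑Q), H ≠ ⊤ → b ≤ H.index := by
  intro H hH
  set K := H.comap (omHom hG) with hK
  have h1 : K.index = H.index := Subgroup.index_comap_of_surjective _ (omHom_surjective hG)
  have h2 : (K.map (E Q).subtype).subgroupOf (E Q) = K := by
    rw [Subgroup.subgroupOf, Subgroup.comap_map_eq_self_of_injective (Subgroup.subtype_injective _)]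
  have h3 := h (K.map (E Q).subtype) (by
    rintro _ ⟨x, -, rfl⟩
    exact x.2) (by
    intro hle
    apply hH
    have h4 : K = ⊤ := by
      rw [eq_top_iff]
      intro x _
      obtain ⟨y, hy, hyx⟩ := hle x.2
      have : y = x := Subtype.ext hyx
      rw [← this]; exact hy
    rw [eq_top_iff]
    intro x _
    obtain ⟨y, rfl⟩ := omHom_surjective hG x
    have h5 : y ∈ K := by rw [h4]; exact Subgroup.mem_top y
    exact h5)
  rw [Subgroup.relIndex, h2, h1] at h3
  exact h3

theorem exists_transfer (hG : Good Q) (T : Submodule F (ι → F)) :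
    ∃ H : Subgroup (Cfsg.POmega F ⇑Q), H.index = (StT Q T).relIndex (E Q) := by
  refine ⟨((StT Q T).subgroupOf (E Q)).map (omHom hG), ?_⟩
  rw [Subgroup.index_map_eq _ (omHom_surjective hG)]
  · rfl
  · rw [omHom_ker]
    intro z hz
    obtain ⟨c, hc⟩ := center_scalar hG hz
    refine ⟨z.2, fun x => ?_⟩
    show x ∈ T ↔ (z : (ι → F) ≃ₗ[F] (ι → F)) x ∈ T
    rw [hc]
    refine ⟨fun hx => T.smul_mem _ hx, fun hx => ?_⟩
    by_cases hc0 : c = 0
    · have h1 : (z : (ι → F) ≃ₗ[F] (ι → F)) x = 0 := by rw [hc, hc0, zero_smul]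
      have h2 : x = 0 := (map_eq_zero_iff _ (z : (ι → F) ≃ₗ[F] (ι → F)).injective).1 h1
      rw [h2]; exact T.zero_mem
    · have h1 := T.smul_mem c⁻¹ hx
      rwa [smul_smul, inv_mul_cancel₀ hc0, one_smul] at h1

end transfer

/-! ### The form `quadFormOdd` -/

section odd

variable {F : Type*} [Field F] [Fintype F]

theorem card_odd (m : ℕ) (c : F) :
    {v : Unit ⊕ (Fin m ⊕ Fin m) → F | oddForm m F v = c}.ncard + Nat.card F ^ m =
      Nat.card F ^ (2 * m) + Nat.card {x : F // x ^ 2 = c} * Nat.card F ^ m := by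
  classical
  have h := Cfsg.Agent.LieClassical.QuadCount.card_sum (F := F) (W := Unit → F) m
    (fun w => w () ^ 2 - c)
  have hone : Nat.card {w : Unit → F // w () ^ 2 - c = 0} = Nat.card {x : F // x ^ 2 = c} := by
    refine Nat.card_congr ((Equiv.funUnique Unit F).subtypeEquiv ?_)
    intro w
    exact sub_eq_zero
  have hcard : {v : Unit ⊕ (Fin m ⊕ Fin m) → F | oddForm m F v = c}.ncard
      = Nat.card {p : (Fin m ⊕ Fin m → F) × (Unit → F) //
          Cfsg.quadFormPlus m F p.1 + (p.2 () ^ 2 - c) = 0} := by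
    refine Nat.card_congr (((Equiv.sumArrowEquivProdArrow Unit (Fin m ⊕ Fin m) F).trans
      (Equiv.prodComm _ _)).subtypeEquiv ?_)
    intro v
    show oddForm m F v = c ↔ (∑ i : Fin m, v (.inr (.inl i)) * v (.inr (.inr i))) +
      (v (.inl ()) ^ 2 - c) = 0
    rw [coe_oddForm]
    show v (.inl ()) ^ 2 + (∑ i : Fin m, v (.inr (.inl i)) * v (.inr (.inr i))) = c ↔ _
    constructor
    · intro h; linear_combination h
    · intro h; linear_combination h
  have hF : Nat.card F = Fintype.card F := Nat.card_eq_fintype_card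
  rw [hone, Fintype.card_fun, Fintype.card_unit, pow_one, ← hcard] at h
  rw [hF]
  have hq : 0 < Fintype.card F := Fintype.card_pos
  refine Nat.eq_of_mul_eq_mul_left hq ?_
  calc Fintype.card F * ({v : Unit ⊕ (Fin m ⊕ Fin m) → F | oddForm m F v = c}.ncard +
        Fintype.card F ^ m) = Fintype.card F *
          {v : Unit ⊕ (Fin m ⊕ Fin m) → F | oddForm m F v = c}.ncard +
          Fintype.card F * Fintype.card F ^ m := by ring
    _ = _ := h
    _ = _ := by ring

theorem odd_count (m : ℕ) (hm : 3 ≤ m) (h2 : (2 : F) ≠ 0) : OddCount (oddForm m F) m where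
  finrank := by
    rw [Module.finrank_fintype_fun_eq_card]
    simp only [Fintype.card_sum, Fintype.card_unit, Fintype.card_fin]
    omega
  three := hm
  two_ne := h2
  zero := by
    have h := card_odd (F := F) m 0
    have h1 : Nat.card {x : F // x ^ 2 = 0} = 1 := by
      rw [Nat.card_eq_one_iff_exists]
      refine ⟨⟨0, by simp⟩, ?_⟩
      rintro ⟨w, hw⟩
      exact Subtype.ext (pow_eq_zero_iff (two_ne_zero) |>.1 hw)
    rw [h1, one_mul] at h
    exact Nat.add_right_cancel h
  ne_zero := by
    intro c _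
    rw [card_odd]
    exact Nat.le_add_right _ _

theorem good_oddForm (m : ℕ) (hm : 3 ≤ m) (h2 : (2 : F) ≠ 0) : Good (oddForm m F) :=
  good_of_finite (nondeg_oddForm m F h2) (by
    rw [(odd_count m hm h2).finrank]; omega)

/-- Number of nonzero singular vectors. -/
theorem ncard_ne_zero_sing {V : Type*} [AddCommGroup V] [Module F V] [FiniteDimensional F V]
    (Q : QuadraticForm F V) :
    {w : V | Q w = 0}.ncard = {w : V | w ≠ 0 ∧ Q w = 0}.ncard + 1 := by
  classical
  have : Finite V := Module.finite_of_finite F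
  have h3 : {w : V | Q w = 0} = insert 0 {w : V | w ≠ 0 ∧ Q w = 0} := by
    ext w
    simp only [Set.mem_ofPred_eq, Set.mem_insert_iff]
    constructor
    · intro h; by_cases hw : w = 0
      · left; exact hw
      · right; exact ⟨hw, h⟩
    · rintro (rfl | ⟨-, h⟩)
      · exact QuadraticMap.map_zero Q
      · exact h
  rw [h3, Set.ncard_insert_of_notMem (by simp) (Set.toFinite _)]

end odd

end Cfsg.Agent.H75.OrthIdx
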