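import Cfsg.Agent.OddHalf.D6.QThree.U43Tw

/-!
# `PSU₄(3)` has no subgroup of index `81` (helper75, a piece of S2150)
-/

set_option autoImplicit false
set_option linter.unusedSectionVars false

namespace Cfsg.Agent.H75.NoEightyOne

open Cfsg Matrix
open Cfsg.Agent.OddHalf.Small.U43Mat Cfsg.Agent.OddHalf.Small.U43Good
open Cfsg.Agent.LieClassical.HermSiegel
open Cfsg.Agent.ClassicalGeometry.UnitAutBasic (pr pr_surjective)

section Lin

variable {F : Type*} [Field F] [Fintype F]

/-- fixed points of a linear map of order 7 -/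
theorem card_ker {V : Type*} [AddCommGroup V] [Module F V] [Finite V] (g : V →ₗ[F] V) (h7 : g ^ 7 = 1) :
    Nat.card V ≡ Nat.card ↥(LinearMap.ker (g - 1)) [MOD 7] := by
  have hg : ∀ v, (g ^ 6) (g v) = v := by
    intro v
    have : (g ^ 6 * g) v = v := by rw [← pow_succ, h7]; rfl
    exact this
  have hg' : ∀ v, g ((g ^ 6) v) = v := by
    intro v
    have : (g * g ^ 6) v = v := by rw [← pow_succ', h7]; rfl
    exact this
  let σ : Equiv.Perm V := ⟨g, (g ^ 6 : V →ₗ[F] V), hg, hg'⟩
  have hσ : ∀ v, σ v = g v := fun _ => rfl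
  have hpow : ∀ (n : ℕ) (v : V), (σ ^ n) v = (g ^ n) v := by
    intro n
    induction n with
    | zero => intro v; rfl
    | succ n ih => intro v; rw [pow_succ', pow_succ', Equiv.Perm.mul_apply, Module.End.mul_apply, ih, hσ]
  have hσ7 : σ ^ 7 = 1 := by
    ext v
    rw [hpow, h7]; rfl
  have hp : IsPGroup 7 (Subgroup.zpowers σ) := by
    intro x
    refine ⟨1, ?_⟩
    obtain ⟨x, hx⟩ := x
    obtain ⟨k, rfl⟩ := hx
    apply Subtype.ext
    rw [pow_one]
    change (σ ^ k) ^ 7 = 1
    rw [← zpow_natCast, ← _root_.zpow_mul, mul_comm, _root_.zpow_mul, zpow_natCast, hσ7, _root_.one_zpow]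
  have hf : Fact (Nat.Prime 7) := ⟨by norm_num⟩
  have h := hp.card_modEq_card_fixedPoints V
  have e : Nat.card (MulAction.fixedPoints (Subgroup.zpowers σ) V) = Nat.card ↥(LinearMap.ker (g - 1)) := by
    refine Nat.card_congr (Equiv.subtypeEquivRight fun v => ?_)
    rw [LinearMap.mem_ker, LinearMap.sub_apply, sub_eq_zero]
    constructor
    · intro hv
      exact hv ⟨σ, Subgroup.mem_zpowers σ⟩
    · intro hv x
      obtain ⟨x, hx⟩ := x
      obtain ⟨k, rfl⟩ := hx
      change (σ ^ k) v = v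
      exact Function.IsFixedPt.perm_zpow (show Function.IsFixedPt σ v from hv) k
  rw [e] at h
  exact h

theorem no_inv (h3 : CharP F 3) (hF : Fintype.card F = 9) {M S : Matrix (Fin 4) (Fin 4) F} (h7 : M ^ 7 = 1)
    (h1 : M ≠ 1) (hS : IsUnit S.det) (hMS : S * M = M ^ 6 * S) : False := by
  classical
  let g : (Fin 4 → F) →ₗ[F] (Fin 4 → F) := Matrix.toLin' M
  let s : (Fin 4 → F) →ₗ[F] (Fin 4 → F) := Matrix.toLin' S
  have hgM : g = Matrix.toLin' M := rfl
  have hsS : s = Matrix.toLin' S := rfl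
  have hpow : ∀ n : ℕ, g ^ n = Matrix.toLin' (M ^ n) := by
    intro n
    exact (Matrix.toLin'_pow M n).symm
  have hg7 : g ^ 7 = 1 := by rw [hpow, h7]; exact Matrix.toLin'_one
  have hsg : s * g = g ^ 6 * s := by
    rw [hpow, hgM, hsS, Module.End.mul_eq_comp, ← Matrix.toLin'_mul, hMS, Matrix.toLin'_mul, Module.End.mul_eq_comp]
  have hsinj : Function.Injective s := by
    intro v w h
    have h2 : S⁻¹ *ᵥ (S *ᵥ v) = S⁻¹ *ᵥ (S *ᵥ w) := by
      have : S *ᵥ v = S *ᵥ w := h
      rw [this]
    rwa [Matrix.mulVec_mulVec, Matrix.mulVec_mulVec, Matrix.nonsing_inv_mul S hS, Matrix.one_mulVec,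
      Matrix.one_mulVec] at h2
  clear_value g s
  have hg8 : ∀ v, g v = v ↔ g (g v) = v := by
    intro v
    constructor
    · intro h; rw [h, h]
    · intro h
      have h8 : (g ^ 8) v = v := by
        have e : g ^ 8 = (g * g) * (g * g) * ((g * g) * (g * g)) := by
          simp only [pow_succ, pow_zero, one_mul, mul_assoc]
        rw [e]
        simp only [Module.End.mul_apply, h]
      have e : g ^ 8 = g := by rw [show 8 = 7 + 1 from rfl, pow_succ, hg7, one_mul]
      rwa [e] at h8
  -- kernel and range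
  set K := LinearMap.ker (g - 1) with hK
  set W := LinearMap.range (g - 1) with hW
  have h7F : (7 : F) = 1 := by
    have : ((3 : ℕ) : F) = 0 := CharP.cast_eq_zero F 3
    have h3' : (3 : F) = 0 := by exact_mod_cast this
    linear_combination 2 * h3'
  have hdis : ∀ w ∈ W, g w = w → w = 0 := by
    intro w hw hgw
    obtain ⟨v, rfl⟩ := hw
    have hfix : ∀ n : ℕ, (g ^ n) ((g - 1) v) = (g - 1) v := by
      intro n
      induction n with
      | zero => rfl
      | succ n ih => rw [pow_succ, Module.End.mul_apply, hgw, ih]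
    have h0 : (∑ i ∈ Finset.range 7, g ^ i) ((g - 1) v) = 0 := by
      rw [← Module.End.mul_apply, geom_sum_mul, hg7, sub_self]; rfl
    rw [LinearMap.sum_apply, Finset.sum_congr rfl (fun i _ => hfix i), Finset.sum_const, Finset.card_range] at h0
    have h2 : ((7 : ℕ) : F) • (g - 1) v = 0 := by rw [Nat.cast_smul_eq_nsmul]; exact h0
    have h4 : ((7 : ℕ) : F) = 1 := by exact_mod_cast h7F
    rwa [h4, one_smul] at h2
  have hrn : Module.finrank F W + Module.finrank F K = 4 := by
    have := LinearMap.finrank_range_add_finrank_ker (g - 1)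
    rwa [Module.finrank_fin_fun] at this
  have hcard := card_ker g hg7
  have hW3 : Module.finrank F W = 3 := by
    have e1 : Nat.card (Fin 4 → F) = 6561 := by
      rw [Nat.card_eq_fintype_card, Fintype.card_fun, hF, Fintype.card_fin]; norm_num
    have e2 : Nat.card ↥K = 9 ^ Module.finrank F K := by
      rw [Module.natCard_eq_pow_finrank (K := F), Nat.card_eq_fintype_card, hF]
    rw [e1, e2] at hcard
    have hle : Module.finrank F K ≤ 4 := by omega
    interval_cases hk : Module.finrank F K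
    · exact absurd hcard (by decide)
    · omega
    · exact absurd hcard (by decide)
    · exact absurd hcard (by decide)
    · exfalso
      have hKt : K = ⊤ := Submodule.eq_top_of_finrank_eq (by rw [hk, Module.finrank_fin_fun])
      apply h1
      have : Matrix.toLin' M = Matrix.toLin' 1 := by
        rw [Matrix.toLin'_one, ← hgM]
        ext1 v
        have hv : Pi.single v (1 : F) ∈ K := by rw [hKt]; trivial
        rw [hK, LinearMap.mem_ker, LinearMap.sub_apply, sub_eq_zero] at hv
        ext j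
        have := congrFun hv j
        simpa using this
      exact Matrix.toLin'.injective this
  -- the restrictions
  let A : (Fin 4 → F) →ₗ[F] (Fin 4 → F) := g - g ^ 6
  have hA : ∀ w ∈ W, A w ∈ W := by
    intro w _
    refine ⟨-(∑ i ∈ Finset.range 5, g ^ i) (g w), ?_⟩
    rw [map_neg, ← Module.End.mul_apply, mul_geom_sum, ← LinearMap.neg_apply, neg_sub]
    change ((1 : (Fin 4 → F) →ₗ[F] (Fin 4 → F)) - g ^ 5) (g w) = (g - g ^ 6) w
    rw [LinearMap.sub_apply, LinearMap.sub_apply, pow_succ g 5, Module.End.mul_apply]; rfl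
  have hsW : ∀ w ∈ W, s w ∈ W := by
    rintro _ ⟨v, rfl⟩
    refine ⟨(∑ i ∈ Finset.range 6, g ^ i) (s v), ?_⟩
    rw [← Module.End.mul_apply, mul_geom_sum, LinearMap.sub_apply, ← Module.End.mul_apply, ← hsg, LinearMap.sub_apply, map_sub]
    rfl
  have hdet : LinearMap.det (A.restrict hA) = 0 := by
    have h2 : (s.restrict hsW) * (A.restrict hA) = ((-1 : F) • (A.restrict hA)) * (s.restrict hsW) := by
      ext1 w
      apply Subtype.ext
      change s (A w) = ((-1 : F) • A (s w))
      have e6 : s * g ^ 6 = g * s := by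
        have : ∀ n : ℕ, s * g ^ n = (g ^ 6) ^ n * s := by
          intro n
          induction n with
          | zero => rw [pow_zero, pow_zero, mul_one, one_mul]
          | succ n ih => rw [pow_succ g n, ← mul_assoc, ih, mul_assoc, hsg, ← mul_assoc, pow_succ (g ^ 6) n]
        rw [this 6, ← pow_mul, show 6 * 6 = 7 * 5 + 1 from rfl, pow_add, pow_mul, hg7, one_pow, one_mul, pow_one]
      have a1 : s (g w) = (g ^ 6) (s w) := congrArg (fun f : (Fin 4 → F) →ₗ[F] (Fin 4 → F) => f w) hsg
      have a2 : s ((g ^ 6) w) = g (s w) := congrArg (fun f : (Fin 4 → F) →ₗ[F] (Fin 4 → F) => f w) e6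
      change s (g w - (g ^ 6) w) = (-1 : F) • (g (s w) - (g ^ 6) (s w))
      rw [map_sub, a1, a2, neg_one_smul, neg_sub]
    have h4 := congrArg LinearMap.det h2
    rw [map_mul, map_mul, LinearMap.det_smul, hW3] at h4
    have hs0 : LinearMap.det (s.restrict hsW) ≠ 0 := by
      have hi : Function.Injective (s.restrict hsW) := by
        intro a b hab
        apply Subtype.ext
        exact hsinj (congrArg Subtype.val hab)
      have := LinearMap.isUnit_iff_ker_eq_bot (s.restrict hsW) |>.2 (LinearMap.ker_eq_bot.2 hi)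
      exact (this.map LinearMap.det).ne_zero
    have h5 : (2 : F) ≠ 0 := by
      intro h
      have h6 : ((3 : ℕ) : F) = 0 := CharP.cast_eq_zero F 3
      have h3' : (3 : F) = 0 := by exact_mod_cast h6
      exact one_ne_zero (show (1 : F) = 0 by linear_combination h3' - h)
    have h6 : (2 : F) * (LinearMap.det (s.restrict hsW) * LinearMap.det (A.restrict hA)) = 0 := by
      linear_combination h4
    rcases mul_eq_zero.1 h6 with h | h
    · exact absurd h h5
    · rcases mul_eq_zero.1 h with h | h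
      · exact absurd h hs0
      · exact h
  obtain ⟨w, hw, hw0⟩ : ∃ w : ↥W, A.restrict hA w = 0 ∧ w ≠ 0 := by
    by_contra hcon
    push Not at hcon
    have hk : LinearMap.ker (A.restrict hA) = ⊥ := (LinearMap.ker_eq_bot').2 hcon
    have := (LinearMap.isUnit_iff_ker_eq_bot _).2 hk
    exact (this.map LinearMap.det).ne_zero hdet
  have h2 : g w = (g ^ 6) w := by
    have := congrArg Subtype.val hw
    change (g - g ^ 6) w = 0 at this
    rwa [LinearMap.sub_apply, sub_eq_zero] at this
  have h4 : g (g w) = w := by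
    rw [h2, ← Module.End.mul_apply, ← pow_succ', hg7]; rfl
  exact hw0 (Subtype.ext (hdis w w.2 ((hg8 w).2 h4)))

end Lin

section Grp

universe u

variable {F : Type u} [Field F] [Fintype F]

/-- lift of an element of order 7 -/
theorem exists_lift (hF : Fintype.card F = 9) (_ : CharP F 3) {x : PSU 4 F 3} (hx : x ^ 7 = 1) :
    ∃ g : SU 4 F 3, pr 4 F 3 g = x ∧ g ^ 7 = 1 := by
  obtain ⟨g₀, rfl⟩ := pr_surjective x
  rw [← map_pow, ← map_one (pr 4 F 3)] at hx
  obtain ⟨c, hc4, hc⟩ := mat_of_pr_eq hF hx.symm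
  rw [mat_one] at hc
  refine ⟨g₀ ^ 8, ?_, ?_⟩
  · rw [pow_succ, map_mul, hx, map_one, one_mul]
  · apply mat_injective
    rw [← pow_mul, show 8 * 7 = 7 * 8 from rfl, pow_mul, mat_pow, hc, mat_one, smul_pow, one_pow,
      show 8 = 4 * 2 from rfl, pow_mul, hc4, one_pow, one_smul]

/-- an element of order 7 in `PSU₄(3)` is not conjugate to its inverse -/
theorem not_inv (hF : Fintype.card F = 9) (h3 : CharP F 3) {x t : PSU 4 F 3} (hx : x ^ 7 = 1) (hx1 : x ≠ 1)
    (ht : t * x * t⁻¹ = x⁻¹) : False := by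
  obtain ⟨g, rfl, hg⟩ := exists_lift hF h3 hx
  obtain ⟨s, rfl⟩ := pr_surjective t
  have hgi : g⁻¹ = g ^ 6 := by
    rw [inv_eq_iff_mul_eq_one, ← pow_succ', hg]
  rw [← map_inv, ← map_mul, ← map_mul, ← map_inv, hgi] at ht
  obtain ⟨c, hc4, hc⟩ := mat_of_pr_eq hF ht.symm
  have h7 : mat ((s * g * s⁻¹) ^ 7) = 1 := by
    rw [conj_pow, hg, mul_one, mul_inv_cancel, mat_one]
  rw [mat_pow, hc, smul_pow, ← mat_pow, ← pow_mul, show 6 * 7 = 7 * 6 from rfl, pow_mul, hg, one_pow, mat_one] at h7
  have hc7 : c ^ 7 = 1 := by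
    have := congrFun (congrFun h7 0) 0
    simpa using this
  have hc1 : c = 1 := by
    have h8 : c ^ 8 = 1 := by rw [show 8 = 4 * 2 from rfl, pow_mul, hc4, one_pow]
    rwa [pow_succ, hc7, one_mul] at h8
  rw [hc1, one_smul] at hc
  refine no_inv h3 hF (M := mat g) (S := mat s) ?_ ?_ ?_ ?_
  · rw [← mat_pow, hg, mat_one]
  · intro h
    apply hx1
    have : g = 1 := mat_injective (by rw [h, mat_one])
    rw [this, map_one]
  · rw [det_mat]; exact isUnit_one
  · rw [← mat_pow, ← hc, ← mat_mul, ← mat_mul, inv_mul_cancel_right]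

/-- centralizers of involutions of `PSU₄(3)` have order 1152 -/
theorem card_cent (hF : Fintype.card F = 9) (h3 : CharP F 3) {t : PSU 4 F 3} (ht : t * t = 1) (ht1 : t ≠ 1) :
    Nat.card ↥(Subgroup.centralizer ({t} : Set (PSU 4 F 3))) = 1152 := by
  obtain ⟨i, j, k, l, x₁, x₂, y, s, h, hs, hys⟩ := Cfsg.Agent.OddHalf.D6.QThree.U43Tw.exists_tw hF
  obtain ⟨g, hg⟩ := Cfsg.Agent.OddHalf.D6.QThree.U43Tw.one_class hF t ht ht1
  have h1 := h.card_cent
  have h2 : Nat.card ↥(Subgroup.centralizer ({t} : Set (PSU 4 F 3))) =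
      Nat.card ↥(Subgroup.centralizer ({pr 4 F 3 d} : Set (PSU 4 F 3))) := by
    rw [← hg]
    have h3 : Subgroup.centralizer ({g * pr 4 F 3 d * g⁻¹} : Set (PSU 4 F 3)) =
        (Subgroup.centralizer ({pr 4 F 3 d} : Set (PSU 4 F 3))).map (MulAut.conj g).toMonoidHom := by
      ext y
      rw [Subgroup.mem_centralizer_singleton_iff, Subgroup.mem_map]
      constructor
      · intro hy
        refine ⟨g⁻¹ * y * g, ?_, ?_⟩
        · rw [Subgroup.mem_centralizer_singleton_iff]
          calc g⁻¹ * y * g * pr 4 F 3 d = g⁻¹ * (y * (g * pr 4 F 3 d * g⁻¹)) * g := by group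
            _ = pr 4 F 3 d * (g⁻¹ * y * g) := by rw [hy]; group
        · change g * (g⁻¹ * y * g) * g⁻¹ = y
          group
      · rintro ⟨x, hx, rfl⟩
        rw [Subgroup.mem_centralizer_singleton_iff] at hx
        change g * x * g⁻¹ * (g * pr 4 F 3 d * g⁻¹) = g * pr 4 F 3 d * g⁻¹ * (g * x * g⁻¹)
        calc g * x * g⁻¹ * (g * pr 4 F 3 d * g⁻¹) = g * (x * pr 4 F 3 d) * g⁻¹ := by group
          _ = g * pr 4 F 3 d * g⁻¹ * (g * x * g⁻¹) := by rw [hx]; group
    rw [h3]
    exact (Nat.card_congr ((Subgroup.centralizer ({pr 4 F 3 d} : Set (PSU 4 F 3))).equivMapOfInjective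
      (MulAut.conj g).toMonoidHom (MulAut.conj g).injective).toEquiv).symm
  rw [h2, h1]

/-- an involution of `PSU₄(3)` does not normalise a subgroup of order 7 -/
theorem no_norm (hF : Fintype.card F = 9) (h3 : CharP F 3) {x t : PSU 4 F 3} (hx : orderOf x = 7)
    (ht : t * t = 1) (ht1 : t ≠ 1) (hn : t * x * t⁻¹ ∈ Subgroup.zpowers x) : False := by
  have hfin : Finite (PSU 4 F 3) := inferInstance
  have hx7 : x ^ 7 = 1 := by rw [← hx]; exact pow_orderOf_eq_one x
  have hx1 : x ≠ 1 := by
    intro h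
    rw [h, orderOf_one] at hx
    omega
  obtain ⟨n, hn⟩ := Subgroup.mem_zpowers_iff.1 hn
  have hinv : t⁻¹ = t := inv_eq_of_mul_eq_one_left ht
  have h2 : x ^ (n * n) = x := by
    rw [_root_.zpow_mul, hn, conj_zpow, hn]
    calc t * (t * x * t⁻¹) * t⁻¹ = (t * t) * x * (t * t)⁻¹ := by group
      _ = x := by rw [ht]; group
  have h4 : (7 : ℤ) ∣ n * n - 1 := by
    have h5 : x ^ (n * n - 1) = 1 := by rw [_root_.zpow_sub_one, h2, mul_inv_cancel]
    have := orderOf_dvd_iff_zpow_eq_one.2 h5
    rwa [hx] at this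
  have h5 : (7 : ℤ) ∣ (n - 1) * (n + 1) := by
    have : (n - 1) * (n + 1) = n * n - 1 := by ring
    rwa [this]
  have hp : Prime (7 : ℤ) := by
    have : Nat.Prime 7 := by norm_num
    exact Nat.prime_iff_prime_int.1 this
  rcases hp.dvd_or_dvd h5 with h | h
  · -- commuting
    have h6 : x ^ n = x := by
      have : x ^ (n - 1) = 1 := orderOf_dvd_iff_zpow_eq_one.1 (by rw [hx]; exact_mod_cast h)
      rw [_root_.zpow_sub_one, mul_inv_eq_one] at this
      exact this
    rw [h6] at hn
    have hc : x ∈ Subgroup.centralizer ({t} : Set (PSU 4 F 3)) := by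
      rw [Subgroup.mem_centralizer_singleton_iff]
      calc x * t = t * x * t⁻¹ * t := by rw [← hn]
        _ = t * x := by group
    have h7 := Subgroup.orderOf_dvd_natCard _ hc
    rw [card_cent hF h3 ht ht1, hx] at h7
    omega
  · have h6 : x ^ n = x⁻¹ := by
      have : x ^ (n + 1) = 1 := orderOf_dvd_iff_zpow_eq_one.1 (by rw [hx]; exact_mod_cast h)
      rw [_root_.zpow_add_one] at this
      exact eq_inv_of_mul_eq_one_left this
    exact not_inv hF h3 hx7 hx1 (hn.symm.trans h6)

/-- **`PSU₄(3)` has no subgroup of index `81`.** -/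
theorem no81 (hF : Fintype.card F = 9) (H : Subgroup (Cfsg.PSU 4 F 3)) : H.index ≠ 81 := by
  intro hi
  have h3 : CharP F 3 := by
    obtain ⟨p, k, hp, hc, hq, hk⟩ := Cfsg.Agent.LieClassical.HermBasic.exists_prime_pow (F := F) (q := 3)
      (by rw [hF]; norm_num)
    have h1 : p ∣ 3 := by rw [hq]; exact dvd_pow_self p hk.ne'
    have h2 : p = 3 := (Nat.prime_dvd_prime_iff_eq hp (by norm_num)).1 h1
    rw [← h2]; exact hc
  have hfin : Finite (PSU 4 F 3) := inferInstance
  have hG := Cfsg.Agent.OddHalf.D6.QThree.U43Tw.card_K hF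
  have hH : Nat.card H = 40320 := by
    have := H.index_mul_card
    rw [hi, hG] at this
    omega
  have hf : Fact (Nat.Prime 7) := ⟨by norm_num⟩
  obtain ⟨S⟩ : Nonempty (Sylow 7 H) := inferInstance
  have hS : Nat.card S = 7 := by
    have h1 : ¬ 7 ∣ (S : Subgroup H).index := S.not_dvd_index
    obtain ⟨a, ha⟩ := IsPGroup.iff_card.1 S.isPGroup'
    have h2 := (S : Subgroup H).index_mul_card
    rw [hH, ha] at h2
    have ha1 : a ≤ 1 := by
      by_contra hcon
      have h5 : 7 ^ 2 ∣ 40320 := by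
        rw [← h2]
        exact dvd_mul_of_dvd_right (pow_dvd_pow 7 (by omega)) _
      omega
    rcases Nat.le_one_iff_eq_zero_or_eq_one.1 ha1 with h | h
    · exfalso
      apply h1
      rw [h, pow_zero, mul_one] at h2
      rw [h2]
      decide
    · rw [ha, h, pow_one]
  have hodd : ¬ 2 ∣ Nat.card ↥(Subgroup.normalizer ((S : Subgroup H) : Set H)) := by
    intro h2
    have hf2 : Fact (Nat.Prime 2) := ⟨Nat.prime_two⟩
    obtain ⟨t, ht⟩ := exists_prime_orderOf_dvd_card' 2 h2
    have hS1 : Nontrivial S := by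
      rw [← Finite.one_lt_card_iff_nontrivial, hS]; norm_num
    obtain ⟨x, hx1⟩ := exists_ne (1 : S)
    have hxo : orderOf x = 7 := by
      have h5 : orderOf x ∣ 7 := (orderOf_dvd_natCard x).trans (dvd_of_eq hS)
      rcases (Nat.dvd_prime (by norm_num)).1 h5 with h | h
      · exact absurd (orderOf_eq_one_iff.1 h) hx1
      · exact h
    have hxo' : orderOf (((x : H)) : PSU 4 F 3) = 7 := by
      rw [Subgroup.orderOf_coe, Subgroup.orderOf_coe, hxo]
    have hto : orderOf (((t : H)) : PSU 4 F 3) = 2 := by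
      rw [Subgroup.orderOf_coe, Subgroup.orderOf_coe, ht]
    have htt : (((t : H)) : PSU 4 F 3) * ((t : H) : PSU 4 F 3) = 1 := by
      rw [← pow_two, ← hto]; exact pow_orderOf_eq_one _
    have ht1 : (((t : H)) : PSU 4 F 3) ≠ 1 := by
      intro h
      rw [h, orderOf_one] at hto
      omega
    refine no_norm hF h3 hxo' htt ht1 ?_
    have h6 : (t : H) * (x : H) * (t : H)⁻¹ ∈ (S : Subgroup H) :=
      (Subgroup.mem_normalizer_iff.1 t.2 (x : H)).1 x.2
    have h7 : Subgroup.zpowers (x : H) = (S : Subgroup H) := by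
      apply Subgroup.eq_of_le_of_card_ge
      · rw [Subgroup.zpowers_le]; exact x.2
      · rw [Nat.card_zpowers, Subgroup.orderOf_coe, hxo]
        exact hS.le
    have h8 : (t : H) * (x : H) * (t : H)⁻¹ ∈ Subgroup.zpowers (x : H) := h7.ge h6
    obtain ⟨n, hn⟩ := Subgroup.mem_zpowers_iff.1 h8
    refine Subgroup.mem_zpowers_iff.2 ⟨n, ?_⟩
    have := congrArg (Subtype.val : H → PSU 4 F 3) hn
    rw [SubgroupClass.coe_zpow] at this
    exact this
  have h7 : 7 ∣ Nat.card ↥(Subgroup.normalizer ((S : Subgroup H) : Set H)) := by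
    exact (dvd_of_eq hS.symm).trans (Subgroup.card_dvd_of_le Subgroup.le_normalizer)
  have h8 := card_sylow_modEq_one 7 H
  rw [S.card_eq_index_normalizer] at h8
  have h9 := (Subgroup.normalizer ((S : Subgroup H) : Set H)).index_mul_card
  rw [hH] at h9
  obtain ⟨k, hk⟩ := h7
  rw [hk] at h9 hodd
  have h10 : (Subgroup.normalizer ((S : Subgroup H) : Set H)).index * k = 5760 := by
    have : (Subgroup.normalizer ((S : Subgroup H) : Set H)).index * (7 * k) = 7 * ((Subgroup.normalizer ((S : Subgroup H) : Set H)).index * k) := by ring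
    rw [this] at h9
    omega
  have h11 : ¬ 2 ∣ k := fun h => hodd (dvd_mul_of_dvd_right h 7)
  have h12 : k ∣ 45 := by
    have h13 : k ∣ 2 ^ 7 * 45 := Dvd.intro_left _ (h10.trans (by norm_num))
    refine Nat.Coprime.dvd_of_dvd_mul_left ?_ h13
    apply Nat.Coprime.pow_right
    rw [Nat.coprime_comm]
    exact (Nat.Prime.coprime_iff_not_dvd Nat.prime_two).2 h11
  have h14 : k ≤ 45 := Nat.le_of_dvd (by norm_num) h12
  generalize (Subgroup.normalizer ((S : Subgroup H) : Set H)).index = m at h8 h10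
  unfold Nat.ModEq at h8
  interval_cases k <;> omega

end Grp

end Cfsg.Agent.H75.NoEightyOne
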