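import Cfsg.Agent.H228.E3Def
import Cfsg.Agent.H390.Cocl
import Cfsg.Agent.H75.SpecE

/-!
# The data of `Sp_{2n}(q)`, `Ω^±_{2n}(q)`, `q` even, for the elimination of the classical groups of odd characteristic
(helper75)

`ldat_psp`, `ldat_minus`, `ldat_plus`.
-/

set_option autoImplicit false
set_option linter.unusedSectionVars false
set_option linter.style.haveILetI false

namespace Cfsg.Agent.H75.LDat

open Module Cfsg
open Cfsg.Agent.H390 Cfsg.Agent.H390.NonAdj
open Cfsg.Agent.H228.E3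
open Cfsg.Agent.H72.WGr (OCoc)

/-! ### primes -/

theorem orderOf_two_pow {a e r : ℕ} (ha : 1 ≤ a) (h : orderOf ((2 : ℕ) : ZMod r) = a * e) :
    orderOf ((2 ^ a : ℕ) : ZMod r) = e := by
  rw [Nat.cast_pow, orderOf_pow_of_dvd (by omega) (by rw [h]; exact Dvd.intro _ rfl), h,
    Nat.mul_div_cancel_left _ (by omega)]

/-- a prime of class `e` -/
theorem exists_pr {a e : ℕ} (ha : 1 ≤ a) (he : 3 ≤ e) (h6 : ¬ (a = 1 ∧ e = 6)) :
    ∃ r : ℕ, r.Prime ∧ orderOf ((2 ^ a : ℕ) : ZMod r) = e ∧ a * e + 1 ≤ r := by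
  by_cases h : a * e = 6
  · have h2 : a = 2 ∧ e = 3 := by
      have h3 : a ≤ 2 := by
        by_contra hcon
        have : 3 * 3 ≤ a * e := Nat.mul_le_mul (by omega) he
        omega
      have h4 : a = 1 ∨ a = 2 := by omega
      rcases h4 with rfl | rfl
      · omega
      · omega
    obtain ⟨rfl, rfl⟩ := h2
    refine ⟨7, by norm_num, ?_, by norm_num⟩
    have : Fact (Nat.Prime 3) := ⟨by norm_num⟩
    exact orderOf_eq_prime (by decide) (by decide)
  · have h3 : 3 ≤ a * e := le_trans he (Nat.le_mul_of_pos_left e ha)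
    obtain ⟨r, hr, hre⟩ := Cfsg.Agent.Lib.Zsigmondy.exists_prime_orderOf (a := 2) le_rfl (by omega : 2 ≤ a * e) (by omega)
      (fun h' => h h'.2)
    refine ⟨r, hr, orderOf_two_pow ha hre, ?_⟩
    have := (prim_cond hr hre h3).2.2.2.2
    omega

/-- the chosen prime of class `e` -/
noncomputable def pr (a e : ℕ) : ℕ := open Classical in
  if h : ∃ r : ℕ, r.Prime ∧ orderOf ((2 ^ a : ℕ) : ZMod r) = e ∧ a * e + 1 ≤ r then h.choose else 0

theorem pr_spec {a e : ℕ} (ha : 1 ≤ a) (he : 3 ≤ e) (h6 : ¬ (a = 1 ∧ e = 6)) :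
    (pr a e).Prime ∧ orderOf ((2 ^ a : ℕ) : ZMod (pr a e)) = e ∧ a * e + 1 ≤ pr a e := by
  have h := exists_pr ha he h6
  rw [pr, dif_pos h]
  exact h.choose_spec

/-! ### cocliques -/

open Cfsg.Agent.H72.AdjOrth (eta)

theorem isEta_eta (e : ℕ) : IsEta e (eta e) := by
  rw [eta]
  split_ifs with h
  · right
    refine ⟨h, ?_⟩
    obtain ⟨k, rfl⟩ := h
    omega
  · exact Or.inl ⟨Nat.not_even_iff_odd.1 h, rfl⟩

/-- `E` is a set of classes which are pairwise nonadjacent -/
def Ok (a n : ℕ) (E : Finset ℕ) : Prop :=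
  (∀ e ∈ E, 3 ≤ e ∧ ¬ (a = 1 ∧ e = 6)) ∧ ∀ e ∈ E, ∀ f ∈ E, e ≠ f → eta f ≤ eta e →
    3 ≤ eta e ∧ n < eta f + eta e ∧ ¬ ∃ t : ℕ, Odd t ∧ e = f * t

section coq

variable {L : Type*} [Group L] {a n : ℕ} (ha : 1 ≤ a) (hna : NA L (2 ^ a) n) {E : Finset ℕ} (hE : Ok a n E)
  (hdiv : ∀ r : ℕ, ∀ e ∈ E, r.Prime → orderOf ((2 ^ a : ℕ) : ZMod r) = e → r ∣ Nat.card L)

include ha hna hE hdiv

theorem coq : Coq5 L (E.image (pr a)) := by
  refine ⟨⟨?_, ?_, ?_, ?_⟩, ?_⟩
  · intro r hr
    obtain ⟨e, he, rfl⟩ := Finset.mem_image.1 hr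
    exact (pr_spec ha (hE.1 e he).1 (hE.1 e he).2).1
  · intro r hr
    obtain ⟨e, he, rfl⟩ := Finset.mem_image.1 hr
    obtain ⟨h1, h2, -⟩ := pr_spec ha (hE.1 e he).1 (hE.1 e he).2
    exact hdiv _ e he h1 h2
  · intro r hr
    obtain ⟨e, he, rfl⟩ := Finset.mem_image.1 hr
    obtain ⟨h1, h2, -⟩ := pr_spec ha (hE.1 e he).1 (hE.1 e he).2
    exact (prim_cond h1 h2 (hE.1 e he).1).1
  · intro r hr s hs hrs
    obtain ⟨e, he, rfl⟩ := Finset.mem_image.1 hr
    obtain ⟨f, hf, rfl⟩ := Finset.mem_image.1 hs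
    obtain ⟨h1, h2, -⟩ := pr_spec ha (hE.1 e he).1 (hE.1 e he).2
    obtain ⟨g1, g2, -⟩ := pr_spec ha (hE.1 f hf).1 (hE.1 f hf).2
    have hef : e ≠ f := fun h => hrs (by rw [h])
    rcases le_total (eta f) (eta e) with h | h
    · obtain ⟨k1, k2, k3⟩ := hE.2 e he f hf hef h
      rintro ⟨x, hx⟩
      exact hna _ _ e f _ _ h1 g1 h2 g2 hrs (hE.1 e he).1 (hE.1 f hf).1 (isEta_eta e) (isEta_eta f) h (by omega) k2 k3 x hx
    · obtain ⟨k1, k2, k3⟩ := hE.2 f hf e he hef.symm h
      rintro ⟨x, hx⟩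
      exact hna _ _ f e _ _ g1 h1 g2 h2 hrs.symm (hE.1 f hf).1 (hE.1 e he).1 (isEta_eta f) (isEta_eta e) h (by omega)
        (by omega) k3 x (by rw [hx, mul_comm])
  · intro r hr
    obtain ⟨e, he, rfl⟩ := Finset.mem_image.1 hr
    obtain ⟨h1, h2, -⟩ := pr_spec ha (hE.1 e he).1 (hE.1 e he).2
    obtain ⟨h3, h4, -, -, h5⟩ := prim_cond h1 h2 (hE.1 e he).1
    have := h1.two_le
    have h6 : pr a e ≠ 4 := by
      intro h
      rw [h] at h1
      revert h1
      norm_num
    omega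

omit hna hdiv in
theorem card_coq : (E.image (pr a)).card = E.card := by
  refine Finset.card_image_of_injOn ?_
  intro e he f hf h
  have h1 := (pr_spec ha (hE.1 e he).1 (hE.1 e he).2).2.1
  have h2 := (pr_spec ha (hE.1 f hf).1 (hE.1 f hf).2).2.1
  rw [← h1, ← h2]
  have h3 : pr a e = pr a f := h
  rw [h3]

end coq

theorem eta_two_mul (k : ℕ) : eta (2 * k) = k := by
  rw [eta, if_pos (even_two_mul k)]
  omega

theorem eta_of_odd {k : ℕ} (h : Odd k) : eta k = k := by
  rw [eta, if_neg (Nat.not_even_iff_odd.2 h)]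

/-- no odd ratio -/
theorem ratio {e f : ℕ} (hne : e ≠ f) (h : eta e < 3 * eta f) : ¬ ∃ t : ℕ, Odd t ∧ e = f * t := by
  rintro ⟨t, ht, rfl⟩
  have h1 : eta (f * t) = eta f * t := by
    rcases Nat.even_or_odd f with hf | hf
    · obtain ⟨k, rfl⟩ := hf
      have h2 : (k + k) * t = 2 * (k * t) := by ring
      rw [h2, ← two_mul, eta_two_mul, eta_two_mul]
    · rw [eta_of_odd hf, eta_of_odd (hf.mul ht)]
  rw [h1] at h
  obtain ⟨k, rfl⟩ := ht
  rcases k with _ | k
  · omega
  · have : eta f * 3 ≤ eta f * (2 * (k + 1) + 1) := Nat.mul_le_mul_left _ (by omega)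
    omega

theorem Ok_of {a n : ℕ} {E : Finset ℕ} (hn : 4 ≤ n)
    (h1 : ∀ e ∈ E, 3 ≤ e ∧ ¬ (a = 1 ∧ e = 6) ∧ eta e ≤ n ∧ n < 3 * eta e)
    (h2 : ∀ e ∈ E, ∀ f ∈ E, e ≠ f → n < eta f + eta e) : Ok a n E := by
  refine ⟨fun e he => ⟨(h1 e he).1, (h1 e he).2.1⟩, fun e he f hf hne hle => ?_⟩
  have h3 := h2 e he f hf hne
  have h4 := h1 e he
  have h5 := h1 f hf
  exact ⟨by omega, h3, ratio hne (by omega)⟩

/-! ### the order bound -/

open Cfsg.Agent.H403

theorem TL_le {q : ℕ} {n L : ℕ} (h : TL q n L) : L ≤ (q + 1) ^ n ∧ 1 ≤ (q + 1) ^ n := by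
  have hpos : ∀ m, 1 ≤ (q + 1) ^ m := fun m => Nat.one_le_pow _ _ (by omega)
  refine ⟨?_, hpos n⟩
  induction h with
  | one n => exact hpos n
  | @pos n L k hk h ih =>
    have h1 : Nat.lcm (q ^ k - 1) L ≤ (q ^ k - 1) * L := by
      rcases Nat.eq_zero_or_pos ((q ^ k - 1) * L) with h0 | h0
      · rcases Nat.mul_eq_zero.1 h0 with h2 | h2
        · rw [h2, Nat.lcm_zero_left]; exact Nat.zero_le _
        · rw [h2, Nat.lcm_zero_right]; exact Nat.zero_le _
      · exact Nat.le_of_dvd h0 (Nat.lcm_dvd_mul _ _)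
    refine h1.trans ?_
    rw [add_comm n k, pow_add]
    refine Nat.mul_le_mul ?_ ih
    have h2 : q ^ k ≤ (q + 1) ^ k := Nat.pow_le_pow_left (by omega) k
    omega
  | @neg n L k hk h ih =>
    have h1 : Nat.lcm (q ^ k + 1) L ≤ (q ^ k + 1) * L := by
      rcases Nat.eq_zero_or_pos ((q ^ k + 1) * L) with h0 | h0
      · rcases Nat.mul_eq_zero.1 h0 with h2 | h2
        · omega
        · rw [h2, Nat.lcm_zero_right]; exact Nat.zero_le _
      · exact Nat.le_of_dvd h0 (Nat.lcm_dvd_mul _ _)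
    refine h1.trans ?_
    rw [add_comm n k, pow_add]
    refine Nat.mul_le_mul ?_ ih
    have h2 := pow_add_pow_le (Nat.zero_le q) (Nat.zero_le 1) (by omega : k ≠ 0)
    rwa [one_pow] at h2

section bound

variable {F : Type*} [Field F] [Finite F] [CharP F 2]

theorem two_pow_le_mb {q b : ℕ} (hq : 2 ≤ q) : 2 ^ b ≤ q ^ (2 * mb b) := by
  refine (Nat.pow_le_pow_right (by norm_num) ?_).trans (Nat.pow_le_pow_left hq _)
  match b with
  | 0 => exact Nat.zero_le _
  | 1 => change 1 ≤ 2 * 1; norm_num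
  | b + 2 =>
    change b + 2 ≤ 2 * (2 ^ b + 1)
    have := Nat.lt_two_pow_self (n := b)
    omega

theorem symp_order_le {n : ℕ} (M : Matrix.symplecticGroup (Fin n) F) : orderOf M ≤ Nat.card F ^ (2 * n) := by
  haveI := Fintype.ofFinite F
  obtain ⟨c, L, hc, hL, hM⟩ := exists_pow_eq_one_of_symplectic M.2
  rw [← Nat.card_eq_fintype_card] at hL
  have hq : 2 ≤ Nat.card F := Finite.one_lt_card
  have h1 : orderOf M ∣ L * 2 ^ c := by
    rw [orderOf_dvd_iff_pow_eq_one]
    exact Subtype.ext hM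
  have hL0 : 0 < L := (hL.odd even_natCard Nat.card_pos).pos
  have h2 := Nat.le_of_dvd (Nat.mul_pos hL0 (Nat.two_pow_pos _)) h1
  have h3 := (TL_le hL).1
  have h4 : (Nat.card F + 1) ^ (n - mb c) ≤ (Nat.card F) ^ (2 * (n - mb c)) := by
    rw [pow_mul]
    exact Nat.pow_le_pow_left (by nlinarith) _
  calc orderOf M ≤ L * 2 ^ c := h2
    _ ≤ Nat.card F ^ (2 * (n - mb c)) * Nat.card F ^ (2 * mb c) :=
      Nat.mul_le_mul (h3.trans h4) (two_pow_le_mb hq)
    _ = Nat.card F ^ (2 * n) := by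
      rw [← pow_add]
      congr 1
      omega

theorem PSp_order_le {n : ℕ} (hn : 1 ≤ n) (x : Cfsg.PSp n F) : orderOf x ≤ Nat.card F ^ (2 * n) := by
  obtain ⟨M, hM⟩ := (mem_range_PSp hn (orderOf x)).1 ⟨x, rfl⟩
  rw [← hM]
  exact symp_order_le M

end bound

theorem card4 {a b c d : ℕ} (h1 : a ≠ b) (h2 : a ≠ c) (h3 : a ≠ d) (h4 : b ≠ c) (h5 : b ≠ d) (h6 : c ≠ d) :
    4 ≤ ({a, b, c, d} : Finset ℕ).card := by
  have e : ({a, b, c, d} : Finset ℕ).card = 4 := by
    rw [Finset.card_insert_of_notMem (by simp [h1, h2, h3]), Finset.card_insert_of_notMem (by simp [h4, h5]),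
      Finset.card_insert_of_notMem (by simp [h6]), Finset.card_singleton]
  rw [e]

/-! ### assembly -/

section mk

variable {L : Type*} [Group L] {a n : ℕ} (ha : 1 ≤ a) (hna : NA L (2 ^ a) n)

include ha hna

theorem mk4 {E : Finset ℕ} (hE : Ok a n E)
    (hdiv : ∀ r : ℕ, ∀ e ∈ E, r.Prime → orderOf ((2 ^ a : ℕ) : ZMod r) = e → r ∣ Nat.card L)
    (h4 : ∀ r : ℕ, ∀ e ∈ E, r.Prime → orderOf ((2 ^ a : ℕ) : ZMod r) = e → ∀ x : L, ¬ 4 * r ∣ orderOf x)
    (hc : 4 ≤ E.card) : LDat L := by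
  refine ⟨E.image (pr a), coq ha hna hE hdiv, ?_, Or.inl (by rwa [card_coq ha hE])⟩
  intro r hr
  obtain ⟨e, he, rfl⟩ := Finset.mem_image.1 hr
  obtain ⟨h1, h2, -⟩ := pr_spec ha (hE.1 e he).1 (hE.1 e he).2
  rintro ⟨x, hx⟩
  exact h4 _ e he h1 h2 x (by rw [hx])

theorem mk3 {E D : Finset ℕ} (hD : Ok a n D) (hED : E ⊆ D) (hn : 3 ≤ n)
    (hdiv : ∀ r : ℕ, ∀ e ∈ D, r.Prime → orderOf ((2 ^ a : ℕ) : ZMod r) = e → r ∣ Nat.card L)
    (h4 : ∀ r : ℕ, ∀ e ∈ E, r.Prime → orderOf ((2 ^ a : ℕ) : ZMod r) = e → ∀ x : L, ¬ 4 * r ∣ orderOf x)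
    (hc : 3 ≤ E.card) (hcD : 4 ≤ D.card) (hM : ∀ x : L, orderOf x ≤ (2 ^ a) ^ (2 * n)) (hEn : ∀ e ∈ E, n ≤ e + 1) :
    LDat L := by
  have hE : Ok a n E := ⟨fun e he => hD.1 e (hED he), fun e he f hf => hD.2 e (hED he) f (hED hf)⟩
  refine ⟨E.image (pr a), coq ha hna hE (fun r e he => hdiv r e (hED he)), ?_, Or.inr ⟨by rwa [card_coq ha hE], ?_,
    _, hM, ?_⟩⟩
  · intro r hr
    obtain ⟨e, he, rfl⟩ := Finset.mem_image.1 hr
    obtain ⟨h1, h2, -⟩ := pr_spec ha (hE.1 e he).1 (hE.1 e he).2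
    rintro ⟨x, hx⟩
    exact h4 _ e he h1 h2 x (by rw [hx])
  · intro r hr
    obtain ⟨e, he, rfl⟩ := Finset.mem_image.1 hr
    exact ⟨D.image (pr a), coq ha hna hD hdiv, Finset.mem_image_of_mem _ (hED he), by rwa [card_coq ha hD]⟩
  · intro r hr
    obtain ⟨e, he, rfl⟩ := Finset.mem_image.1 hr
    obtain ⟨-, -, h3⟩ := pr_spec ha (hE.1 e he).1 (hE.1 e he).2
    have h5 := hEn e he
    have h6 : 9 ^ (a * e + 1) ≤ 9 ^ (pr a e) := Nat.pow_le_pow_right (by norm_num) h3
    have h7 : 8 ^ (a * (n - 1)) ≤ 9 ^ (a * e) :=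
      (Nat.pow_le_pow_right (by norm_num) (Nat.mul_le_mul_left a (by omega))).trans
        (Nat.pow_le_pow_left (by norm_num) _)
    have h8 : (2 ^ a) ^ (2 * n) ≤ 8 ^ (a * (n - 1)) := by
      have h9 : (8 : ℕ) = 2 ^ 3 := by norm_num
      rw [h9, ← pow_mul, ← pow_mul]
      apply Nat.pow_le_pow_right (by norm_num)
      have h10 : 2 * n ≤ 3 * (n - 1) := by omega
      calc a * (2 * n) ≤ a * (3 * (n - 1)) := Nat.mul_le_mul_left a h10
        _ = 3 * (a * (n - 1)) := by ring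
    have h11 : 1 ≤ (2 ^ a) ^ (2 * n) := Nat.one_le_pow _ _ (Nat.two_pow_pos a)
    rw [pow_succ] at h6
    omega

end mk

section types

variable {F : Type} [Field F] [Fintype F] [CharP F 2] {n : ℕ}

theorem exists_a (F : Type) [Field F] [Fintype F] [CharP F 2] : ∃ a, 1 ≤ a ∧ Nat.card F = 2 ^ a := by
  obtain ⟨k, -, hk⟩ := FiniteField.card F 2
  exact ⟨k, k.pos, by rw [Nat.card_eq_fintype_card, hk]⟩

theorem dvd_psp (hn : 3 ≤ n) {r e : ℕ} (hr : r.Prime) (he : orderOf ((Nat.card F : ℕ) : ZMod r) = e) (h3 : 3 ≤ e)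
    (hle : eta e ≤ n) : r ∣ Nat.card (PSp n F) := by
  have hq : Nat.card F = Fintype.card F := Nat.card_eq_fintype_card
  have hq1 : 1 < Nat.card F := Finite.one_lt_card
  obtain ⟨hr2, hr3, hrq, -, -⟩ := prim_cond hr he h3
  have h1 : r ∣ Nat.card (Matrix.symplecticGroup (Fin n) F) := by
    rw [Cfsg.Agent.S0245.result (F := F) rfl n]
    apply Dvd.dvd.mul_left
    rw [← hq]
    exact dvd_of_eta hq1.le he (isEta_eta e) ((isEta_eta e).ne (by omega)) hle
  have := Fact.mk hr
  obtain ⟨y, hy⟩ := exists_prime_orderOf_dvd_card' r h1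
  obtain ⟨x, hx⟩ := (mem_range_PSp (F := F) (n := n) (by omega) r).2 ⟨y, hy⟩
  rw [← hx]
  exact orderOf_dvd_natCard x

/-- **`Sp_{2n}(q)`, `q` even, `n ≥ 5`** -/
theorem ldat_psp (hn : 5 ≤ n) : LDat (PSp n F) := by
  obtain ⟨a, ha, haF⟩ := exists_a F
  have hna : NA (PSp n F) (2 ^ a) n := by
    rw [← haF]
    exact na_psp (by omega) (by omega)
  have hM : ∀ x : PSp n F, orderOf x ≤ (2 ^ a) ^ (2 * n) := by
    intro x
    rw [← haF]
    exact PSp_order_le (by omega) x
  have h4 : ∀ r e : ℕ, r.Prime → orderOf ((2 ^ a : ℕ) : ZMod r) = e → 3 ≤ e → n ≤ eta e + 1 →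
      ∀ x : PSp n F, ¬ 4 * r ∣ orderOf x := by
    intro r e hr he h3 hle x
    rw [← haF] at he
    refine SpecE.PSp_four (by omega) hr (prim_cond hr he h3).1 ?_ x
    rw [H72.AdjOrth.ee, he]
    exact hle
  have hdiv : ∀ r e : ℕ, r.Prime → orderOf ((2 ^ a : ℕ) : ZMod r) = e → 3 ≤ e → eta e ≤ n → r ∣ Nat.card (PSp n F) := by
    intro r e hr he h3 hle
    rw [← haF] at he
    exact dvd_psp (by omega) hr he h3 hle
  rcases Nat.even_or_odd n with hev | hodd
  · obtain ⟨m, hm⟩ := hev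
    have o1 : Odd (n - 1) := ⟨m - 1, by omega⟩
    have o3 : Odd (n - 3) := ⟨m - 2, by omega⟩
    refine mk3 ha hna (E := {2 * n, 2 * (n - 1), n - 1}) (D := {2 * n, 2 * (n - 1), n - 1, n - 3}) (Ok_of (by omega) ?_ ?_)
      ?_ (by omega) ?_ ?_ ?_ ?_ hM ?_
    · intro e he
      simp only [Finset.mem_insert, Finset.mem_singleton] at he
      rcases he with rfl | rfl | rfl | rfl
      · rw [eta_two_mul]; omega
      · rw [eta_two_mul]; omega
      · rw [eta_of_odd o1]; omega
      · rw [eta_of_odd o3]; omega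
    · intro e he f hf hne
      simp only [Finset.mem_insert, Finset.mem_singleton] at he hf
      rcases he with rfl | rfl | rfl | rfl <;> rcases hf with rfl | rfl | rfl | rfl <;>
        simp only [eta_two_mul, eta_of_odd o1, eta_of_odd o3] <;> omega
    · intro e he
      simp only [Finset.mem_insert, Finset.mem_singleton] at he ⊢
      tauto
    · intro r e he hr hre
      refine hdiv r e hr hre ?_ ?_
      · simp only [Finset.mem_insert, Finset.mem_singleton] at he
        omega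
      · simp only [Finset.mem_insert, Finset.mem_singleton] at he
        rcases he with rfl | rfl | rfl | rfl <;> simp only [eta_two_mul, eta_of_odd o1, eta_of_odd o3] <;> omega
    · intro r e he hr hre
      refine h4 r e hr hre ?_ ?_
      · simp only [Finset.mem_insert, Finset.mem_singleton] at he
        omega
      · simp only [Finset.mem_insert, Finset.mem_singleton] at he
        rcases he with rfl | rfl | rfl <;> simp only [eta_two_mul, eta_of_odd o1] <;> omega
    · rw [Finset.card_eq_three.2 ⟨_, _, _, by omega, by omega, by omega, rfl⟩]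
    · exact card4 (by omega) (by omega) (by omega) (by omega) (by omega) (by omega)
    · intro e he
      simp only [Finset.mem_insert, Finset.mem_singleton] at he
      omega
  · obtain ⟨m, hm⟩ := hodd
    have o0 : Odd n := ⟨m, hm⟩
    have o2 : Odd (n - 2) := ⟨m - 1, by omega⟩
    refine mk3 ha hna (E := {2 * n, n, 2 * (n - 1)}) (D := {2 * n, n, 2 * (n - 1), n - 2}) (Ok_of (by omega) ?_ ?_)
      ?_ (by omega) ?_ ?_ ?_ ?_ hM ?_
    · intro e he
      simp only [Finset.mem_insert, Finset.mem_singleton] at he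
      rcases he with rfl | rfl | rfl | rfl
      · rw [eta_two_mul]; omega
      · rw [eta_of_odd o0]; omega
      · rw [eta_two_mul]; omega
      · rw [eta_of_odd o2]; omega
    · intro e he f hf hne
      simp only [Finset.mem_insert, Finset.mem_singleton] at he hf
      rcases he with rfl | rfl | rfl | rfl <;> rcases hf with rfl | rfl | rfl | rfl <;>
        simp only [eta_two_mul, eta_of_odd o0, eta_of_odd o2] <;> omega
    · intro e he
      simp only [Finset.mem_insert, Finset.mem_singleton] at he ⊢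
      tauto
    · intro r e he hr hre
      refine hdiv r e hr hre ?_ ?_
      · simp only [Finset.mem_insert, Finset.mem_singleton] at he
        omega
      · simp only [Finset.mem_insert, Finset.mem_singleton] at he
        rcases he with rfl | rfl | rfl | rfl <;> simp only [eta_two_mul, eta_of_odd o0, eta_of_odd o2] <;> omega
    · intro r e he hr hre
      refine h4 r e hr hre ?_ ?_
      · simp only [Finset.mem_insert, Finset.mem_singleton] at he
        omega
      · simp only [Finset.mem_insert, Finset.mem_singleton] at he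
        rcases he with rfl | rfl | rfl <;> simp only [eta_two_mul, eta_of_odd o0] <;> omega
    · rw [Finset.card_eq_three.2 ⟨_, _, _, by omega, by omega, by omega, rfl⟩]
    · exact card4 (by omega) (by omega) (by omega) (by omega) (by omega) (by omega)
    · intro e he
      simp only [Finset.mem_insert, Finset.mem_singleton] at he
      omega

theorem pomega_order_le {ι : Type} [Fintype ι] [DecidableEq ι] (Q : QuadraticForm F (ι → F))
    (hQ : (QuadraticMap.polarBilin Q).Nondegenerate) (hn : 3 ≤ n) (hι : Fintype.card ι = 2 * n)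
    (hs : ∃ u : ι → F, u ≠ 0 ∧ Q u = 0) (x : POmega F (⇑Q)) : orderOf x ≤ Nat.card F ^ (2 * n) := by
  obtain ⟨y, h1, h2, -⟩ := SpecE.exists_lin_pomega Q hQ (by omega) (by rw [hι]; exact even_two_mul n) hs x
  obtain ⟨M, hM⟩ := exists_symplectic_of_quad Q (fun x hx => hQ.1 x hx) (n := n)
    (by rw [Module.finrank_fintype_fun_eq_card, hι]) y h2
  rw [← h1, ← hM]
  exact symp_order_le M

open Cfsg.Agent.LieClassical.OrthCount Cfsg.Agent.LieClassical.OmegaReindex Cfsg.Agent.LieClassical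

theorem dvd_minus (hn : 4 ≤ n) {b c : F} (hab : ∀ z₁ z₂ : F, z₁ ^ 2 + b * z₁ * z₂ + c * z₂ ^ 2 = 0 → z₁ = 0 ∧ z₂ = 0)
    {r e : ℕ} (hr : r.Prime) (he : orderOf ((Nat.card F : ℕ) : ZMod r) = e) (h3 : 3 ≤ e)
    (hle : eta e ≤ n - 1 ∨ e = 2 * n) : r ∣ Nat.card (POmega F (quadFormMinus (n - 1) F b c)) := by
  have hq : Nat.card F = Fintype.card F := Nat.card_eq_fintype_card
  have hq1 : 1 < Nat.card F := Finite.one_lt_card
  have hord := Cfsg.Agent.S0294.result (F := F) rfl n hn b c hab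
  obtain ⟨hr2, hr3, hrq, -, -⟩ := prim_cond hr he h3
  rcases hle with hle | rfl
  · refine dvd_of_gcd_mul hr hr2 hord (dvd_mul_of_dvd_right ?_ _)
    rw [← hq]
    exact dvd_of_eta hq1.le he (isEta_eta e) ((isEta_eta e).ne (by omega)) hle
  · refine dvd_of_gcd_mul hr hr2 hord (dvd_mul_of_dvd_left (dvd_mul_of_dvd_right ?_ _) _)
    have h1 := pow_dvd_add_one (a := 1) hr hq1.le (by omega) he (by rw [pow_one]; exact dvd_of_orderOf hq1.le he dvd_rfl)
    rwa [pow_one, hq] at h1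

theorem dvd_plus (hn : 4 ≤ n) {r e : ℕ} (hr : r.Prime) (he : orderOf ((Nat.card F : ℕ) : ZMod r) = e) (h3 : 3 ≤ e)
    (hle : eta e ≤ n - 1 ∨ e = n) : r ∣ Nat.card (POmega F (quadFormPlus n F)) := by
  have hq : Nat.card F = Fintype.card F := Nat.card_eq_fintype_card
  have hq1 : 1 < Nat.card F := Finite.one_lt_card
  have hord := Cfsg.Agent.S0293.result (F := F) rfl n hn
  obtain ⟨hr2, hr3, hrq, -, -⟩ := prim_cond hr he h3
  rcases hle with hle | rfl
  · refine dvd_of_gcd_mul hr hr2 hord (dvd_mul_of_dvd_right ?_ _)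
    rw [← hq]
    exact dvd_of_eta hq1.le he (isEta_eta e) ((isEta_eta e).ne (by omega)) hle
  · refine dvd_of_gcd_mul hr hr2 hord (dvd_mul_of_dvd_left (dvd_mul_of_dvd_right ?_ _) _)
    rw [← hq]
    exact dvd_of_orderOf hq1.le he dvd_rfl

theorem na_minus (hn : 4 ≤ n) {b c : F} (hab : ∀ z₁ z₂ : F, z₁ ^ 2 + b * z₁ * z₂ + c * z₂ ^ 2 = 0 → z₁ = 0 ∧ z₂ = 0) :
    NA (POmega F (quadFormMinus (n - 1) F b c)) (Nat.card F) n := by
  have hcard : Fintype.card ((Fin (n - 1) ⊕ Fin (n - 1)) ⊕ Fin 2) = 2 * n := by simp; omega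
  have hD : Lift.Data (quadMinus (n - 1) F b c) := data_of _ (quadMinus_nondegenerate hab) (by rw [hcard]; omega)
    (quadMinus_isotropic (by omega) b c) (Or.inr (by rw [hcard]; omega))
  rw [← coe_quadMinus]
  exact na_pomega hD (n := n) (by rw [hcard]; omega)

theorem na_plus (hn : 4 ≤ n) : NA (POmega F (quadFormPlus n F)) (Nat.card F) n := by
  have hcard : Fintype.card (Fin n ⊕ Fin n) = 2 * n := by simp; ring
  have hD : Lift.Data (quadPlus n F) := data_of _ quadPlus_nondegenerate (by rw [hcard]; omega)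
    (quadPlus_isotropic (by omega)) (Or.inr (by rw [hcard]; omega))
  rw [← coe_quadPlus]
  exact na_pomega hD (n := n) (by rw [hcard]; omega)

theorem plus_order_le (hn : 3 ≤ n) (x : POmega F (quadFormPlus n F)) : orderOf x ≤ Nat.card F ^ (2 * n) := by
  have hnd := quadPlus_nondegenerate (m := n) (F := F)
  have hs := Cfsg.Agent.H150.quadPlus_sing (F := F) (n := n) (by omega)
  revert x
  rw [← coe_quadPlus]
  intro x
  exact pomega_order_le (quadPlus n F) hnd hn (by simp; ring) hs x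

theorem minus_order_le (hn : 3 ≤ n) {b c : F} (hab : ∀ z₁ z₂ : F, z₁ ^ 2 + b * z₁ * z₂ + c * z₂ ^ 2 = 0 → z₁ = 0 ∧ z₂ = 0)
    (x : POmega F (quadFormMinus (n - 1) F b c)) : orderOf x ≤ Nat.card F ^ (2 * n) := by
  have hnd := quadMinus_nondegenerate (m := n - 1) (F := F) hab
  have hs := Cfsg.Agent.H150.quadMinus_sing (F := F) (n := n - 1) (by omega) b c
  revert x
  rw [← coe_quadMinus]
  intro x
  exact pomega_order_le (quadMinus (n - 1) F b c) hnd hn (by simp; omega) hs x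

/-- **`Ω⁻_{2n}(q)`, `q` even, `n ≥ 4`** (not `n ≤ 5`, `q = 2`) -/
theorem ldat_minus (hn : 4 ≤ n) (hq2 : Nat.card F = 2 → 6 ≤ n) {b c : F}
    (hab : ∀ z₁ z₂ : F, z₁ ^ 2 + b * z₁ * z₂ + c * z₂ ^ 2 = 0 → z₁ = 0 ∧ z₂ = 0) :
    LDat (POmega F (quadFormMinus (n - 1) F b c)) := by
  obtain ⟨a, ha, haF⟩ := exists_a F
  have ha1 : a = 1 → 6 ≤ n := by
    rintro rfl
    exact hq2 (by rw [haF, pow_one])
  have hna : NA (POmega F (quadFormMinus (n - 1) F b c)) (2 ^ a) n := by
    rw [← haF]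
    exact na_minus hn hab
  have h4 : ∀ r e : ℕ, r.Prime → orderOf ((2 ^ a : ℕ) : ZMod r) = e → 3 ≤ e → n ≤ eta e + 2 →
      ∀ x : POmega F (quadFormMinus (n - 1) F b c), ¬ 4 * r ∣ orderOf x := by
    intro r e hr he h3 hle x
    rw [← haF] at he
    refine SpecE.minus_four hab hn hr (prim_cond hr he h3).1 ?_ x
    rw [H72.AdjOrth.ee, he]
    exact hle
  have hdiv : ∀ r e : ℕ, r.Prime → orderOf ((2 ^ a : ℕ) : ZMod r) = e → 3 ≤ e → (eta e ≤ n - 1 ∨ e = 2 * n) →
      r ∣ Nat.card (POmega F (quadFormMinus (n - 1) F b c)) := by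
    intro r e hr he h3 hle
    rw [← haF] at he
    exact dvd_minus hn hab hr he h3 hle
  obtain ⟨k, hk, hk1⟩ : ∃ k, Odd k ∧ (k = n - 1 ∨ k = n - 2) := by
    rcases Nat.even_or_odd n with ⟨m, hm⟩ | ⟨m, hm⟩
    · exact ⟨n - 1, ⟨m - 1, by omega⟩, Or.inl rfl⟩
    · exact ⟨n - 2, ⟨m - 1, by omega⟩, Or.inr rfl⟩
  have hk3 : 3 ≤ k := by
    obtain ⟨j, hj⟩ := hk
    omega
  have hkp : n = 4 → k = 3 := by
    rintro rfl
    obtain ⟨j, hj⟩ := hk
    omega
  refine mk4 ha hna (E := {2 * n, 2 * (n - 1), 2 * (n - 2), k}) (Ok_of (by omega) ?_ ?_) ?_ ?_ ?_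
  · intro e he
    simp only [Finset.mem_insert, Finset.mem_singleton] at he
    rcases he with rfl | rfl | rfl | rfl
    · rw [eta_two_mul]; omega
    · rw [eta_two_mul]; omega
    · rw [eta_two_mul]; omega
    · rw [eta_of_odd hk]
      obtain ⟨j, hj⟩ := hk
      omega
  · intro e he f hf hne
    simp only [Finset.mem_insert, Finset.mem_singleton] at he hf
    rcases he with rfl | rfl | rfl | rfl <;> rcases hf with rfl | rfl | rfl | rfl <;>
      simp only [eta_two_mul, eta_of_odd hk] <;> omega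
  · intro r e he hr hre
    simp only [Finset.mem_insert, Finset.mem_singleton] at he
    refine hdiv r e hr hre (by omega) ?_
    rcases he with rfl | rfl | rfl | rfl
    · exact Or.inr rfl
    · left; rw [eta_two_mul]
    · left; rw [eta_two_mul]; omega
    · left; rw [eta_of_odd hk]; omega
  · intro r e he hr hre
    simp only [Finset.mem_insert, Finset.mem_singleton] at he
    refine h4 r e hr hre (by omega) ?_
    rcases he with rfl | rfl | rfl | rfl <;> simp only [eta_two_mul, eta_of_odd hk] <;> omega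
  · obtain ⟨j, hj⟩ := hk
    exact card4 (by omega) (by omega) (by omega) (by omega) (by omega) (by omega)

/-- **`Ω⁺_{2n}(q)`, `q` even, `n ≥ 5`** (not `n = 5`, `q = 2`) -/
theorem ldat_plus (hn : 5 ≤ n) (hq2 : Nat.card F = 2 → 6 ≤ n) : LDat (POmega F (quadFormPlus n F)) := by
  obtain ⟨a, ha, haF⟩ := exists_a F
  have ha1 : a = 1 → 6 ≤ n := by
    rintro rfl
    exact hq2 (by rw [haF, pow_one])
  have hna : NA (POmega F (quadFormPlus n F)) (2 ^ a) n := by
    rw [← haF]
    exact na_plus (by omega)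
  have hM : ∀ x : POmega F (quadFormPlus n F), orderOf x ≤ (2 ^ a) ^ (2 * n) := by
    intro x
    rw [← haF]
    exact plus_order_le (by omega) x
  have h4 : ∀ r e : ℕ, r.Prime → orderOf ((2 ^ a : ℕ) : ZMod r) = e → 3 ≤ e → n ≤ eta e + 2 →
      ∀ x : POmega F (quadFormPlus n F), ¬ 4 * r ∣ orderOf x := by
    intro r e hr he h3 hle x
    rw [← haF] at he
    refine SpecE.plus_four (by omega) hr (prim_cond hr he h3).1 ?_ x
    rw [H72.AdjOrth.ee, he]
    exact hle
  have hdiv : ∀ r e : ℕ, r.Prime → orderOf ((2 ^ a : ℕ) : ZMod r) = e → 3 ≤ e → (eta e ≤ n - 1 ∨ e = n) →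
      r ∣ Nat.card (POmega F (quadFormPlus n F)) := by
    intro r e hr he h3 hle
    rw [← haF] at he
    exact dvd_plus (by omega) hr he h3 hle
  rcases Nat.even_or_odd n with hev | hodd
  · obtain ⟨m, hm⟩ := hev
    have o1 : Odd (n - 1) := ⟨m - 1, by omega⟩
    have o3 : Odd (n - 3) := ⟨m - 2, by omega⟩
    refine mk3 ha hna (E := {n - 1, 2 * (n - 1), 2 * (n - 2)}) (D := {n - 1, 2 * (n - 1), 2 * (n - 2), n - 3})
      (Ok_of (by omega) ?_ ?_) ?_ (by omega) ?_ ?_ ?_ ?_ hM ?_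
    · intro e he
      simp only [Finset.mem_insert, Finset.mem_singleton] at he
      rcases he with rfl | rfl | rfl | rfl
      · rw [eta_of_odd o1]; omega
      · rw [eta_two_mul]; omega
      · rw [eta_two_mul]; omega
      · rw [eta_of_odd o3]; omega
    · intro e he f hf hne
      simp only [Finset.mem_insert, Finset.mem_singleton] at he hf
      rcases he with rfl | rfl | rfl | rfl <;> rcases hf with rfl | rfl | rfl | rfl <;>
        simp only [eta_two_mul, eta_of_odd o1, eta_of_odd o3] <;> omega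
    · intro e he
      simp only [Finset.mem_insert, Finset.mem_singleton] at he ⊢
      tauto
    · intro r e he hr hre
      refine hdiv r e hr hre ?_ ?_
      · simp only [Finset.mem_insert, Finset.mem_singleton] at he
        omega
      · simp only [Finset.mem_insert, Finset.mem_singleton] at he
        rcases he with rfl | rfl | rfl | rfl <;> simp only [eta_two_mul, eta_of_odd o1, eta_of_odd o3] <;> omega
    · intro r e he hr hre
      refine h4 r e hr hre ?_ ?_
      · simp only [Finset.mem_insert, Finset.mem_singleton] at he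
        omega
      · simp only [Finset.mem_insert, Finset.mem_singleton] at he
        rcases he with rfl | rfl | rfl <;> simp only [eta_two_mul, eta_of_odd o1] <;> omega
    · rw [Finset.card_eq_three.2 ⟨_, _, _, by omega, by omega, by omega, rfl⟩]
    · exact card4 (by omega) (by omega) (by omega) (by omega) (by omega) (by omega)
    · intro e he
      simp only [Finset.mem_insert, Finset.mem_singleton] at he
      omega
  · obtain ⟨m, hm⟩ := hodd
    have o0 : Odd n := ⟨m, hm⟩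
    have o2 : Odd (n - 2) := ⟨m - 1, by omega⟩
    refine mk4 ha hna (E := {n, 2 * (n - 1), 2 * (n - 2), n - 2}) (Ok_of (by omega) ?_ ?_) ?_ ?_ ?_
    · intro e he
      simp only [Finset.mem_insert, Finset.mem_singleton] at he
      rcases he with rfl | rfl | rfl | rfl
      · rw [eta_of_odd o0]; omega
      · rw [eta_two_mul]; omega
      · rw [eta_two_mul]; omega
      · rw [eta_of_odd o2]; omega
    · intro e he f hf hne
      simp only [Finset.mem_insert, Finset.mem_singleton] at he hf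
      rcases he with rfl | rfl | rfl | rfl <;> rcases hf with rfl | rfl | rfl | rfl <;>
        simp only [eta_two_mul, eta_of_odd o0, eta_of_odd o2] <;> omega
    · intro r e he hr hre
      simp only [Finset.mem_insert, Finset.mem_singleton] at he
      refine hdiv r e hr hre (by omega) ?_
      rcases he with rfl | rfl | rfl | rfl
      · exact Or.inr rfl
      · left; rw [eta_two_mul]
      · left; rw [eta_two_mul]; omega
      · left; rw [eta_of_odd o2]; omega
    · intro r e he hr hre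
      simp only [Finset.mem_insert, Finset.mem_singleton] at he
      refine h4 r e hr hre (by omega) ?_
      rcases he with rfl | rfl | rfl | rfl <;> simp only [eta_two_mul, eta_of_odd o0, eta_of_odd o2] <;> omega
    · exact card4 (by omega) (by omega) (by omega) (by omega) (by omega) (by omega)

end types

end Cfsg.Agent.H75.LDat
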