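import Cfsg.Agent.H75.LDat

/-!
# The data of `Ω⁻_8(2)`, `Ω⁻_10(2)`, `Ω⁺_10(2)` for the elimination of the classical groups of odd characteristic
(helper75)

`lq_minus_four`, `lq_minus_five`, `lq_plus_five`.
-/

set_option autoImplicit false
set_option linter.unusedSectionVars false
set_option linter.style.haveILetI false

namespace Cfsg.Agent.H75.LDat

open Module Cfsg
open Cfsg.Agent.H390 Cfsg.Agent.H390.NonAdj
open Cfsg.Agent.H228.E3
open Cfsg.Agent.H72.WGr (OCoc)
open Cfsg.Agent.H72.AdjOrth (eta)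

/-- a coclique from a set of primes with their classes -/
theorem coq_list {L : Type*} [Group L] {q n : ℕ} (hn : 4 ≤ n) (hna : NA L q n) {A : Finset ℕ} (c : ℕ → ℕ)
    (hp : ∀ r ∈ A, r.Prime ∧ orderOf ((q : ℕ) : ZMod r) = c r ∧ 3 ≤ c r ∧ r ∣ Nat.card L ∧ eta (c r) ≤ n ∧ n < 3 * eta (c r))
    (h2 : ∀ r ∈ A, ∀ s ∈ A, r ≠ s → c r ≠ c s ∧ n < eta (c s) + eta (c r)) : Coq5 L A := by
  refine ⟨⟨fun r hr => (hp r hr).1, fun r hr => (hp r hr).2.2.2.1,
    fun r hr => (prim_cond (hp r hr).1 (hp r hr).2.1 (hp r hr).2.2.1).1, ?_⟩, ?_⟩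
  · intro r hr s hs hrs
    obtain ⟨h1, h3, h5, -, h6, h7⟩ := hp r hr
    obtain ⟨g1, g3, g5, -, g6, g7⟩ := hp s hs
    obtain ⟨k1, k2⟩ := h2 r hr s hs hrs
    rcases le_total (eta (c s)) (eta (c r)) with h | h
    · rintro ⟨x, hx⟩
      exact hna r s _ _ _ _ h1 g1 h3 g3 hrs h5 g5 (isEta_eta _) (isEta_eta _) h (by omega) (by omega)
        (ratio k1 (by omega)) x hx
    · rintro ⟨x, hx⟩
      exact hna s r _ _ _ _ g1 h1 g3 h3 hrs.symm g5 h5 (isEta_eta _) (isEta_eta _) h (by omega) (by omega)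
        (ratio k1.symm (by omega)) x (by rw [hx, mul_comm])
  · intro r hr
    obtain ⟨h1, h3, h5, -, h6, h7⟩ := hp r hr
    obtain ⟨h8, h9, -, -, h10⟩ := prim_cond h1 h3 h5
    have h11 : r ≠ 4 := by
      rintro rfl
      revert h1
      norm_num
    omega

theorem ord5 : orderOf ((2 : ℕ) : ZMod 5) = 4 := by
  have h := orderOf_eq_prime_pow (p := 2) (n := 1) (x := ((2 : ℕ) : ZMod 5)) (by decide) (by decide)
  exact h

theorem ord7 : orderOf ((2 : ℕ) : ZMod 7) = 3 := by
  have : Fact (Nat.Prime 3) := ⟨by norm_num⟩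
  exact orderOf_eq_prime (by decide) (by decide)

theorem ord17 : orderOf ((2 : ℕ) : ZMod 17) = 8 := by
  have h := orderOf_eq_prime_pow (p := 2) (n := 2) (x := ((2 : ℕ) : ZMod 17)) (by decide) (by decide)
  exact h

theorem ord31 : orderOf ((2 : ℕ) : ZMod 31) = 5 := by
  have : Fact (Nat.Prime 5) := ⟨by norm_num⟩
  exact orderOf_eq_prime (by decide) (by decide)

theorem ord11 : orderOf ((2 : ℕ) : ZMod 11) = 10 := by
  apply orderOf_eq_of_pow_and_pow_div_prime (by norm_num) (by decide)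
  intro p hp hpd
  have h1 : p ∣ 2 * 5 := hpd
  rcases hp.dvd_mul.1 h1 with h | h
  · rw [(Nat.prime_dvd_prime_iff_eq hp Nat.prime_two).1 h]
    decide
  · rw [(Nat.prime_dvd_prime_iff_eq hp (by norm_num)).1 h]
    decide

/-- the class of a prime for `q = 2` -/
def cls (r : ℕ) : ℕ := if r = 5 then 4 else if r = 7 then 3 else if r = 17 then 8 else if r = 31 then 5 else 10

theorem primes_of_dvd {r a b c d e f g : ℕ} (hr : r.Prime)
    (h : r ∣ 2 ^ a * 3 ^ b * 5 ^ c * 7 ^ d * 17 ^ e * 11 ^ f * 31 ^ g) :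
    r = 2 ∨ r = 3 ∨ r = 5 ∨ r = 7 ∨ r = 17 ∨ (r = 11 ∧ f ≠ 0) ∨ (r = 31 ∧ g ≠ 0) := by
  have key : ∀ p k : ℕ, p.Prime → r ∣ p ^ k → r = p ∧ k ≠ 0 := by
    intro p k hp hk
    refine ⟨(Nat.prime_dvd_prime_iff_eq hr hp).1 (hr.dvd_of_dvd_pow hk), ?_⟩
    rintro rfl
    rw [pow_zero] at hk
    exact hr.one_lt.ne' (Nat.dvd_one.1 hk)
  simp only [hr.dvd_mul] at h
  rcases h with ((((((h | h) | h) | h) | h) | h) | h)
  · have := key 2 a (by norm_num) h; tauto
  · have := key 3 b (by norm_num) h; tauto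
  · have := key 5 c (by norm_num) h; tauto
  · have := key 7 d (by norm_num) h; tauto
  · have := key 17 e (by norm_num) h; tauto
  · have := key 11 f (by norm_num) h; tauto
  · have := key 31 g (by norm_num) h; tauto

section

variable {F : Type} [Field F] [Fintype F] [CharP F 2] (hF : Nat.card F = 2)

include hF

theorem minus_card_four {b c : F} (hab : ∀ z₁ z₂ : F, z₁ ^ 2 + b * z₁ * z₂ + c * z₂ ^ 2 = 0 → z₁ = 0 ∧ z₂ = 0) :
    Nat.card (POmega F (quadFormMinus 3 F b c)) = 2 ^ 12 * 3 ^ 4 * 5 ^ 1 * 7 ^ 1 * 17 ^ 1 * 11 ^ 0 * 31 ^ 0 := by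
  have hord := Cfsg.Agent.S0294.result (F := F) rfl 4 le_rfl b c hab
  rw [← Nat.card_eq_fintype_card, hF] at hord
  norm_num [Finset.prod_range_succ] at hord
  rw [hord]
  norm_num

theorem minus_card_five {b c : F} (hab : ∀ z₁ z₂ : F, z₁ ^ 2 + b * z₁ * z₂ + c * z₂ ^ 2 = 0 → z₁ = 0 ∧ z₂ = 0) :
    Nat.card (POmega F (quadFormMinus 4 F b c)) = 2 ^ 20 * 3 ^ 6 * 5 ^ 2 * 7 ^ 1 * 17 ^ 1 * 11 ^ 1 * 31 ^ 0 := by
  have hord := Cfsg.Agent.S0294.result (F := F) rfl 5 (by norm_num) b c hab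
  rw [← Nat.card_eq_fintype_card, hF] at hord
  norm_num [Finset.prod_range_succ] at hord
  rw [hord]
  norm_num

theorem plus_card_five :
    Nat.card (POmega F (quadFormPlus 5 F)) = 2 ^ 20 * 3 ^ 5 * 5 ^ 2 * 7 ^ 1 * 17 ^ 1 * 11 ^ 0 * 31 ^ 1 := by
  have hord := Cfsg.Agent.S0293.result (F := F) rfl 5 (by norm_num)
  rw [← Nat.card_eq_fintype_card, hF] at hord
  norm_num [Finset.prod_range_succ] at hord
  rw [hord]
  norm_num

theorem lq_minus_four {b c : F} (hab : ∀ z₁ z₂ : F, z₁ ^ 2 + b * z₁ * z₂ + c * z₂ ^ 2 = 0 → z₁ = 0 ∧ z₂ = 0) :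
    LQ2 (POmega F (quadFormMinus 3 F b c)) {5, 7, 17} {2, 3, 5, 7, 17} {17} := by
  have hcard := minus_card_four hF hab
  have hna := na_minus (F := F) (n := 4) le_rfl hab
  rw [hF] at hna
  refine ⟨coq_list (n := 4) le_rfl hna cls ?_ ?_, ?_, ?_, ?_⟩
  · intro r hr
    simp only [Finset.mem_insert, Finset.mem_singleton] at hr
    rcases hr with rfl | rfl | rfl
    · exact ⟨by norm_num, ord5, by decide, by rw [hcard]; norm_num, by decide, by decide⟩
    · exact ⟨by norm_num, ord7, by decide, by rw [hcard]; norm_num, by decide, by decide⟩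
    · exact ⟨by norm_num, ord17, by decide, by rw [hcard]; norm_num, by decide, by decide⟩
  · decide
  · intro r hr h
    rw [hcard] at h
    have := primes_of_dvd hr h
    simp only [Finset.mem_insert, Finset.mem_singleton]
    tauto
  · intro t ht
    rw [Finset.mem_singleton] at ht
    subst ht
    refine ⟨by rw [hcard]; norm_num, ?_⟩
    rintro ⟨x, hx⟩
    refine SpecE.minus_two hab (n := 4) (r := 17) (by norm_num) (by norm_num) (by norm_num) ?_ x (by rw [hx])
    rw [H72.AdjOrth.ee, hF, ord17]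
    decide
  · intro x
    have h1 := minus_order_le (n := 4) (by norm_num) hab x
    rw [hF] at h1
    exact h1.trans (by norm_num)

theorem lq_minus_five {b c : F} (hab : ∀ z₁ z₂ : F, z₁ ^ 2 + b * z₁ * z₂ + c * z₂ ^ 2 = 0 → z₁ = 0 ∧ z₂ = 0) :
    LQ2 (POmega F (quadFormMinus 4 F b c)) {7, 11, 17} {2, 3, 5, 7, 11, 17} {11, 17} := by
  have hcard := minus_card_five hF hab
  have hna := na_minus (F := F) (n := 5) (by norm_num) hab
  rw [hF] at hna
  refine ⟨coq_list (n := 5) (by norm_num) hna cls ?_ ?_, ?_, ?_, ?_⟩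
  · intro r hr
    simp only [Finset.mem_insert, Finset.mem_singleton] at hr
    rcases hr with rfl | rfl | rfl
    · exact ⟨by norm_num, ord7, by decide, by rw [hcard]; norm_num, by decide, by decide⟩
    · exact ⟨by norm_num, ord11, by decide, by rw [hcard]; norm_num, by decide, by decide⟩
    · exact ⟨by norm_num, ord17, by decide, by rw [hcard]; norm_num, by decide, by decide⟩
  · decide
  · intro r hr h
    rw [hcard] at h
    have := primes_of_dvd hr h
    simp only [Finset.mem_insert, Finset.mem_singleton]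
    tauto
  · intro t ht
    simp only [Finset.mem_insert, Finset.mem_singleton] at ht
    rcases ht with rfl | rfl
    · refine ⟨by rw [hcard]; norm_num, ?_⟩
      rintro ⟨x, hx⟩
      refine SpecE.minus_two hab (n := 5) (r := 11) (by norm_num) (by norm_num) (by norm_num) ?_ x (by rw [hx])
      rw [H72.AdjOrth.ee, hF, ord11]
      decide
    · refine ⟨by rw [hcard]; norm_num, ?_⟩
      rintro ⟨x, hx⟩
      refine SpecE.minus_two hab (n := 5) (r := 17) (by norm_num) (by norm_num) (by norm_num) ?_ x (by rw [hx])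
      rw [H72.AdjOrth.ee, hF, ord17]
      decide
  · intro x
    have h1 := minus_order_le (n := 5) (by norm_num) hab x
    rw [hF] at h1
    exact h1.trans (by norm_num)

theorem lq_plus_five :
    LQ2 (POmega F (quadFormPlus 5 F)) {7, 17, 31} {2, 3, 5, 7, 17, 31} {17, 31} := by
  have hcard := plus_card_five hF
  have hna := na_plus (F := F) (n := 5) (by norm_num)
  rw [hF] at hna
  refine ⟨coq_list (n := 5) (by norm_num) hna cls ?_ ?_, ?_, ?_, ?_⟩
  · intro r hr
    simp only [Finset.mem_insert, Finset.mem_singleton] at hr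
    rcases hr with rfl | rfl | rfl
    · exact ⟨by norm_num, ord7, by decide, by rw [hcard]; norm_num, by decide, by decide⟩
    · exact ⟨by norm_num, ord17, by decide, by rw [hcard]; norm_num, by decide, by decide⟩
    · exact ⟨by norm_num, ord31, by decide, by rw [hcard]; norm_num, by decide, by decide⟩
  · decide
  · intro r hr h
    rw [hcard] at h
    have := primes_of_dvd hr h
    simp only [Finset.mem_insert, Finset.mem_singleton]
    tauto
  · intro t ht
    simp only [Finset.mem_insert, Finset.mem_singleton] at ht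
    rcases ht with rfl | rfl
    · refine ⟨by rw [hcard]; norm_num, ?_⟩
      rintro ⟨x, hx⟩
      refine SpecE.plus_two (n := 5) (r := 17) (by norm_num) (by norm_num) (by norm_num) ?_ x (by rw [hx])
      rw [H72.AdjOrth.ee, hF, ord17]
      decide
    · refine ⟨by rw [hcard]; norm_num, ?_⟩
      rintro ⟨x, hx⟩
      refine SpecE.plus_two (n := 5) (r := 31) (by norm_num) (by norm_num) (by norm_num) ?_ x (by rw [hx])
      rw [H72.AdjOrth.ee, hF, ord31]
      decide
  · intro x
    have h1 := plus_order_le (n := 5) (by norm_num) x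
    rw [hF] at h1
    exact h1.trans (by norm_num)

end

end Cfsg.Agent.H75.LDat
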