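import Cfsg.Agent.H75.PlusRad

/-!
Plus type, `q ≥ 4`: the lower bound for the index of a proper subgroup, and the numerical data for
`quadFormPlus`.
-/

set_option autoImplicit false

namespace Cfsg.Agent.H75.OrthIdx

open QuadraticMap Cfsg.Agent.LieClassical.OrthCore Cfsg.Agent.LieClassical.OrthTrans
open Cfsg.Agent.LieClassical.OrthFinite Cfsg.Agent.LieClassical.OrthForms

variable {F V : Type*} [Field F] [AddCommGroup V] [Module F V] {Q : QuadraticForm F V}

section fin

variable [Finite F] [FiniteDimensional F V]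

theorem PlusCount.sing {m : ℕ} (hC : PlusCount Q m) :
    {w : V | w ≠ 0 ∧ Q w = 0}.ncard = (Nat.card F ^ m - 1) * (Nat.card F ^ (m - 1) + 1) := by
  have := Fintype.ofFinite F
  have h1 := ncard_ne_zero_sing Q
  have h2 := hC.zero
  have hm := hC.four
  have hq : 0 < Nat.card F := Nat.card_pos
  obtain ⟨r, rfl⟩ : ∃ r, m = r + 1 := ⟨m - 1, by omega⟩
  rw [h1, show r + 1 - 1 = r by omega, show 2 * (r + 1) - 1 = r + (r + 1) by omega, pow_add] at h2
  rw [show r + 1 - 1 = r by omega]
  obtain ⟨a, ha⟩ : ∃ a, Nat.card F ^ (r + 1) = a + 1 := ⟨Nat.card F ^ (r + 1) - 1, by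
    have : 0 < Nat.card F ^ (r + 1) := by positivity
    omega⟩
  rw [ha] at h2 ⊢
  rw [Nat.add_sub_cancel]
  set b := Nat.card F ^ r
  have h3 : b * (a + 1) + (a + 1) = a * (b + 1) + b + 1 := by ring
  omega

theorem PlusCount.weak {m : ℕ} (hC : PlusCount Q m) {n : ℕ}
    (hn : (Nat.card F - 1) * n < (Nat.card F ^ m - 1) * (Nat.card F ^ (m - 1) + 1)) :
    (Nat.card F - 1) * n <
      Nat.card F ^ (2 * m - 1) + (Nat.card F - 1) * Nat.card F ^ (m - 1) := by
  rw [← hC.sing] at hn
  have := Fintype.ofFinite F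
  have h1 := ncard_ne_zero_sing Q
  have h2 := hC.zero
  have hm := hC.four
  have hq : 0 < Nat.card F := Nat.card_pos
  have h3 : Nat.card F ^ m = (Nat.card F - 1) * Nat.card F ^ (m - 1) + Nat.card F ^ (m - 1) := by
    obtain ⟨r, rfl⟩ : ∃ r, m = r + 1 := ⟨m - 1, by omega⟩
    obtain ⟨q', hq'⟩ : ∃ q', Nat.card F = q' + 1 := ⟨Nat.card F - 1, by omega⟩
    rw [hq', show r + 1 - 1 = r by omega, Nat.add_sub_cancel]
    ring
  omega

/-- A subgroup of small index stabilises no nonzero totally singular subspace. -/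
theorem plus_no_ts (hG : Good Q) {m : ℕ} (hC : PlusCount Q m) (hq4 : 4 ≤ Nat.card F)
    {H : Subgroup (V ≃ₗ[F] V)} (hHE : H ≤ E Q)
    (hH : (Nat.card F - 1) * H.relIndex (E Q) <
      (Nat.card F ^ m - 1) * (Nat.card F ^ (m - 1) + 1))
    {T : Submodule F V} (hT0 : T ≠ ⊥) (hTH : ∀ h ∈ H, ∀ x ∈ T, h x ∈ T)
    (hTs : ∀ x ∈ T, Q x = 0) : False := by
  classical
  have : Finite V := Module.finite_of_finite F
  have hQ := hG.nondeg
  have hd := hC.finrank
  have hm := hC.four
  obtain ⟨t, htT, ht0⟩ := (Submodule.ne_bot_iff T).1 hT0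
  have htQ := hTs t htT
  by_cases hT2 : 2 ≤ Module.finrank F T
  · obtain ⟨e, h⟩ := exists_hyp hQ htQ ht0
    have h1 := mem_PP_StT T hTs hT2 htT h
    have h2 := finrank_Ws_StT T htT h
    have h3 : (StT Q T).relIndex (E Q) ≤ H.relIndex (E Q) :=
      Subgroup.relIndex_le_of_le_left (le_StT hHE hTH) (relIndex_ne _ _)
    have h4 : (Nat.card F - 1) * (StT Q T).relIndex (E Q) <
        (Nat.card F ^ m - 1) * (Nat.card F ^ (m - 1) + 1) :=
      lt_of_le_of_lt (Nat.mul_le_mul_left _ h3) hH
    have h5 := finrank_ts_le hQ hTs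
    have h6 := finrank_perp_add hQ (Ws Q (StT Q T) e)
    have h10 : Module.finrank F (Us Q (StT Q T) e) =
      Module.finrank F (perp Q (Ws Q (StT Q T) e)) := rfl
    rcases plus_typ hG hC hq4 (hC.weak h4) h1 with ⟨h7, -⟩ | ⟨rfl, M, hBM, hMts, hM4⟩
    · omega
    · -- `Ws = M`
      have hWM : Ws Q (StT Q T) e = M := by
        apply le_antisymm
        · intro w hw
          have : w ∈ (Bs Q (StT Q T) e : Set V) := ⟨hw.1, Ws.sg_mem hw⟩
          rw [hBM] at this
          exact this
        · intro w hw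
          have key : ∀ y ∈ M, polar Q e y = 0 ∧ sg Q e y ∈ StT Q T := by
            intro y hy
            have : y ∈ (M : Set V) := hy
            rw [← hBM] at this
            exact this
          exact ⟨(key w hw).1, fun c => (key _ (M.smul_mem c hw)).2⟩
      rw [hWM, hM4] at h2
      have hT4 : Module.finrank F T = 4 := by omega
      have h7 := le_relIndex_StT_max hG hC hTs hT4
      have h8 := Nat.mul_le_mul_left (Nat.card F - 1) h7
      have h9 : (Nat.card F ^ 4 - 1) * (Nat.card F ^ (4 - 1) + 1) =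
          (Nat.card F - 1) * ((Nat.card F ^ 3 + 1) * ((Nat.card F + 1) * (Nat.card F ^ 2 + 1))) := by
        obtain ⟨q', hq'⟩ : ∃ q', Nat.card F = q' + 1 := ⟨Nat.card F - 1, by omega⟩
        rw [hq', Nat.add_sub_cancel]
        have e1 : (q' + 1) ^ 4 - 1 = q' * ((q' + 1 + 1) * ((q' + 1) ^ 2 + 1)) := by
          have : (q' + 1) ^ 4 = q' * ((q' + 1 + 1) * ((q' + 1) ^ 2 + 1)) + 1 := by ring
          omega
        rw [e1]
        norm_num
        ring
      omega
  · have hT1 : T = Submodule.span F {t} := by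
      symm
      apply Submodule.eq_of_le_of_finrank_le
      · exact (Submodule.span_singleton_le_iff_mem _ _).2 htT
      · rw [finrank_span_singleton ht0]; omega
    have h1 := sing_point_bound hG hHE ht0 htQ (fun h hh => by
      rw [← hT1]; exact hTH h hh t htT)
    rw [hC.sing, mul_comm (H.relIndex _)] at h1
    omega

/-- **Lower bound in plus type, `q ≥ 4`.** -/
theorem plus_lower (hG : Good Q) {m : ℕ} (hC : PlusCount Q m) (hq4 : 4 ≤ Nat.card F)
    {H : Subgroup (V ≃ₗ[F] V)} (hHE : H ≤ E Q) (hne : ¬ E Q ≤ H) :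
    (Nat.card F ^ m - 1) * (Nat.card F ^ (m - 1) + 1) ≤
      (Nat.card F - 1) * H.relIndex (E Q) := by
  classical
  have : Finite V := Module.finite_of_finite F
  by_contra hcon
  push Not at hcon
  have hQ := hG.nondeg
  have hd := hC.finrank
  have hm := hC.four
  have hw := hC.weak hcon
  by_cases hS : ∀ e ∈ PP Q H, Small Q H e
  · have hT : Typ Q H := fun e he => (hS e he).2
    have hcom := com_of_small hQ (by omega) hS
    obtain ⟨T, hT0, hTH, hTs | ⟨a, ha, rfl⟩⟩ := exists_stab hQ (by omega) hHE hne hcom hT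
      (exists_PP_four hG (by omega) hq4 (by
        rw [hd]
        -- `n < 2 q^(d-2)`
        obtain ⟨r, rfl⟩ : ∃ r, m = r + 2 := ⟨m - 2, by omega⟩
        have e1 : Nat.card F ^ (2 * (r + 2) - 1) = Nat.card F * Nat.card F ^ (2 * (r + 2) - 2) := by
          rw [← pow_succ']; congr 1
        have e2 : Nat.card F * Nat.card F ^ (r + 2 - 1) ≤ Nat.card F ^ (2 * (r + 2) - 2) := by
          rw [← pow_succ']
          exact Nat.pow_le_pow_right (by omega) (by omega)
        rw [e1] at hw
        set K := Nat.card F ^ (2 * (r + 2) - 2)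
        set Y := Nat.card F ^ (r + 2 - 1)
        by_contra hcon2
        push Not at hcon2
        have h1 := Nat.mul_le_mul_left (Nat.card F - 1) hcon2
        obtain ⟨q', hq'⟩ : ∃ q', Nat.card F = q' + 4 := ⟨Nat.card F - 4, by omega⟩
        rw [hq', show q' + 4 - 1 = q' + 3 by omega] at hw h1
        rw [hq'] at e2
        have h2 := Nat.mul_le_mul_left (q' + 2) e2
        nlinarith [Nat.zero_le (q' * Y), Nat.zero_le (q' * q' * Y)]))
    · exact plus_no_ts hG hC hq4 hHE hcon hT0 hTH hTs
    · have h1 := nonsing_point_bound hG hHE ha (fun h hh =>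
        hTH h hh a (Submodule.mem_span_singleton_self a))
      have h2 := hC.ne_zero (Q a) ha
      obtain ⟨r, rfl⟩ : ∃ r, m = r + 1 := ⟨m - 1, by omega⟩
      rw [show r + 1 - 1 = r by omega] at h2 hw
      have e1 : Nat.card F ^ (2 * (r + 1) - 1) =
          Nat.card F * (Nat.card F ^ r * Nat.card F ^ r) := by
        rw [← pow_add, ← pow_succ']; congr 1; omega
      rw [e1] at h2 hw
      have hb : 64 ≤ Nat.card F ^ r := by
        calc 64 = 4 ^ 3 := by norm_num
          _ ≤ Nat.card F ^ 3 := Nat.pow_le_pow_left hq4 _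
          _ ≤ _ := Nat.pow_le_pow_right (by omega) (by omega)
      set b := Nat.card F ^ r
      set n := H.relIndex (E Q)
      obtain ⟨q', hq'⟩ : ∃ q', Nat.card F = q' + 4 := ⟨Nat.card F - 4, by omega⟩
      rw [hq'] at h2
      rw [hq', show q' + 4 - 1 = q' + 3 by omega] at hw
      -- `(q-1)(q b² - b) ≤ 2 (q-1) n < 2 (q b² + (q-1) b)`
      have h3 : (q' + 4) * (b * b) ≤ n * 2 + b := by omega
      have h4 := Nat.mul_le_mul_left (q' + 3) h3
      nlinarith [Nat.mul_le_mul_left (q' * b) hb, Nat.mul_le_mul_left (q' * q' * b) hb,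
        Nat.mul_le_mul_left b hb]
  · push Not at hS
    obtain ⟨e, he, hne2⟩ := hS
    rcases plus_typ hG hC hq4 hw he with h1 | ⟨rfl, hexc⟩
    · exact hne2 h1
    · have hn : H.relIndex (E Q) <
          (Nat.card F ^ 3 + 1) * ((Nat.card F + 1) * (Nat.card F ^ 2 + 1)) := by
        have h9 : (Nat.card F ^ 4 - 1) * (Nat.card F ^ (4 - 1) + 1) =
            (Nat.card F - 1) *
              ((Nat.card F ^ 3 + 1) * ((Nat.card F + 1) * (Nat.card F ^ 2 + 1))) := by
          obtain ⟨q', hq'⟩ : ∃ q', Nat.card F = q' + 1 := ⟨Nat.card F - 1, by omega⟩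
          rw [hq', Nat.add_sub_cancel]
          have e1 : (q' + 1) ^ 4 - 1 = q' * ((q' + 1 + 1) * ((q' + 1) ^ 2 + 1)) := by
            have : (q' + 1) ^ 4 = q' * ((q' + 1 + 1) * ((q' + 1) ^ 2 + 1)) + 1 := by ring
            omega
          rw [e1]
          norm_num
          ring
        rw [h9] at hcon
        exact lt_of_mul_lt_mul_left hcon (Nat.zero_le _)
      obtain ⟨v, hv0, hvQ, hvH⟩ := exc_rad hG hC hq4 hHE hn he.1 he.2.1 hexc
      set R : Set V := {g | g ≠ 0 ∧ Q g = 0 ∧ ∀ w, polar Q g w = 0 → sg Q g w ∈ H} with hR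
      have horth : ∀ g ∈ R, ∀ g' ∈ R, polar Q g g' = 0 := by
        rintro g ⟨hg0, hgQ, hgH⟩ g' ⟨hg0', hgQ', hgH'⟩
        by_contra hgg
        apply hne
        set c := (polar Q g g')⁻¹ with hc
        have hc0 : c ≠ 0 := inv_ne_zero hgg
        have hh : Hyp Q g (c • g') := ⟨hgQ, by
          rw [QuadraticMap.map_smul, hgQ', smul_zero], by
          rw [polar_smul_right, smul_eq_mul, hc, inv_mul_cancel₀ hgg]⟩
        refine E_le_of_opp hQ hh hgH fun w hw => ?_
        rw [sg_smul_left hc0]
        apply hgH'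
        rw [polar_smul_left, smul_eq_mul] at hw
        rw [polar_smul_right, (mul_eq_zero.1 hw).resolve_left hc0, smul_zero]
      refine plus_no_ts hG hC hq4 hHE hcon (T := Submodule.span F R) ?_ ?_
        (span_ts (fun x hx => hx.2.1) horth)
      · intro h1
        have h2 : v ∈ Submodule.span F R := Submodule.subset_span ⟨hv0, hvQ, hvH⟩
        rw [h1] at h2
        exact hv0 ((Submodule.mem_bot F).1 h2)
      · intro h hh x hx
        have hhO := E_le_O (hHE hh)
        induction hx using Submodule.span_induction with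
        | mem s hs =>
          apply Submodule.subset_span
          obtain ⟨hs0, hsQ, hsH⟩ := hs
          refine ⟨(map_ne_zero_iff h h.injective).2 hs0, by rw [mem_O.1 hhO]; exact hsQ, ?_⟩
          intro w hw
          obtain ⟨w', rfl⟩ := h.surjective w
          rw [← sg_conj hhO]
          rw [polar_map hhO] at hw
          exact H.mul_mem (H.mul_mem hh (hsH w' hw)) (H.inv_mem hh)
        | zero => rw [map_zero]; exact Submodule.zero_mem _
        | add a b _ _ ha hb => rw [map_add]; exact Submodule.add_mem _ ha hb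
        | smul c a _ ha => rw [map_smul]; exact Submodule.smul_mem _ _ ha

end fin

/-! ### The form `quadFormPlus` -/

theorem plus_count {F : Type*} [Field F] [Fintype F] (m : ℕ) (hm : 4 ≤ m) :
    PlusCount (plusForm m F) m where
  finrank := by
    rw [Module.finrank_fintype_fun_eq_card]
    simp only [Fintype.card_sum, Fintype.card_fin]
    omega
  four := hm
  zero := by
    classical
    have h := Cfsg.Agent.LieClassical.QuadCount.card_plus (F := F) m 0
    rw [if_pos rfl] at h
    have h1 : {v : Fin m ⊕ Fin m → F | plusForm m F v = 0}.ncard =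
        Nat.card {v : Fin m ⊕ Fin m → F // Cfsg.quadFormPlus m F v = 0} := by
      rw [← coe_plusForm]; rfl
    rw [h1, Nat.card_eq_fintype_card (α := F)]
    have hq : 0 < Fintype.card F := Fintype.card_pos
    refine Nat.eq_of_mul_eq_mul_left hq ?_
    obtain ⟨r, rfl⟩ : ∃ r, m = r + 1 := ⟨m - 1, by omega⟩
    rw [show r + 1 - 1 = r by omega]
    have e1 : Fintype.card F * Fintype.card F ^ r = Fintype.card F ^ (r + 1) := by
      rw [← pow_succ']
    have e2 : Fintype.card F * Fintype.card F ^ (2 * (r + 1) - 1) =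
        Fintype.card F ^ (2 * (r + 1)) := by
      rw [← pow_succ']; congr 1
    have e3 : Fintype.card F * Fintype.card F ^ (r + 1) = Fintype.card F ^ (r + 1 + 1) := by
      rw [← pow_succ']
    rw [mul_add, mul_add, e1, e2, e3]
    exact h
  ne_zero := by
    classical
    intro c hc
    have h := Cfsg.Agent.LieClassical.QuadCount.card_plus (F := F) m c
    rw [if_neg hc, add_zero] at h
    have h1 : {v : Fin m ⊕ Fin m → F | plusForm m F v = c}.ncard =
        Nat.card {v : Fin m ⊕ Fin m → F // Cfsg.quadFormPlus m F v = c} := by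
      rw [← coe_plusForm]; rfl
    rw [h1, Nat.card_eq_fintype_card (α := F)]
    have hq : 0 < Fintype.card F := Fintype.card_pos
    refine Nat.eq_of_mul_eq_mul_left hq ?_
    obtain ⟨r, rfl⟩ : ∃ r, m = r + 1 := ⟨m - 1, by omega⟩
    rw [show r + 1 - 1 = r by omega]
    have e1 : Fintype.card F * Fintype.card F ^ r = Fintype.card F ^ (r + 1) := by
      rw [← pow_succ']
    have e2 : Fintype.card F * Fintype.card F ^ (2 * (r + 1) - 1) =
        Fintype.card F ^ (2 * (r + 1)) := by
      rw [← pow_succ']; congr 1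
    rw [mul_add, e1, e2]
    exact h

theorem good_plusForm {F : Type*} [Field F] [Fintype F] (m : ℕ) (hm : 4 ≤ m) :
    Good (plusForm m F) :=
  good_of_finite (nondeg_plusForm m F) (by
    rw [(plus_count m hm).finrank]; omega)

end Cfsg.Agent.H75.OrthIdx
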