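import Cfsg.Agent.H75.Sg

/-!
Witt's theorem for `E Q` on tuples, and solvability of `Q z = c` in the perpendicular of a
subspace of dimension at most three.
-/

set_option autoImplicit false

namespace Cfsg.Agent.H75.OrthIdx

open QuadraticMap Cfsg.Agent.LieClassical.OrthCore Cfsg.Agent.LieClassical.OrthTrans

variable {F V : Type*} [Field F] [AddCommGroup V] [Module F V] {Q : QuadraticForm F V}

theorem nondegenerate_of_nondeg (hQ : Nondeg Q) : (polarBilin Q).Nondegenerate := by
  refine ⟨fun x hx => hQ x hx, fun x hx => hQ x fun y => ?_⟩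
  rw [polar_comm]
  exact hx y

theorem isRefl_polarBilin (Q : QuadraticForm F V) : (polarBilin Q).IsRefl := by
  intro x y h
  rw [polarBilin_apply_apply] at h ⊢
  rw [polar_comm]; exact h

/-- The subspace orthogonal to `T`. -/
def perp (Q : QuadraticForm F V) (T : Submodule F V) : Submodule F V where
  carrier := {x | ∀ t ∈ T, polar Q t x = 0}
  add_mem' {a b} ha hb := by
    intro t ht
    rw [polar_add_right, ha t ht, hb t ht, add_zero]
  zero_mem' := fun t _ => polar_zero_right (Q := Q) t
  smul_mem' c x hx := by
    intro t ht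
    rw [polar_smul_right, hx t ht, smul_zero]

theorem mem_perp {T : Submodule F V} {x : V} : x ∈ perp Q T ↔ ∀ t ∈ T, polar Q t x = 0 := Iff.rfl

theorem perp_eq_orthogonal (T : Submodule F V) : perp Q T = LinearMap.BilinForm.orthogonal (polarBilin Q) T := by
  ext x
  rw [mem_perp, LinearMap.BilinForm.mem_orthogonal_iff]
  rfl

theorem perp_anti {T T' : Submodule F V} (h : T ≤ T') : perp Q T' ≤ perp Q T :=
  fun _ hx t ht => hx t (h ht)

theorem le_perp_perp (T : Submodule F V) : T ≤ perp Q (perp Q T) := by
  intro t ht x hx
  rw [polar_comm]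
  exact hx t ht

section fd

variable [FiniteDimensional F V]

theorem finrank_perp (hQ : Nondeg Q) (T : Submodule F V) :
    Module.finrank F (perp Q T) = Module.finrank F V - Module.finrank F T := by
  rw [perp_eq_orthogonal]
  exact LinearMap.BilinForm.finrank_orthogonal (nondegenerate_of_nondeg hQ) T

theorem finrank_perp_add (hQ : Nondeg Q) (T : Submodule F V) :
    Module.finrank F (perp Q T) + Module.finrank F T = Module.finrank F V := by
  rw [finrank_perp hQ]
  have := Submodule.finrank_le T
  omega

theorem perp_perp (hQ : Nondeg Q) (T : Submodule F V) : perp Q (perp Q T) = T := by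
  rw [perp_eq_orthogonal, perp_eq_orthogonal]
  exact LinearMap.BilinForm.orthogonal_orthogonal (nondegenerate_of_nondeg hQ)
    (isRefl_polarBilin Q) T

/-- Elements of `O Q` differ from elements of `E Q` by reflections in a universal perp. -/
theorem exists_fix_mul_mem_E (hG : Good Q) {ι : Type*} (x : ι → V)
    (hx : ∀ c : F, c ≠ 0 → ∃ z, Q z = c ∧ ∀ i, polar Q (x i) z = 0) {g : V ≃ₗ[F] V}
    (hg : g ∈ O Q) : ∃ ρ ∈ O Q, (∀ i, ρ (x i) = x i) ∧ g * ρ ∈ E Q := by
  rw [O_eq_closure hG.nondeg] at hg
  induction hg using Subgroup.closure_induction with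
  | mem g hg =>
    rcases hg with ⟨v, hv, rfl⟩ | ⟨u, w, hu, hw, rfl⟩
    · obtain ⟨z, hz, hzx⟩ := hx (Q v) hv
      have hz0 : Q z ≠ 0 := by rw [hz]; exact hv
      refine ⟨refl Q z hz0, refl_mem_O hz0, fun i => ?_, ?_⟩
      · rw [refl_apply, polar_comm, hzx i, mul_zero, zero_smul, sub_zero]
      · exact hG.refl_mul_refl_mem hz0 hv hz
    · refine ⟨1, (O Q).one_mem, fun i => rfl, ?_⟩
      rw [mul_one]
      exact siegel_mem_E hu hw
  | one => exact ⟨1, (O Q).one_mem, fun i => rfl, by rw [mul_one]; exact Subgroup.one_mem _⟩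
  | mul g g' hg hg' ih ih' =>
    obtain ⟨ρ, hρO, hρ, hE⟩ := ih
    obtain ⟨ρ', hρO', hρ', hE'⟩ := ih'
    rw [← O_eq_closure hG.nondeg] at hg hg'
    refine ⟨ρ' * ρ, (O Q).mul_mem hρO' hρO, fun i => ?_, ?_⟩
    · show ρ' (ρ (x i)) = x i
      rw [hρ, hρ']
    · have h1 : g * g' * (ρ' * ρ) = (g * (g' * ρ') * g⁻¹) * (g * ρ) := by group
      rw [h1]
      exact (E Q).mul_mem (conj_mem_E hg hE') hE
  | inv g hg ih =>
    obtain ⟨ρ, hρO, hρ, hE⟩ := ih
    refine ⟨ρ⁻¹, (O Q).inv_mem hρO, fun i => ?_, ?_⟩
    · have : ρ⁻¹ (ρ (x i)) = x i := LinearEquiv.symm_apply_apply ρ (x i)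
      rwa [hρ] at this
    · have h1 : g⁻¹ * ρ⁻¹ = ρ * (g * ρ)⁻¹ * ρ⁻¹ := by group
      rw [h1]
      exact conj_mem_E hρO ((E Q).inv_mem hE)

/-- **Witt's theorem for `E Q`.** -/
theorem exists_E_map (hG : Good Q) {k : ℕ} (x y : Fin k → V) (hxi : LinearIndependent F x)
    (hyi : LinearIndependent F y) (hQxy : ∀ i, Q (x i) = Q (y i))
    (hB : ∀ i j, polar Q (x i) (x j) = polar Q (y i) (y j))
    (hx : ∀ c : F, c ≠ 0 → ∃ z, Q z = c ∧ ∀ i, polar Q (x i) z = 0) :
    ∃ g ∈ E Q, ∀ i, g (x i) = y i := by
  obtain ⟨g, hg, hgx⟩ := Cfsg.Agent.ClassicalGeometry.WittQuad.extend_family Q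
    (nondegenerate_of_nondeg hG.nondeg) k x y hxi hyi hQxy hB
  obtain ⟨ρ, -, hρ, hE⟩ := exists_fix_mul_mem_E hG x hx (g := g) hg
  refine ⟨g * ρ, hE, fun i => ?_⟩
  show g (ρ (x i)) = y i
  rw [hρ, hgx]

end fd

/-- A subspace all of whose vectors are singular is totally isotropic for the polar form. -/
theorem polar_eq_zero_of_ts {T : Submodule F V} (h : ∀ x ∈ T, Q x = 0) {x y : V} (hx : x ∈ T)
    (hy : y ∈ T) : polar Q x y = 0 := by
  rw [polar, h _ (T.add_mem hx hy), h _ hx, h _ hy]; simp

theorem le_perp_of_ts {T : Submodule F V} (h : ∀ x ∈ T, Q x = 0) : T ≤ perp Q T :=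
  fun _ hx _ ht => polar_eq_zero_of_ts h ht hx

theorem exists_nonsing_mem [FiniteDimensional F V] (hQ : Nondeg Q) (T : Submodule F V)
    (hd : Module.finrank F V < 2 * Module.finrank F T) : ∃ x ∈ T, Q x ≠ 0 := by
  by_contra hcon
  push Not at hcon
  have h1 := Submodule.finrank_mono (le_perp_of_ts hcon)
  have h2 := finrank_perp_add hQ T
  omega

section finite

variable [Finite F]

/-- binary forms with nonzero diagonal values represent everything over a finite field -/
theorem exists_binary (a b c : F) (ha : a ≠ 0) (hb : b ≠ 0) (h2 : (2 : F) ≠ 0) :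
    ∃ x y : F, x * x * a + y * y * b = c := by
  classical
  have := Fintype.ofFinite F
  have hodd : Fintype.card F % 2 = 1 := by
    have : ringChar F ≠ 2 := by
      intro h
      apply h2
      have : CharP F 2 := ringChar.of_eq h
      exact CharTwo.two_eq_zero
    exact FiniteField.odd_card_of_char_ne_two this
  obtain ⟨x, y, hxy⟩ := FiniteField.exists_root_sum_quadratic
    (f := Polynomial.C a * Polynomial.X ^ 2 + Polynomial.C 0 * Polynomial.X + Polynomial.C (-c))
    (g := Polynomial.C b * Polynomial.X ^ 2 + Polynomial.C 0 * Polynomial.X + Polynomial.C 0)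
    (Polynomial.degree_quadratic ha) (Polynomial.degree_quadratic hb) hodd
  refine ⟨x, y, ?_⟩
  simp only [Polynomial.eval_add, Polynomial.eval_mul, Polynomial.eval_C, Polynomial.eval_pow,
    Polynomial.eval_X] at hxy
  linear_combination hxy

theorem exists_sq_of_two_eq_zero (h2 : (2 : F) = 0) (c : F) : ∃ x : F, x * x = c := by
  have := Fintype.ofFinite F
  have : CharP F 2 := CharTwo.of_one_ne_zero_of_two_eq_zero one_ne_zero h2
  have hr : ringChar F = 2 := ringChar.eq_iff.2 this
  obtain ⟨x, hx⟩ := FiniteField.isSquare_of_char_two hr c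
  exact ⟨x, hx.symm⟩

/-- Every scalar is a value of `Q` on the perp of a `k`-dimensional subspace, in dimension at
least `2k + 2`, or in dimension `2k + 1` if the subspace has a nonsingular vector. -/
theorem exists_norm_perp [FiniteDimensional F V] (hQ : Nondeg Q) (T : Submodule F V)
    (hd : 2 * Module.finrank F T + 2 ≤ Module.finrank F V ∨
      (2 * Module.finrank F T + 1 ≤ Module.finrank F V ∧ ∃ v ∈ T, Q v ≠ 0)) (c : F) :
    ∃ z ∈ perp Q T, Q z = c := by
  have hd7 : 2 * Module.finrank F T + 1 ≤ Module.finrank F V := by rcases hd with h | h <;> omega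
  obtain ⟨z1, hz1, hz1Q⟩ := exists_nonsing_mem hQ (perp Q T) (by
    have := finrank_perp_add hQ T; omega)
  by_cases h2 : (2 : F) = 0
  · obtain ⟨s, hs⟩ := exists_sq_of_two_eq_zero h2 (c * (Q z1)⁻¹)
    refine ⟨s • z1, (perp Q T).smul_mem _ hz1, ?_⟩
    rw [QuadraticMap.map_smul, hs, smul_eq_mul, mul_assoc, inv_mul_cancel₀ hz1Q, mul_one]
  · -- second vector
    set T1 := T ⊔ Submodule.span F {z1} with hT1
    have hT1d : Module.finrank F T1 ≤ Module.finrank F T + 1 := by
      have h1 := Submodule.finrank_add_le_finrank_add_finrank T (Submodule.span F {z1})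
      have h2 : Module.finrank F (Submodule.span F {z1}) = 1 := by
        apply finrank_span_singleton
        rintro rfl
        exact hz1Q (QuadraticMap.map_zero Q)
      rw [← hT1] at h1
      omega
    have hex : ∃ z2 ∈ perp Q T1, Q z2 ≠ 0 := by
      by_contra hcon
      push Not at hcon
      have hle : perp Q T1 ≤ T1 := by
        have := le_perp_of_ts hcon
        rwa [perp_perp hQ] at this
      have hpd := finrank_perp_add hQ T1
      rcases hd with hd | ⟨-, v, hvT, hvQ⟩
      · -- `perp T1 ⊔ ⟨z1⟩ ≤ T1`
        have hdis : Disjoint (perp Q T1) (Submodule.span F {z1}) := by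
          rw [Submodule.disjoint_def]
          intro x hx hx'
          obtain ⟨a, rfl⟩ := Submodule.mem_span_singleton.1 hx'
          have h3 := hcon _ hx
          rw [QuadraticMap.map_smul, smul_eq_mul] at h3
          rcases mul_eq_zero.1 h3 with h3 | h3
          · rw [mul_self_eq_zero] at h3
            rw [h3, zero_smul]
          · exact absurd h3 hz1Q
        have h4 : Module.finrank F (perp Q T1) + Module.finrank F (Submodule.span F {z1})
            ≤ Module.finrank F T1 := by
          rw [← Submodule.finrank_sup_add_finrank_inf_eq, hdis.eq_bot, finrank_bot, add_zero]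
          exact Submodule.finrank_mono (sup_le hle le_sup_right)
        have h5 : Module.finrank F (Submodule.span F {z1}) = 1 := by
          apply finrank_span_singleton
          rintro rfl
          exact hz1Q (QuadraticMap.map_zero Q)
        omega
      · -- `perp T1 ⊔ ⟨z1, v⟩ ≤ T1`
        have hvz : polar Q v z1 = 0 := hz1 v hvT
        have hdis : Disjoint (perp Q T1) (Submodule.span F {z1, v}) := by
          rw [Submodule.disjoint_def]
          intro x hx hx'
          obtain ⟨a, b, rfl⟩ := Submodule.mem_span_pair.1 hx'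
          have h3 := hx z1 (Submodule.mem_sup_right (Submodule.mem_span_singleton_self z1))
          have h4 := hx v (Submodule.mem_sup_left hvT)
          rw [polar_add_right, polar_smul_right, polar_smul_right, polar_self',
            polar_comm Q z1 v, hvz, smul_eq_mul, smul_eq_mul, mul_zero, add_zero] at h3
          rw [polar_add_right, polar_smul_right, polar_smul_right, polar_self',
            hvz, smul_eq_mul, smul_eq_mul, mul_zero, zero_add] at h4
          have ha : a = 0 := by
            rcases mul_eq_zero.1 h3 with h | h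
            · exact h
            · exact absurd h (mul_ne_zero h2 hz1Q)
          have hb : b = 0 := by
            rcases mul_eq_zero.1 h4 with h | h
            · exact h
            · exact absurd h (mul_ne_zero h2 hvQ)
          rw [ha, hb]; simp
        have h4 : Module.finrank F (perp Q T1) + Module.finrank F (Submodule.span F {z1, v})
            ≤ Module.finrank F T1 := by
          rw [← Submodule.finrank_sup_add_finrank_inf_eq, hdis.eq_bot, finrank_bot, add_zero]
          apply Submodule.finrank_mono
          refine sup_le hle ?_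
          rw [Submodule.span_le]
          rintro x (rfl | rfl)
          · exact Submodule.mem_sup_right (Submodule.mem_span_singleton_self _)
          · exact Submodule.mem_sup_left hvT
        have h5 : Module.finrank F (Submodule.span F {z1, v}) = 2 := by
          have hli : LinearIndependent F ![z1, v] := by
            rw [LinearIndependent.pair_iff]
            intro a b hab
            have h6 : polar Q z1 (a • z1 + b • v) = 0 := by
              rw [hab]; exact polar_zero_right (Q := Q) z1
            have h7 : polar Q v (a • z1 + b • v) = 0 := by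
              rw [hab]; exact polar_zero_right (Q := Q) v
            rw [polar_add_right, polar_smul_right, polar_smul_right, polar_self',
              polar_comm Q z1 v, hvz, smul_eq_mul, smul_eq_mul, mul_zero, add_zero] at h6
            rw [polar_add_right, polar_smul_right, polar_smul_right, polar_self',
              hvz, smul_eq_mul, smul_eq_mul, mul_zero, zero_add] at h7
            refine ⟨?_, ?_⟩
            · rcases mul_eq_zero.1 h6 with h | h
              · exact h
              · exact absurd h (mul_ne_zero h2 hz1Q)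
            · rcases mul_eq_zero.1 h7 with h | h
              · exact h
              · exact absurd h (mul_ne_zero h2 hvQ)
          have := finrank_span_eq_card hli
          rw [Matrix.range_cons_cons_empty] at this
          simpa using this
        omega
    obtain ⟨z2, hz2, hz2Q⟩ := hex
    have hz12 : polar Q z1 z2 = 0 :=
      hz2 z1 (Submodule.mem_sup_right (Submodule.mem_span_singleton_self z1))
    obtain ⟨x, y, hxy⟩ := exists_binary (Q z1) (Q z2) c hz1Q hz2Q h2
    refine ⟨x • z1 + y • z2, (perp Q T).add_mem ((perp Q T).smul_mem _ hz1)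
      ((perp Q T).smul_mem _ (perp_anti le_sup_left hz2)), ?_⟩
    rw [Q_add, QuadraticMap.map_smul, QuadraticMap.map_smul, polar_smul_left, polar_smul_right,
      hz12]
    simpa using hxy

end finite

end Cfsg.Agent.H75.OrthIdx
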