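import Cfsg.Agent.H75.M5hNum
import Cfsg.Agent.H94.PrimeGraph

/-!
# Facts about `S` in BLOCK 6, `q = 5 ^ m` (helper75, task 2625)

* `E5.q_facts`, `E5.dvd_W` : twice every element order divides `25 (q⁶ - 1)(q² + 1)`;
* `E5.not_adj` : a prime divisor of `am q` is odd and not adjacent to `2` in `S`;
* `no_al2_even` : `A₇`, `PSL₂(u)`, `u` odd, excluded by the order, characteristic two.
-/

set_option autoImplicit false
set_option linter.unusedVariables false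

namespace Cfsg.Agent.H75.M5h

open Cfsg.Agent.H376.Six

universe u

variable {q : ℕ} {S : Type u} [Group S]

theorem q_facts (h : E5 q S) : 5 ≤ q ∧ q % 4 = 1 ∧ ¬ 3 ∣ q := by
  obtain ⟨m, hm, rfl⟩ := h.pow
  refine ⟨?_, ?_, ?_⟩
  · calc 5 = 5 ^ 1 := by norm_num
      _ ≤ 5 ^ m := Nat.pow_le_pow_right (by norm_num) hm
  · rw [Nat.pow_mod]; norm_num
  · intro h3
    have := Nat.prime_three.dvd_of_dvd_pow h3
    revert this; norm_num

theorem cop_five (h : E5 q S) {r : ℕ} (hr : r.Prime) (hrq : r ∣ q) : r = 5 := by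
  obtain ⟨m, hm, rfl⟩ := h.pow
  exact (Nat.prime_dvd_prime_iff_eq hr Nat.prime_five).1 (hr.dvd_of_dvd_pow hrq)

/-- twice every element order divides `25 (q⁶ - 1)(q² + 1)` -/
theorem dvd_W (h : E5 q S) (x : S) : 2 * orderOf x ∣ 25 * ((q ^ 6 - 1) * (q ^ 2 + 1)) := by
  obtain ⟨h5, h4, -⟩ := q_facts h
  have e1 : 1 ≤ q ^ 3 := Nat.one_le_pow _ _ (by omega)
  have e2 : 1 ≤ q ^ 2 := Nat.one_le_pow _ _ (by omega)
  have f1 : q ^ 6 - 1 = (q ^ 3 - 1) * (q ^ 3 + 1) := by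
    have h1 : q ^ 3 * q ^ 3 = q ^ 6 := by ring
    zify [e1, Nat.one_le_pow 6 q (by omega)]
    ring
  have f2 : q ^ 6 - 1 = (q ^ 2 - 1) * (q ^ 4 + q ^ 2 + 1) := by
    zify [e2, Nat.one_le_pow 6 q (by omega)]
    ring
  have f3 : q ^ 4 - 1 = (q ^ 2 - 1) * (q ^ 2 + 1) := by
    zify [e2, Nat.one_le_pow 4 q (by omega)]
    ring
  have m2 : q ^ 2 % 8 = 1 := by
    have : q % 8 = 1 ∨ q % 8 = 5 := by omega
    rcases this with h6 | h6 <;> simp [Nat.pow_mod, h6]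
  have m3 : q ^ 3 % 2 = 1 := by
    have : q % 2 = 1 := by omega
    simp [Nat.pow_mod, this]
  have half : ∀ {A B : ℕ}, 2 ∣ B → A ∣ B / 2 → 2 * A ∣ B := by
    intro A B hB hA
    obtain ⟨k, hk⟩ := hA
    exact ⟨k, by rw [mul_assoc, ← hk, Nat.mul_div_cancel' hB]⟩
  rcases h.ub x with h1 | h1 | h1 | h1 | h1 | h1
  · have h2 : 2 * orderOf x ∣ q ^ 3 - 1 := half (by omega) h1
    exact h2.trans (by rw [f1, mul_assoc]; exact (dvd_mul_right _ _).mul_left _)
  · have h2 : 2 * orderOf x ∣ q ^ 3 + 1 := half (by omega) h1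
    refine h2.trans ?_
    rw [f1]
    exact Dvd.intro_left (25 * (q ^ 3 - 1)) (by ring) |>.trans (Dvd.intro (q ^ 2 + 1) (by ring) :
      25 * (q ^ 3 - 1) * (q ^ 3 + 1) ∣ 25 * ((q ^ 3 - 1) * (q ^ 3 + 1) * (q ^ 2 + 1)))
  · have h3 : 4 ∣ q ^ 4 - 1 := by
      rw [f3]
      exact Dvd.dvd.mul_right (by omega) _
    have h2 : 2 * orderOf x ∣ q ^ 4 - 1 := by
      obtain ⟨k, hk⟩ := h1
      refine ⟨2 * k, ?_⟩
      calc q ^ 4 - 1 = 4 * ((q ^ 4 - 1) / 4) := (Nat.mul_div_cancel' h3).symm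
        _ = 4 * (orderOf x * k) := by rw [hk]
        _ = _ := by ring
    refine h2.trans ?_
    rw [f3, f2]
    exact Dvd.intro (25 * (q ^ 4 + q ^ 2 + 1)) (by ring)
  · have h2 : 2 ∣ q ^ 6 - 1 := by rw [f2]; exact Dvd.dvd.mul_right (by omega) _
    obtain ⟨k, hk⟩ := h2
    refine (Nat.mul_dvd_mul_left 2 h1).trans ?_
    rw [hk]
    exact Dvd.intro (5 * k) (by ring)
  · have h2 : 2 ∣ q ^ 2 + 1 := by omega
    obtain ⟨k, hk⟩ := h2
    refine (Nat.mul_dvd_mul_left 2 h1).trans ?_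
    rw [hk, f2]
    exact Dvd.intro (5 * (q ^ 4 + q ^ 2 + 1) * k) (by ring)
  · have h2 : 2 ∣ q ^ 6 - 1 := by rw [f2]; exact Dvd.dvd.mul_right (by omega) _
    obtain ⟨k, hk⟩ := h2
    refine (Nat.mul_dvd_mul_left 2 h1).trans ?_
    rw [hk]
    exact Dvd.intro (k * (q ^ 2 + 1)) (by ring)

theorem am_pos (hq : 2 ≤ q) : 0 < am q := by
  rcases Nat.eq_zero_or_pos (am q) with h0 | h0
  · exact absurd ((dvd_zero 3).trans (dvd_of_eq h0.symm)) (am_spec hq).2
  · exact h0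

theorem seven_le_am (hq : 5 ≤ q) : 7 ≤ am q := by
  have h1 := three_am (q := q) (by omega)
  have h2 : 5 * q ≤ q ^ 2 := by nlinarith
  omega

/-- a prime divisor of `am q` is odd and not adjacent to `2` -/
theorem not_adj (h : E5 q S) {r : ℕ} (hr : r.Prime) (hra : r ∣ am q) :
    r ≠ 2 ∧ ¬ H94.PG.Adj S r 2 := by
  obtain ⟨h5, h4, h3⟩ := q_facts h
  have hz := am_dvd_int (q := q) (by omega) hra
  have hodd : ∀ n : ℕ, q ^ n % 4 = 1 := fun n => by rw [Nat.pow_mod, h4, one_pow]; norm_num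
  have hr2 : r ≠ 2 := by
    rintro rfl
    have h6 := hra.trans (am_dvd (q := q) (by omega))
    have h7 := hodd 2
    have h8 : q ≤ q ^ 2 := Nat.le_self_pow (by norm_num) _
    omega
  have hr3 : r ≠ 3 := by
    rintro rfl
    exact (am_spec (q := q) (by omega)).2 hra
  refine ⟨hr2, ?_⟩
  rintro ⟨-, -, -, x, y, hx, hy, hxy⟩
  have ho : orderOf (x * y) = r * 2 := by
    rw [hxy.orderOf_mul_eq_mul_orderOf_of_coprime, hx, hy]
    rw [hx, hy]
    exact (Nat.coprime_primes hr Nat.prime_two).2 hr2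
  have hrd : r ∣ orderOf (x * y) := by rw [ho]; exact dvd_mul_right _ _
  have h2d : 2 ∣ orderOf (x * y) := by rw [ho]; exact dvd_mul_left _ _
  have hr5 : r ≠ 5 := by
    rintro rfl
    have h6 : (5 : ℤ) ∣ (q : ℤ) := by
      obtain ⟨m, hm, rfl⟩ := h.pow
      push_cast
      exact dvd_pow_self _ (by omega)
    have h7 : (5 : ℤ) ∣ 1 := by
      have : (1 : ℤ) = ((q : ℤ) ^ 2 - q + 1) - q * (q - 1) := by ring
      rw [this]
      exact dvd_sub hz (h6.mul_right _)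
    revert h7; norm_num
  -- coprimality to the other numbers
  have e3 : 1 ≤ q ^ 3 := Nat.one_le_pow _ _ (by omega)
  have e2 : 1 ≤ q ^ 2 := Nat.one_le_pow _ _ (by omega)
  have e4 : 1 ≤ q ^ 4 := Nat.one_le_pow _ _ (by omega)
  have kr2 : ¬ (r : ℤ) ∣ 2 := fun h6 => hr2 ((Nat.prime_dvd_prime_iff_eq hr Nat.prime_two).1 (by exact_mod_cast h6))
  have kr3 : ¬ (r : ℤ) ∣ 3 := fun h6 => hr3 (prime_three_of hr h6)
  have kq : ¬ (r : ℤ) ∣ (q : ℤ) := fun h6 => hr5 (cop_five h hr (by exact_mod_cast h6))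
  have hrz : Prime (r : ℤ) := Nat.prime_iff_prime_int.1 hr
  -- r does not divide q ^ 4 - 1
  have k4 : ¬ (r : ℤ) ∣ (q : ℤ) ^ 4 - 1 := by
    intro h6
    have : (q : ℤ) ^ 4 - 1 = (q + 1) * ((q - 1) * (q ^ 2 + 1)) := by ring
    rw [this] at h6
    have h7 : (r : ℤ) ∣ (q : ℤ) + 1 ∨ (r : ℤ) ∣ (q : ℤ) - 1 ∨ (r : ℤ) ∣ (q : ℤ) ^ 2 + 1 := by
      rcases hrz.dvd_or_dvd h6 with h7 | h7
      · exact Or.inl h7
      · exact Or.inr (hrz.dvd_or_dvd h7)
    rcases h7 with h7 | h7 | h7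
    · apply kr3
      have : (3 : ℤ) = ((q : ℤ) ^ 2 - q + 1) - (q + 1) * (q - 2) := by ring
      rw [this]
      exact dvd_sub hz (h7.mul_right _)
    · have h8 : (r : ℤ) ∣ 1 := by
        have : (1 : ℤ) = ((q : ℤ) ^ 2 - q + 1) - (q - 1) * q := by ring
        rw [this]
        exact dvd_sub hz (h7.mul_right _)
      exact hrz.not_dvd_one h8
    · apply kq
      have : (q : ℤ) = ((q : ℤ) ^ 2 + 1) - (q ^ 2 - q + 1) := by ring
      rw [this]
      exact dvd_sub h7 hz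
  have k4' : ¬ r ∣ q ^ 4 - 1 := by
    intro h6
    apply k4
    have h7 : ((q ^ 4 - 1 : ℕ) : ℤ) = (q : ℤ) ^ 4 - 1 := by push_cast [Nat.cast_sub e4]; ring
    rw [← h7]
    exact_mod_cast h6
  have f3 : q ^ 4 - 1 = (q ^ 2 - 1) * (q ^ 2 + 1) := by
    zify [e2, e4]
    ring
  rcases h.ub (x * y) with h1 | h1 | h1 | h1 | h1 | h1
  · -- q ^ 3 - 1
    have h6 : r ∣ q ^ 3 - 1 := (hrd.trans h1).trans (Nat.div_dvd_of_dvd (by have := hodd 3; omega))
    have h7 : (r : ℤ) ∣ (q : ℤ) ^ 3 - 1 := by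
      have h8 : ((q ^ 3 - 1 : ℕ) : ℤ) = (q : ℤ) ^ 3 - 1 := by push_cast [Nat.cast_sub e3]; ring
      rw [← h8]
      exact_mod_cast h6
    apply kr2
    have : (2 : ℤ) = ((q : ℤ) ^ 2 - q + 1) * (q + 1) - (q ^ 3 - 1) := by ring
    rw [this]
    exact dvd_sub (hz.mul_right _) h7
  · -- q ^ 3 + 1
    have h6 := h2d.trans h1
    have := hodd 3
    omega
  · exact k4' ((hrd.trans h1).trans (Nat.div_dvd_of_dvd (by have := hodd 4; omega)))
  · rcases hr.dvd_mul.1 (hrd.trans h1) with h6 | h6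
    · exact hr5 ((Nat.prime_dvd_prime_iff_eq hr Nat.prime_five).1 h6)
    · exact k4' (by rw [f3]; exact h6.mul_left _)
  · rcases hr.dvd_mul.1 (hrd.trans h1) with h6 | h6
    · exact hr5 ((Nat.prime_dvd_prime_iff_eq hr Nat.prime_five).1 h6)
    · exact k4' (by rw [f3]; exact h6.mul_right _)
  · have h6 : r ∣ 5 ^ 2 := (hrd.trans h1).trans (by norm_num)
    exact hr5 ((Nat.prime_dvd_prime_iff_eq hr Nat.prime_five).1 (hr.dvd_of_dvd_pow h6))

/-- `A₇`, `PSL₂(u)`, `u` odd, excluded by the order in characteristic two -/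
theorem no_al2_even {k M t : ℕ} (hk : 4 ≤ k) (hc : Nat.card S = 2 ^ k * M) (hM : M ≤ 2 ^ k * t)
    (ht : 4 * t ≤ 2 ^ k) (hS : AL2 S) : False := by
  have hP : 16 ≤ 2 ^ k := by
    calc 16 = 2 ^ 4 := by norm_num
      _ ≤ 2 ^ k := Nat.pow_le_pow_right (by norm_num) hk
  have hPS : 2 ^ k ∣ Nat.card S := by rw [hc]; exact dvd_mul_right _ _
  rcases hS with ⟨⟨e⟩⟩ | ⟨K, i1, i2, ho, ⟨e⟩⟩
  · have h1 : Nat.card S = 2520 := by
      have : Nontrivial (Fin 7) := inferInstance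
      have h2 := two_mul_nat_card_alternatingGroup (α := Fin 7)
      rw [Nat.card_perm, Nat.card_fin] at h2
      rw [Nat.card_congr e.toEquiv]
      have h3 : Nat.factorial 7 = 5040 := by decide
      omega
    rw [h1] at hPS
    have h2 : 2 ^ 4 ∣ 2520 := (pow_dvd_pow 2 hk).trans hPS
    revert h2; norm_num
  · have hu : 2 ≤ Fintype.card K := Fintype.one_lt_card
    have h1 := H458.Six.card_psl2 (K := K) ho
    rw [← Nat.card_congr e.toEquiv] at h1
    set u := Fintype.card K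
    have h2 : 2 * 2 ^ k ∣ u * (u ^ 2 - 1) := by
      rw [← h1]
      exact Nat.mul_dvd_mul_left 2 hPS
    have h3 : 2 ^ k ≤ u + 1 := by
      have h3 : Nat.Coprime (2 * 2 ^ k) u := by
        rw [← pow_succ']
        exact Nat.Coprime.pow_left _ ((Nat.Prime.coprime_iff_not_dvd Nat.prime_two).2 (by
          obtain ⟨j, hj⟩ := ho; omega))
      have h4 := h3.dvd_of_dvd_mul_left h2
      have h5 : u ^ 2 - 1 = (u + 1) * (u - 1) := by
        rw [← Nat.sq_sub_sq, one_pow]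
      rw [h5] at h4
      obtain ⟨j, hj⟩ := ho
      have hj0 : 1 ≤ j := by omega
      have h6 : (u + 1) * (u - 1) = 2 * (2 * ((j + 1) * j)) := by
        rw [hj, show 2 * j + 1 + 1 = 2 * (j + 1) by ring, show 2 * j + 1 - 1 = 2 * j by omega]
        ring
      rw [h6] at h4
      have h7 : 2 ^ k ∣ 2 * ((j + 1) * j) := Nat.dvd_of_mul_dvd_mul_left two_pos h4
      obtain ⟨i, hi⟩ : ∃ i, k = i + 1 := ⟨k - 1, by omega⟩
      have h8 : 2 ^ i ∣ (j + 1) * j := by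
        rw [hi, pow_succ'] at h7
        exact Nat.dvd_of_mul_dvd_mul_left two_pos h7
      have h9 : 2 ^ k = 2 * 2 ^ i := by rw [hi, pow_succ']
      rcases Nat.even_or_odd j with hj2 | hj2
      · have h10 : Nat.Coprime (2 ^ i) (j + 1) := Nat.Coprime.pow_left _
          ((Nat.Prime.coprime_iff_not_dvd Nat.prime_two).2 (by obtain ⟨a, ha⟩ := hj2; omega))
        have h11 := Nat.le_of_dvd hj0 (h10.dvd_of_dvd_mul_left h8)
        omega
      · have h10 : Nat.Coprime (2 ^ i) j := Nat.Coprime.pow_left _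
          ((Nat.Prime.coprime_iff_not_dvd Nat.prime_two).2 (by obtain ⟨a, ha⟩ := hj2; omega))
        have h11 := Nat.le_of_dvd (by omega) (h10.dvd_of_dvd_mul_right h8)
        omega
    set P := 2 ^ k
    have h5 : u * (u ^ 2 - 1) ≤ 2 * (P * (P * t)) := by
      rw [← h1, hc]
      exact Nat.mul_le_mul_left 2 (Nat.mul_le_mul_left P hM)
    obtain ⟨a, ha⟩ : ∃ a, P = a + 2 := ⟨P - 2, by omega⟩
    have h6 : (a + 1) * ((a + 1) ^ 2 - 1) ≤ u * (u ^ 2 - 1) :=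
      Nat.mul_le_mul (by omega) (Nat.sub_le_sub_right (Nat.pow_le_pow_left (by omega) 2) 1)
    have h7 : (a + 1) ^ 2 - 1 = a * (a + 2) := by
      have : (a + 1) ^ 2 = a * (a + 2) + 1 := by ring
      omega
    rw [h7] at h6
    have h8 := h6.trans h5
    rw [ha] at h8 ht hP
    have h9 : (a + 1) * a ≤ 2 * (a + 2) * t := by
      have h10 : (a + 2) * ((a + 1) * a) ≤ (a + 2) * (2 * (a + 2) * t) := by
        calc (a + 2) * ((a + 1) * a) = (a + 1) * (a * (a + 2)) := by ring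
          _ ≤ 2 * ((a + 2) * ((a + 2) * t)) := h8
          _ = (a + 2) * (2 * (a + 2) * t) := by ring
      exact Nat.le_of_mul_le_mul_left h10 (by omega)
    nlinarith

end Cfsg.Agent.H75.M5h
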