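import Cfsg.Agent.H75.Lower

/-!
More counting: norms in a subspace, totally singular pairs, vectors in even characteristic.
-/

set_option autoImplicit false

namespace Cfsg.Agent.H75.OrthIdx

open QuadraticMap Cfsg.Agent.LieClassical.OrthCore Cfsg.Agent.LieClassical.OrthTrans

variable {F V : Type*} [Field F] [AddCommGroup V] [Module F V] {Q : QuadraticForm F V}

/-- Vectors of given norm in a subspace with a given nonzero product with a singular vector. -/
theorem ncard_sub_norm {e f : V} (h : Hyp Q e f) (S : Submodule F V) (he : e ∈ S) (hf : f ∈ S)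
    {β : F} (hβ : β ≠ 0) (c : F) : {w : V | w ∈ S ∧ polar Q e w = β ∧ Q w = c}.ncard
      = {w : V | w ∈ S ∧ polar Q e w = 0 ∧ polar Q f w = 0}.ncard := by
  classical
  let φ : V → V := fun w => w + β • f + (β⁻¹ * (c - Q w)) • e
  have himg : {w : V | w ∈ S ∧ polar Q e w = β ∧ Q w = c} =
      φ '' {w : V | w ∈ S ∧ polar Q e w = 0 ∧ polar Q f w = 0} := by
    ext w
    constructor
    · rintro ⟨hwS, h1, h2⟩
      refine ⟨w - β • f - (polar Q f w) • e, ⟨?_, ?_, ?_⟩, ?_⟩
      · exact S.sub_mem (S.sub_mem hwS (S.smul_mem _ hf)) (S.smul_mem _ he)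
      · simp only [polar_sub_right, polar_smul_right, h1, h.pair, h.polar_left, smul_eq_mul]
        ring
      · simp only [polar_sub_right, polar_smul_right, h.polar_right, h.pair', smul_eq_mul]
        ring
      · have e1 : Q (w - β • f - (polar Q f w) • e) = c - β * polar Q f w := by
          have hfw : polar Q w f = polar Q f w := polar_comm _ _ _
          have hew : polar Q w e = β := by rw [polar_comm]; exact h1
          rw [sub_eq_add_neg, sub_eq_add_neg, ← neg_smul, ← neg_smul, Q_add, Q_add,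
            QuadraticMap.map_smul, QuadraticMap.map_smul, h.left, h.right, polar_add_left,
            polar_smul_right, polar_smul_right, polar_smul_right, polar_smul_left, h.pair', hfw,
            hew, h2]
          simp only [smul_eq_mul]
          ring
        show w - β • f - (polar Q f w) • e + β • f + (β⁻¹ * (c - Q _)) • e = w
        rw [e1]
        have e2 : β⁻¹ * (c - (c - β * polar Q f w)) = polar Q f w := by
          field_simp
          ring
        rw [e2]
        module
    · rintro ⟨w, ⟨hwS, h1, h2⟩, rfl⟩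
      have hwe : polar Q w e = 0 := by rw [polar_comm]; exact h1
      have hwf : polar Q w f = 0 := by rw [polar_comm]; exact h2
      refine ⟨S.add_mem (S.add_mem hwS (S.smul_mem _ hf)) (S.smul_mem _ he), ?_, ?_⟩
      · simp only [φ, polar_add_right, polar_smul_right, h1, h.pair, h.polar_left, smul_eq_mul]
        ring
      · simp only [φ, Q_add, QuadraticMap.map_smul, h.left, h.right, polar_add_left,
          polar_smul_right, polar_smul_left, hwe, hwf, h.pair', smul_eq_mul]
        field_simp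
        ring
  rw [himg]
  apply Set.InjOn.ncard_image
  intro w hw w' hw' heq
  have e1 : polar Q f (φ w) = β⁻¹ * (c - Q w) := by
    simp only [φ, polar_add_right, polar_smul_right, hw.2.2, h.pair', h.polar_right, smul_eq_mul]
    ring
  have e1' : polar Q f (φ w') = β⁻¹ * (c - Q w') := by
    simp only [φ, polar_add_right, polar_smul_right, hw'.2.2, h.pair', h.polar_right, smul_eq_mul]
    ring
  have e3 : β⁻¹ * (c - Q w) = β⁻¹ * (c - Q w') := by rw [← e1, ← e1', heq]
  have h5 : w + β • f + (β⁻¹ * (c - Q w)) • e = w' + β • f + (β⁻¹ * (c - Q w')) • e := heq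
  rw [e3] at h5
  exact add_right_cancel (add_right_cancel h5)

section fin

variable [Finite F] [FiniteDimensional F V]

/-- Partition of a set by the value of a function with values in `F`. -/
theorem ncard_split (X : Set V) (g : V → F) {k : ℕ}
    (h : ∀ β : F, β ≠ 0 → {w | w ∈ X ∧ g w = β}.ncard = k) :
    {w | w ∈ X ∧ g w = 0}.ncard + (Nat.card F - 1) * k = X.ncard := by
  classical
  have : Finite V := Module.finite_of_finite F
  have := Fintype.ofFinite F
  have hsplit : X = ⋃ β ∈ (Finset.univ : Finset F), {w : V | w ∈ X ∧ g w = β} := by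
    ext w
    simp
  have key : ∀ (s : Finset F), (⋃ β ∈ s, {w : V | w ∈ X ∧ g w = β}).ncard =
      ∑ β ∈ s, {w : V | w ∈ X ∧ g w = β}.ncard := by
    intro s
    induction s using Finset.induction_on with
    | empty => simp
    | insert a s ha ih =>
      rw [Finset.set_biUnion_insert, Set.ncard_union_eq, Finset.sum_insert ha, ih]
      rw [Set.disjoint_left]
      rintro w ⟨-, h1⟩ hw
      simp only [Set.mem_iUnion, Set.mem_ofPred_eq, exists_prop] at hw
      obtain ⟨b, hb, -, h2⟩ := hw
      exact ha (by rw [← h1, h2]; exact hb)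
  have hsum : X.ncard = ∑ β : F, {w : V | w ∈ X ∧ g w = β}.ncard := by
    rw [← key, ← hsplit]
  rw [hsum, ← Finset.add_sum_erase Finset.univ _ (Finset.mem_univ (0 : F)),
    Finset.sum_congr rfl (fun β hβ => h β (Finset.ne_of_mem_erase hβ)),
    Finset.sum_const, Finset.card_erase_of_mem (Finset.mem_univ _), Finset.card_univ, smul_eq_mul,
    Nat.card_eq_fintype_card]

/-- The number of vectors of norm `c` orthogonal to two orthogonal independent singular vectors. -/
theorem ncard_norm_perp_sing2 (hQ : Nondeg Q) {e w1 : V}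
    (hew : polar Q e w1 = 0) (hw1 : Q w1 = 0) (hli : LinearIndependent F ![e, w1]) (c : F) :
    {w : V | polar Q e w = 0 ∧ polar Q w1 w = 0 ∧ Q w = c}.ncard +
      (Nat.card F - 1) * Nat.card F ^ (Module.finrank F V - 3) =
        {w : V | polar Q e w = 0 ∧ Q w = c}.ncard := by
  classical
  have : Finite V := Module.finite_of_finite F
  -- a partner of `w1` orthogonal to `e`
  obtain ⟨y, hy⟩ : ({w : V | ∀ i, polar Q (![e, w1] i) w = ![(0 : F), 1] i}).Nonempty := by
    rw [← Set.ncard_pos (Set.toFinite _), ncard_lin hQ _ hli]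
    exact pow_pos Nat.card_pos _
  have hey : polar Q e y = 0 := hy 0
  have hwy : polar Q w1 y = 1 := hy 1
  set f1 := y - Q y • w1 with hf1
  have hyp1 : Hyp Q w1 f1 := by
    refine ⟨hw1, ?_, ?_⟩
    · rw [hf1, sub_eq_add_neg, ← neg_smul, Q_add, QuadraticMap.map_smul, hw1, polar_smul_right,
        polar_comm, hwy]
      simp
    · rw [hf1, polar_sub_right, polar_smul_right, polar_self_of_sing hw1, hwy]
      simp
  have hef1 : polar Q e f1 = 0 := by
    rw [hf1, polar_sub_right, polar_smul_right, hey, hew]; simp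
  have hli3 : LinearIndependent F ![e, w1, f1] := by
    apply li3_of hli (polarBilin Q w1)
    · rw [polarBilin_apply_apply, polar_comm]; exact hew
    · rw [polarBilin_apply_apply]; exact polar_self_of_sing hw1
    · rw [polarBilin_apply_apply, hyp1.pair]; exact one_ne_zero
  have h1 := ncard_split {w : V | polar Q e w = 0 ∧ Q w = c} (fun w => polar Q w1 w)
    (k := Nat.card F ^ (Module.finrank F V - 3)) (by
      intro β hβ
      have h2 := ncard_sub_norm hyp1 (ep Q e) (mem_ep.2 hew) (mem_ep.2 hef1) hβ c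
      have h3 := ncard_lin hQ ![e, w1, f1] hli3 0
      have e1 : {w | w ∈ {w : V | polar Q e w = 0 ∧ Q w = c} ∧ polar Q w1 w = β} =
          {w : V | w ∈ ep Q e ∧ polar Q w1 w = β ∧ Q w = c} := by
        ext w
        simp only [Set.mem_ofPred_eq, mem_ep]
        tauto
      have e2 : {w : V | w ∈ ep Q e ∧ polar Q w1 w = 0 ∧ polar Q f1 w = 0} =
          {w : V | ∀ i, polar Q (![e, w1, f1] i) w = (0 : Fin 3 → F) i} := by
        ext w
        constructor
        · rintro ⟨h4, h5, h6⟩ i
          fin_cases i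
          · exact h4
          · exact h5
          · exact h6
        · intro h4
          exact ⟨h4 0, h4 1, h4 2⟩
      rw [e1, h2, e2, h3])
  have e3 : {w : V | polar Q e w = 0 ∧ polar Q w1 w = 0 ∧ Q w = c} =
      {w | w ∈ {w : V | polar Q e w = 0 ∧ Q w = c} ∧ polar Q w1 w = 0} := by
    ext w
    simp only [Set.mem_ofPred_eq]
    tauto
  rw [e3]
  exact h1

omit [Finite F] [FiniteDimensional F V] in
theorem finrank_span_pair {x y : V} (h : LinearIndependent F ![x, y]) :
    Module.finrank F (Submodule.span F {x, y}) = 2 := by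
  have := finrank_span_eq_card h
  rw [Matrix.range_cons_cons_empty] at this
  simpa using this

omit [Finite F] [FiniteDimensional F V] in
theorem ncard_span_pair {x y : V} (h : LinearIndependent F ![x, y]) :
    (Submodule.span F {x, y} : Set V).ncard = Nat.card F ^ 2 := by
  have h1 : (Submodule.span F {x, y} : Set V).ncard = Nat.card (Submodule.span F {x, y}) := rfl
  have : FiniteDimensional F (Submodule.span F {x, y}) :=
    FiniteDimensional.span_of_finite F (Set.toFinite _)
  rw [h1, Module.natCard_eq_pow_finrank (K := F) (V := Submodule.span F {x, y}),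
    finrank_span_pair h]

/-- Singular vectors orthogonal to `e, w1` and independent of them. -/
theorem ncard_second_sing (hQ : Nondeg Q) {e f w1 : V} (h : Hyp Q e f)
    (hew : polar Q e w1 = 0) (hw1 : Q w1 = 0) (hli : LinearIndependent F ![e, w1]) :
    {w : V | polar Q e w = 0 ∧ polar Q w1 w = 0 ∧ Q w = 0 ∧
      LinearIndependent F ![e, w1, w]}.ncard + Nat.card F ^ 2 +
      (Nat.card F - 1) * Nat.card F ^ (Module.finrank F V - 3) =
        {w : V | polar Q e w = 0 ∧ Q w = 0}.ncard := by
  classical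
  have : Finite V := Module.finite_of_finite F
  rw [← ncard_norm_perp_sing2 hQ hew hw1 hli 0]
  congr 1
  have h1 : {w : V | polar Q e w = 0 ∧ polar Q w1 w = 0 ∧ Q w = 0} =
      {w : V | polar Q e w = 0 ∧ polar Q w1 w = 0 ∧ Q w = 0 ∧
      LinearIndependent F ![e, w1, w]} ∪ (Submodule.span F {e, w1} : Set V) := by
    ext w
    constructor
    · rintro ⟨h1, h2, h3⟩
      by_cases hw : w ∈ Submodule.span F {e, w1}
      · right; exact hw
      · left; exact ⟨h1, h2, h3, li3_of_notMem hli hw⟩
    · rintro (⟨h1, h2, h3, -⟩ | hw)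
      · exact ⟨h1, h2, h3⟩
      · obtain ⟨a, b, rfl⟩ := Submodule.mem_span_pair.1 hw
        have hwe : polar Q w1 e = 0 := by rw [polar_comm]; exact hew
        refine ⟨?_, ?_, ?_⟩
        · rw [polar_add_right, polar_smul_right, polar_smul_right, h.polar_left, hew]; simp
        · rw [polar_add_right, polar_smul_right, polar_smul_right, hwe,
            polar_self_of_sing hw1]; simp
        · rw [Q_add, QuadraticMap.map_smul, QuadraticMap.map_smul, h.left, hw1,
            polar_smul_left, polar_smul_right, hew]; simp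
  have h2 : Disjoint {w : V | polar Q e w = 0 ∧ polar Q w1 w = 0 ∧ Q w = 0 ∧
      LinearIndependent F ![e, w1, w]} (Submodule.span F {e, w1} : Set V) := by
    rw [Set.disjoint_left]
    rintro w ⟨-, -, -, hli3⟩ hw
    obtain ⟨a, b, rfl⟩ := Submodule.mem_span_pair.1 hw
    rw [Fintype.linearIndependent_iff] at hli3
    have h5 := hli3 ![a, b, -1] (by
      rw [Fin.sum_univ_three]
      show a • e + b • w1 + (-1 : F) • (a • e + b • w1) = 0
      module) 2
    have h6 : (-1 : F) = 0 := h5
    exact one_ne_zero (neg_eq_zero.1 h6)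
  rw [h1, Set.ncard_union_eq h2 (Set.toFinite _) (Set.toFinite _), ncard_span_pair hli]

/-- Number of totally singular pairs. -/
theorem le_ncard_pairSet_ts (hQ : Nondeg Q) {e f v1 v2 : V} (h : Hyp Q e f)
    (hv1 : Q v1 = 0) (hv2 : Q v2 = 0) (hv12 : polar Q v1 v2 = 0) {M : ℕ}
    (hM : M + Nat.card F ^ 2 + (Nat.card F - 1) * Nat.card F ^ (Module.finrank F V - 3) ≤
        {w : V | polar Q e w = 0 ∧ Q w = 0}.ncard) :
    (VecSet Q e v1).ncard * M ≤ (PairSet Q e v1 v2).ncard := by
  have : Finite V := Module.finite_of_finite F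
  apply mul_le_ncard
  rintro w1 ⟨h1, hli, μ, hμ, hQ1⟩
  rw [hv1, mul_zero] at hQ1
  have h3 := ncard_second_sing hQ h h1 hQ1 hli
  have h4 : M ≤ {w : V | polar Q e w = 0 ∧ polar Q w1 w = 0 ∧ Q w = 0 ∧
      LinearIndependent F ![e, w1, w]}.ncard := by omega
  refine h4.trans (Set.ncard_le_ncard ?_ (Set.toFinite _))
  rintro w ⟨h5, h6, h7, h8⟩
  exact ⟨h1, h5, h8, 1, one_ne_zero, by rw [hQ1, hv1, mul_zero], by rw [h7, hv2, mul_zero],
    by rw [h6, hv12, mul_zero]⟩

/-- Bound for totally singular pairs. -/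
theorem ts_pair_bound (hG : Good Q) (hd : 8 ≤ Module.finrank F V) {e f : V} (h : Hyp Q e f)
    (b : Bool) (N : Subgroup (V ≃ₗ[F] V)) (S : Set V) (hS : Stab Q e f b N S)
    {v1 v2 : V} (hv1 : v1 ∈ S) (hv2 : v2 ∈ S) (hev1 : polar Q e v1 = 0)
    (hev2 : polar Q e v2 = 0) (hv1Q : Q v1 = 0) (hv2Q : Q v2 = 0) (hv12 : polar Q v1 v2 = 0)
    (hli : LinearIndependent F ![e, v1, v2]) {M : ℕ}
    (hM : M + Nat.card F ^ 2 + (Nat.card F - 1) * Nat.card F ^ (Module.finrank F V - 3) ≤
        {w : V | polar Q e w = 0 ∧ Q w = 0}.ncard) :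
    (VecSet Q e v1).ncard * M ≤
      N.relIndex (Pst Q e) * (PairSet Q e v1 v2 ∩ S ×ˢ S).ncard := by
  refine (le_ncard_pairSet_ts hG.nondeg h hv1Q hv2Q hv12 hM).trans
    (ncard_pairSet_le hG h b N hS hv1 hv2 hev1 hev2 hli ?_)
  intro c _
  have hT3 : Module.finrank F (Submodule.span F (Set.range ![e, v1, v2])) = 3 := by
    have := finrank_span_eq_card hli
    simpa using this
  obtain ⟨z, hz, hzc⟩ := exists_norm_perp hG.nondeg (Submodule.span F (Set.range ![e, v1, v2]))
    (by left; omega) c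
  exact ⟨z, hzc, fun i => hz _ (Submodule.subset_span ⟨i, rfl⟩)⟩

/-- In even characteristic all nonsingular vectors of `e⊥` are in `VecSet e v`. -/
theorem mul_le_ncard_vecSet_even (h2 : (2 : F) = 0) {e v : V} (he : e ≠ 0) (heQ : Q e = 0)
    (hv : Q v ≠ 0) {K : ℕ}
    (hK : ∀ c : F, c ≠ 0 → K ≤ {w | polar Q e w = 0 ∧ Q w = c}.ncard) :
    (Nat.card F - 1) * K ≤ (VecSet Q e v).ncard := by
  classical
  have : Finite V := Module.finite_of_finite F
  set O' : Set (F × V) := {p | p.1 ≠ 0 ∧ polar Q e p.2 = 0 ∧ Q p.2 = p.1} with hO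
  have h1 : {μ : F | μ ≠ 0}.ncard * K ≤ O'.ncard := by
    apply mul_le_ncard
    intro μ hμ
    refine (hK μ hμ).trans (Set.ncard_le_ncard ?_ (Set.toFinite _))
    rintro w ⟨h1, h2⟩
    exact ⟨hμ, h1, h2⟩
  have hFc : {s : F | s ≠ 0}.ncard = Nat.card F - 1 := by
    have h1 : {s : F | s ≠ 0} = {0}ᶜ := rfl
    rw [h1, Set.ncard_compl, Set.ncard_singleton]
  rw [← hFc]
  refine h1.trans ?_
  have h3 : O'.ncard = (Prod.snd '' O').ncard := by
    symm
    apply Set.InjOn.ncard_image
    rintro ⟨a, w⟩ ⟨-, -, ha⟩ ⟨b, w'⟩ ⟨-, -, hb⟩ hw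
    have hw' : w = w' := hw
    subst hw'
    have ha' : Q w = a := ha
    have hb' : Q w = b := hb
    rw [← ha', ← hb']
  rw [h3]
  refine Set.ncard_le_ncard ?_ (Set.toFinite _)
  rintro _ ⟨⟨a, w⟩, ⟨ha, hw, hwQ⟩, rfl⟩
  have hwQ' : Q w = a := hwQ
  have ha' : a ≠ 0 := ha
  obtain ⟨μ, hμ⟩ := exists_sq_of_two_eq_zero h2 (Q w * (Q v)⁻¹)
  refine ⟨hw, li2_of_nonsing he heQ hw (by rw [hwQ']; exact ha'), μ, ?_, ?_⟩
  · rintro rfl
    rw [mul_zero] at hμ
    exact mul_ne_zero (by rw [hwQ']; exact ha') (inv_ne_zero hv) hμ.symm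
  · rw [hμ, inv_mul_cancel_right₀ hv]

/-- The pair bound without the factor `p/2`. -/
theorem pair_bound' (hG : Good Q) (hd : 7 ≤ Module.finrank F V) {e f : V} (h : Hyp Q e f)
    (b : Bool) (N : Subgroup (V ≃ₗ[F] V)) (S : AddSubgroup V) (hS : Stab Q e f b N (S : Set V))
    (hSe : ∀ v ∈ S, polar Q e v = 0) {v1 : V} (hv1 : v1 ∈ S) (hv1Q : Q v1 ≠ 0)
    (hsp : ∃ v2 ∈ S, v2 ∉ Submodule.span F {e, v1}) {K : ℕ}
    (hK : ∀ c : F, c ≠ 0 → K ≤ {w | polar Q e w = 0 ∧ Q w = c}.ncard) :
    (Nat.card F - 1) * K * ((Nat.card F - 1) * Nat.card F ^ (Module.finrank F V - 4)) ≤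
      N.relIndex (Pst Q e) * (Nat.card S * Nat.card S) := by
  classical
  have : Finite V := Module.finite_of_finite F
  by_cases h2 : (2 : F) = 0
  · obtain ⟨v2, hv2, hv2n⟩ := hsp
    have he0 : e ≠ 0 := h.left_ne
    have hli2 := li2_of_nonsing (F := F) he0 h.left (hSe v1 hv1) hv1Q
    have hli := li3_of_notMem hli2 hv2n
    have huniv : ∀ c : F, c ≠ 0 → ∃ z, Q z = c ∧ ∀ i, polar Q (![e, v1, v2] i) z = 0 := by
      intro c _
      have hT3 : Module.finrank F (Submodule.span F (Set.range ![e, v1, v2])) = 3 := by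
        have := finrank_span_eq_card hli
        simpa using this
      obtain ⟨z, hz, hzc⟩ := exists_norm_perp hG.nondeg
        (Submodule.span F (Set.range ![e, v1, v2])) (by
          right
          refine ⟨by omega, v1, Submodule.subset_span ⟨1, rfl⟩, hv1Q⟩) c
      exact ⟨z, hzc, fun i => hz _ (Submodule.subset_span ⟨i, rfl⟩)⟩
    have h1 := ncard_pairSet_le hG h b N hS hv1 hv2 (hSe v1 hv1) (hSe v2 hv2) hli huniv
    have h3 := trivial_inter_le (F := F) S (PairSet Q e v1 v2)
    have h4 := le_ncard_pairSet hG.nondeg hd e v1 v2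
    have h5 := mul_le_ncard_vecSet_even h2 he0 h.left hv1Q hK
    exact (Nat.mul_le_mul_right _ h5).trans (h4.trans (h1.trans (Nat.mul_le_mul_left _ h3)))
  · obtain ⟨p, hp⟩ := CharP.exists F
    have := Fintype.ofFinite F
    obtain ⟨n, hprime, hn⟩ := FiniteField.card F p
    have hp2 : p ≠ 2 := by
      rintro rfl
      exact h2 CharTwo.two_eq_zero
    have hp3 : 3 ≤ p := by
      have := hprime.two_le
      omega
    have h1 := pair_bound hG hd hprime (by rw [Nat.card_eq_fintype_card]; exact hn) h2 h b N S hS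
      hSe hv1 hv1Q hsp hK
    set L := (Nat.card F - 1) * K * ((Nat.card F - 1) * Nat.card F ^ (Module.finrank F V - 4))
    have h3 := (Nat.mul_le_mul_right L hp3).trans h1
    omega

/-- `4 (q-1) K ≤ p² |VecSet|` for a nonsingular vector. -/
theorem four_mul_le_vecSet {p k : ℕ} (hp : p.Prime) (hq : Nat.card F = p ^ k) {e v : V}
    (he : e ≠ 0) (heQ : Q e = 0) (hv : Q v ≠ 0) {K : ℕ}
    (hK : ∀ c : F, c ≠ 0 → K ≤ {w | polar Q e w = 0 ∧ Q w = c}.ncard) :
    4 * ((Nat.card F - 1) * K) ≤ p * p * (VecSet Q e v).ncard := by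
  by_cases h2 : (2 : F) = 0
  · have h1 := mul_le_ncard_vecSet_even h2 he heQ hv hK
    have hp4 : 4 ≤ p * p := Nat.mul_le_mul hp.two_le hp.two_le
    exact Nat.mul_le_mul hp4 h1
  · have h1 := mul_le_ncard_vecSet he heQ hv hK
    have hp3 : 3 ≤ p := by
      have h3 : p ≠ 2 := by
        rintro rfl
        have := Fintype.ofFinite F
        have h4 := Nat.cast_card_eq_zero F
        rw [← Nat.card_eq_fintype_card, hq] at h4
        push_cast at h4
        rcases Nat.eq_zero_or_pos k with h5 | h5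
        · rw [h5, pow_zero] at h4
          exact one_ne_zero h4
        · exact h2 (pow_eq_zero_iff h5.ne' |>.1 h4)
      have := hp.two_le
      omega
    have hp9 : 9 ≤ p * p := Nat.mul_le_mul hp3 hp3
    have h3 := Nat.mul_le_mul_right (VecSet Q e v).ncard hp9
    omega

end fin

end Cfsg.Agent.H75.OrthIdx
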