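import Cfsg.Agent.H75.OddGeo

/-!
Stabilisers of subspaces in `E Q`, and the lower bound for the index of a proper subgroup of
`E Q` in odd dimension.
-/

set_option autoImplicit false

namespace Cfsg.Agent.H75.OrthIdx

open QuadraticMap Cfsg.Agent.LieClassical.OrthCore Cfsg.Agent.LieClassical.OrthTrans

variable {F V : Type*} [Field F] [AddCommGroup V] [Module F V] {Q : QuadraticForm F V}

/-- The stabiliser of a subspace in `E Q`. -/
def StT (Q : QuadraticForm F V) (T : Submodule F V) : Subgroup (V ≃ₗ[F] V) where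
  carrier := {g | g ∈ E Q ∧ ∀ x, x ∈ T ↔ g x ∈ T}
  mul_mem' {a b} ha hb := ⟨(E Q).mul_mem ha.1 hb.1, fun x => (hb.2 x).trans (ha.2 (b x))⟩
  one_mem' := ⟨(E Q).one_mem, fun _ => Iff.rfl⟩
  inv_mem' {a} ha := by
    refine ⟨(E Q).inv_mem ha.1, fun x => ?_⟩
    have h1 : a (a⁻¹ x) = x := LinearEquiv.apply_symm_apply a x
    rw [ha.2 (a⁻¹ x), h1]

theorem mem_StT {T : Submodule F V} {g : V ≃ₗ[F] V} :
    g ∈ StT Q T ↔ g ∈ E Q ∧ ∀ x, x ∈ T ↔ g x ∈ T := Iff.rfl

theorem le_StT {H : Subgroup (V ≃ₗ[F] V)} (hH : H ≤ E Q) {T : Submodule F V}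
    (h : ∀ h ∈ H, ∀ x ∈ T, h x ∈ T) : H ≤ StT Q T := by
  intro g hg
  refine ⟨hH hg, fun x => ⟨h g hg x, fun hx => ?_⟩⟩
  have h1 := h g⁻¹ (H.inv_mem hg) _ hx
  have h2 : g⁻¹ (g x) = x := LinearEquiv.symm_apply_apply g x
  rwa [h2] at h1

section fin

variable [Finite F] [FiniteDimensional F V]

/-- The index of a subgroup stabilising a singular point. -/
theorem sing_point_bound (hG : Good Q) {H : Subgroup (V ≃ₗ[F] V)} (_hH : H ≤ E Q) {t : V}
    (ht0 : t ≠ 0) (htQ : Q t = 0) (hst : ∀ h ∈ H, h t ∈ Submodule.span F {t}) :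
    {w : V | w ≠ 0 ∧ Q w = 0}.ncard ≤ H.relIndex (E Q) * (Nat.card F - 1) := by
  classical
  have : Finite V := Module.finite_of_finite F
  set T : Set V := {w | w ≠ 0 ∧ w ∈ Submodule.span F {t}} with hT
  have hTc : T.ncard ≤ Nat.card F - 1 := by
    have h1 : T = (Submodule.span F {t} : Set V) \ {0} := by
      ext w
      simp only [hT, Set.mem_ofPred_eq, Set.mem_sdiff, SetLike.mem_coe, Set.mem_singleton_iff]
      tauto
    rw [h1, Set.ncard_sdiff_singleton_of_mem (Submodule.zero_mem _)]
    have h2 : (Submodule.span F {t} : Set V).ncard = Nat.card (Submodule.span F {t}) := rfl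
    rw [h2, Module.natCard_eq_pow_finrank (K := F) (V := Submodule.span F {t}),
      finrank_span_singleton ht0, pow_one]
  refine (ncard_le_relIndex_mul (E Q) H (relIndex_ne _ _) (fun g y => g y) T (Set.toFinite _)
    _ ?_ ?_).trans (Nat.mul_le_mul_left _ hTc)
  · rintro y ⟨hy0, hyQ⟩
    obtain ⟨g, hg, hgt⟩ := hG.trans_sing htQ hyQ ht0 hy0
    exact ⟨g, hg, t, ⟨ht0, Submodule.mem_span_singleton_self t⟩, hgt⟩
  · rintro g hg n hn hnE x ⟨hx0, hx⟩
    refine ⟨n x, ⟨(map_ne_zero_iff n n.injective).2 hx0, ?_⟩, rfl⟩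
    obtain ⟨c, rfl⟩ := Submodule.mem_span_singleton.1 hx
    rw [map_smul]
    exact Submodule.smul_mem _ _ (hst n hn)

/-- The index of a subgroup stabilising a nonsingular point. -/
theorem nonsing_point_bound (hG : Good Q) {H : Subgroup (V ≃ₗ[F] V)} (_hH : H ≤ E Q) {a : V}
    (haQ : Q a ≠ 0) (hst : ∀ h ∈ H, h a ∈ Submodule.span F {a}) :
    {w : V | Q w = Q a}.ncard ≤ H.relIndex (E Q) * 2 := by
  classical
  have : Finite V := Module.finite_of_finite F
  have ha0 : a ≠ 0 := by
    rintro rfl; exact haQ (QuadraticMap.map_zero Q)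
  have hTc : ({a, -a} : Set V).ncard ≤ 2 := by
    refine (Set.ncard_insert_le _ _).trans ?_
    rw [Set.ncard_singleton]
  refine (ncard_le_relIndex_mul (E Q) H (relIndex_ne _ _) (fun g y => g y) {a, -a}
    (Set.toFinite _) _ ?_ ?_).trans (Nat.mul_le_mul_left _ hTc)
  · intro y hy
    have hy' : Q y = Q a := hy
    have hy0 : y ≠ 0 := by
      rintro rfl
      rw [QuadraticMap.map_zero] at hy'
      exact haQ hy'.symm
    obtain ⟨g, hg, hgt⟩ := hG.trans_norm ha0 hy0 hy'.symm
    exact ⟨g, hg, a, by simp, hgt⟩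
  · rintro g hg n hn hnE x hx
    refine ⟨n x, ?_, rfl⟩
    obtain ⟨c, hc⟩ := Submodule.mem_span_singleton.1 (hst n hn)
    have h1 : Q (n a) = Q a := mem_O.1 (E_le_O hnE) a
    rw [← hc, QuadraticMap.map_smul, smul_eq_mul] at h1
    have h2 : c * c = 1 := by
      have h3 : (c * c - 1) * Q a = 0 := by linear_combination h1
      exact sub_eq_zero.1 ((mul_eq_zero.1 h3).resolve_right haQ)
    have h3 : n a = a ∨ n a = -a := by
      have h4 : (c - 1) * (c + 1) = 0 := by linear_combination h2
      rcases mul_eq_zero.1 h4 with h5 | h5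
      · left; rw [← hc, sub_eq_zero.1 h5, one_smul]
      · right; rw [← hc, eq_neg_of_add_eq_zero_left h5, neg_smul, one_smul]
    rcases hx with rfl | rfl
    · rcases h3 with h | h
      · rw [h]; simp
      · rw [h]; simp
    · rw [map_neg]
      rcases h3 with h | h
      · rw [h]; simp
      · rw [h]; simp

omit [Finite F] in
/-- `Ws` for the stabiliser of a totally singular subspace. -/
theorem finrank_Ws_StT (T : Submodule F V)
    {t e : V} (ht : t ∈ T) (h : Hyp Q t e) :
    Module.finrank F (Ws Q (StT Q T) e) ≤ Module.finrank F T := by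
  have hle : Ws Q (StT Q T) e ≤ (T ⊔ Submodule.span F {e}) ⊓ perp Q (Submodule.span F {e}) := by
    intro w hw
    refine ⟨?_, ?_⟩
    · have h1 := ((Ws.sg_mem hw).2 t).1 ht
      rw [sg_apply h.right hw.1, h.pair'] at h1
      have h2 : w = (t + (1 : F) • w - polar Q w t • e - (Q w * 1) • e) - t +
          (polar Q w t + Q w) • e := by module
      rw [h2]
      exact Submodule.add_mem _ (Submodule.mem_sup_left (Submodule.sub_mem _ h1 ht))
        (Submodule.mem_sup_right (Submodule.smul_mem _ _ (Submodule.mem_span_singleton_self e)))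
    · exact (perp_span _ _).2 (by rintro s rfl; exact hw.1)
  have hlt : (T ⊔ Submodule.span F {e}) ⊓ perp Q (Submodule.span F {e}) <
      T ⊔ Submodule.span F {e} := by
    refine lt_of_le_of_ne inf_le_left fun heq => ?_
    have h1 : t ∈ T ⊔ Submodule.span F {e} := Submodule.mem_sup_left ht
    rw [← heq] at h1
    have h2 := h1.2 e (Submodule.mem_span_singleton_self e)
    rw [h.pair'] at h2
    exact one_ne_zero h2
  have h1 := Submodule.finrank_mono hle
  have h2 := Submodule.finrank_lt_finrank_of_lt hlt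
  have h3 := Submodule.finrank_add_le_finrank_add_finrank T (Submodule.span F {e})
  rw [finrank_span_singleton h.right_ne] at h3
  omega

omit [Finite F] in
/-- `e` is in `PP` of the stabiliser of a totally singular subspace of dimension at least two not
orthogonal to `e`. -/
theorem mem_PP_StT (T : Submodule F V) (hT : ∀ x ∈ T, Q x = 0)
    (hT2 : 2 ≤ Module.finrank F T) {t e : V} (ht : t ∈ T) (h : Hyp Q t e) :
    e ∈ PP Q (StT Q T) := by
  have hv : ∃ v ∈ T, v ≠ 0 ∧ polar Q e v = 0 := by
    let φ : T →ₗ[F] F := (polarBilin Q e).comp T.subtype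
    have h1 := LinearMap.finrank_range_add_finrank_ker φ
    have h2 : Module.finrank F (LinearMap.range φ) ≤ 1 := by
      refine (Submodule.finrank_le _).trans ?_
      rw [Module.finrank_self]
    have h3 : 0 < Module.finrank F (LinearMap.ker φ) := by omega
    have h4 : LinearMap.ker φ ≠ ⊥ := by
      intro h5
      rw [h5, finrank_bot] at h3
      exact lt_irrefl _ h3
    obtain ⟨v, hv, hv0⟩ := (Submodule.ne_bot_iff _).1 h4
    exact ⟨v, v.2, fun h5 => hv0 (Subtype.ext h5), hv⟩
  obtain ⟨v, hvT, hv0, hev⟩ := hv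
  have hvQ : Q v = 0 := hT v hvT
  have key : ∀ v ∈ T, polar Q e v = 0 → ∀ x ∈ T, sg Q e v x ∈ T := by
    intro v hv hev x hx
    rw [sg_apply h.right hev, hT v hv, polar_eq_zero_of_ts hT hv hx]
    rw [zero_smul, sub_zero, zero_mul, zero_smul, sub_zero]
    exact T.add_mem hx (T.smul_mem _ hv)
  refine ⟨h.right_ne, h.right, v, ⟨hev, sg_mem_E _ _, fun x => ⟨key v hvT hev x, fun hx => ?_⟩⟩,
    ?_⟩
  · have h1 := key (-v) (T.neg_mem hvT) (by rw [polar_neg_right, hev, neg_zero]) _ hx
    rw [← sg_inv hev] at h1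
    have h2 : (sg Q e v)⁻¹ (sg Q e v x) = x := LinearEquiv.symm_apply_apply _ x
    rwa [h2] at h1
  · intro hmem
    obtain ⟨c, rfl⟩ := Submodule.mem_span_singleton.1 hmem
    have h1 := polar_eq_zero_of_ts hT ht hvT
    rw [polar_smul_right, h.pair, smul_eq_mul, mul_one] at h1
    rw [h1, zero_smul] at hv0
    exact hv0 rfl

/-- **Lower bound in odd dimension.** -/
theorem odd_lower (hG : Good Q) {m : ℕ} (hC : OddCount Q m) {H : Subgroup (V ≃ₗ[F] V)}
    (hHE : H ≤ E Q) (hne : ¬ E Q ≤ H) :
    Nat.card F ^ (2 * m) ≤ H.relIndex (E Q) * (Nat.card F - 1) + 1 ∨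
      Nat.card F ^ (2 * m) ≤ H.relIndex (E Q) * 2 + Nat.card F ^ m := by
  classical
  have : Finite V := Module.finite_of_finite F
  have hQ := hG.nondeg
  have hd := hC.finrank
  have hm := hC.three
  by_cases hH : (Nat.card F - 1) * H.relIndex (E Q) < Nat.card F ^ (2 * m)
  · obtain ⟨T, hT0, hTH, hTs | ⟨a, ha, rfl⟩⟩ := odd_exists_stab hG hC hHE hne hH
    · obtain ⟨t, htT, ht0⟩ := (Submodule.ne_bot_iff T).1 hT0
      have htQ := hTs t htT
      by_cases hT2 : 2 ≤ Module.finrank F T
      · exfalso
        obtain ⟨e, h⟩ := exists_hyp hQ htQ ht0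
        have h1 := mem_PP_StT T hTs hT2 htT h
        have h2 := finrank_Ws_StT T htT h
        have h3 : (StT Q T).relIndex (E Q) ≤ H.relIndex (E Q) :=
          Subgroup.relIndex_le_of_le_left (le_StT hHE hTH) (relIndex_ne _ _)
        have h4 : (Nat.card F - 1) * (StT Q T).relIndex (E Q) < Nat.card F ^ (2 * m) :=
          lt_of_le_of_lt (Nat.mul_le_mul_left _ h3) hH
        have h5 := finrank_ts_le hQ hTs
        have h6 := finrank_perp_add hQ (Ws Q (StT Q T) e)
        rcases odd_typ hG hC h4 e h1 with h7 | ⟨b, hb, heb, h7⟩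
        · have h8 := finrank_ts_le hQ h7
          have h9 : Module.finrank F (Us Q (StT Q T) e) =
            Module.finrank F (perp Q (Ws Q (StT Q T) e)) := rfl
          omega
        · have h8 := Submodule.finrank_mono h7
          have h9 := finrank_span_pair_le (F := F) e b
          have h10 : Module.finrank F (Us Q (StT Q T) e) =
            Module.finrank F (perp Q (Ws Q (StT Q T) e)) := rfl
          omega
      · left
        have hT1 : T = Submodule.span F {t} := by
          symm
          apply Submodule.eq_of_le_of_finrank_le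
          · exact (Submodule.span_singleton_le_iff_mem _ _).2 htT
          · rw [finrank_span_singleton ht0]; omega
        have h1 := sing_point_bound hG hHE ht0 htQ (fun h hh => by
          rw [← hT1]; exact hTH h hh t htT)
        have h2 : {w : V | Q w = 0}.ncard = {w : V | w ≠ 0 ∧ Q w = 0}.ncard + 1 := by
          have h3 : {w : V | Q w = 0} = insert 0 {w : V | w ≠ 0 ∧ Q w = 0} := by
            ext w
            simp only [Set.mem_ofPred_eq, Set.mem_insert_iff]
            constructor
            · intro h; by_cases hw : w = 0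
              · left; exact hw
              · right; exact ⟨hw, h⟩
            · rintro (rfl | ⟨-, h⟩)
              · exact QuadraticMap.map_zero Q
              · exact h
          rw [h3, Set.ncard_insert_of_notMem (by simp) (Set.toFinite _)]
        rw [← hC.zero, h2]
        omega
    · right
      have h1 := nonsing_point_bound hG hHE ha (fun h hh =>
        hTH h hh a (Submodule.mem_span_singleton_self a))
      have h2 := hC.ne_zero (Q a) ha
      omega
  · left
    rw [mul_comm (H.relIndex (E Q))]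
    omega

end fin

end Cfsg.Agent.H75.OrthIdx
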