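import Cfsg.Agent.H75.Lower

/-!
Classification of `H ∩ rad` for a subgroup `H` of small index in `E Q`, odd dimension.
-/

set_option autoImplicit false

namespace Cfsg.Agent.H75.OrthIdx

open QuadraticMap Cfsg.Agent.LieClassical.OrthCore Cfsg.Agent.LieClassical.OrthTrans

variable {F V : Type*} [Field F] [AddCommGroup V] [Module F V] {Q : QuadraticForm F V}

theorem kf_of_fix {e f : V} (h : Hyp Q e f) (b : Bool) {g : V ≃ₗ[F] V} (hg : g e = e) :
    kf Q e f b g = 1 := by
  have h1 : cf Q e f g = 1 := cf_eq h (by rw [hg, one_smul])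
  cases b
  · show (cf Q e f g)⁻¹ = 1
    rw [h1, inv_one]
  · exact h1

theorem span_ts {S : Set V} (h1 : ∀ x ∈ S, Q x = 0) (h2 : ∀ x ∈ S, ∀ y ∈ S, polar Q x y = 0) :
    ∀ x ∈ Submodule.span F S, Q x = 0 := by
  have h3 : ∀ x ∈ Submodule.span F S, ∀ y ∈ S, polar Q y x = 0 := by
    intro x hx y hy
    induction hx using Submodule.span_induction with
    | mem s hs => exact h2 y hy s hs
    | zero => exact polar_zero_right (Q := Q) y
    | add a b _ _ ha hb => rw [polar_add_right, ha, hb, add_zero]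
    | smul c a _ ha => rw [polar_smul_right, ha, smul_zero]
  intro x hx
  have key : Q x = 0 ∧ x ∈ Submodule.span F S := by
    induction hx using Submodule.span_induction with
    | mem s hs => exact ⟨h1 s hs, Submodule.subset_span hs⟩
    | zero => exact ⟨QuadraticMap.map_zero Q, Submodule.zero_mem _⟩
    | add a b ha hb iha ihb =>
      refine ⟨?_, Submodule.add_mem _ ha hb⟩
      have h4 : a ∈ perp Q (Submodule.span F S) := by
        rw [perp_span]; intro s hs; exact h3 a ha s hs
      have h5 : polar Q a b = 0 := by rw [polar_comm]; exact h4 b hb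
      rw [Q_add, iha.1, ihb.1, h5]; simp
    | smul c a ha iha =>
      exact ⟨by rw [QuadraticMap.map_smul, iha.1, smul_zero], Submodule.smul_mem _ _ ha⟩
  exact key.1

theorem addSubgroup_ts {S : AddSubgroup V} (h1 : ∀ x ∈ S, Q x = 0) {x y : V} (hx : x ∈ S)
    (hy : y ∈ S) : polar Q x y = 0 := by
  rw [polar, h1 _ (S.add_mem hx hy), h1 _ hx, h1 _ hy]; simp

section fin

variable [Finite F] [FiniteDimensional F V]

/-- Moving a totally singular subspace while fixing two of its vectors. -/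
theorem move_ts (hQ : Nondeg Q) {e w0 : V} (M : Submodule F V) (hM : ∀ x ∈ M, Q x = 0)
    (he : e ∈ M) (hw0 : w0 ∈ M) (hM3 : 3 ≤ Module.finrank F M)
    (hli : LinearIndependent F ![e, w0])
    (hd : Module.finrank F M + 4 ≤ Module.finrank F V) :
    ∃ g ∈ E Q, g e = e ∧ g w0 = w0 ∧ ∃ x ∈ M, g x ∉ M := by
  have : Finite V := Module.finite_of_finite F
  -- a third vector
  have h1 : ∃ m0 ∈ M, m0 ∉ Submodule.span F {e, w0} := by
    by_contra hcon
    push Not at hcon
    have h2 := Submodule.finrank_mono (show M ≤ Submodule.span F {e, w0} from hcon)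
    have h3 := finrank_span_pair_le (F := F) e w0
    omega
  obtain ⟨m0, hm0, hm0n⟩ := h1
  have hli3 := li3_of_notMem hli hm0n
  -- the vector `u`
  have h2 : ({w : V | ∀ i, polar Q (![e, w0, m0] i) w = ![(0 : F), 0, 1] i}).Nonempty := by
    rw [← Set.ncard_pos (Set.toFinite _), ncard_lin hQ _ hli3]
    exact pow_pos Nat.card_pos _
  obtain ⟨x, hx⟩ := h2
  have hex : polar Q e x = 0 := hx 0
  have hwx : polar Q w0 x = 0 := hx 1
  have hmx : polar Q m0 x = 1 := hx 2
  have hts : ∀ a ∈ M, ∀ b ∈ M, polar Q a b = 0 := fun a ha b hb => polar_eq_zero_of_ts hM ha hb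
  obtain ⟨u, huQ, heu, hwu, hmu⟩ : ∃ u, Q u = 0 ∧ polar Q e u = 0 ∧ polar Q w0 u = 0 ∧
      polar Q m0 u = 1 := by
    refine ⟨x - Q x • m0, ?_, ?_, ?_, ?_⟩
    · rw [sub_eq_add_neg, ← neg_smul, Q_add, QuadraticMap.map_smul, hM m0 hm0, polar_smul_right,
        polar_comm, hmx]
      simp
    · rw [polar_sub_right, polar_smul_right, hex, hts e he m0 hm0]; simp
    · rw [polar_sub_right, polar_smul_right, hwx, hts w0 hw0 m0 hm0]; simp
    · rw [polar_sub_right, polar_smul_right, hmx, hts m0 hm0 m0 hm0]; simp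
  have hum : polar Q u m0 = 1 := by rw [polar_comm]; exact hmu
  have hue : polar Q u e = 0 := by rw [polar_comm]; exact heu
  have huw : polar Q u w0 = 0 := by rw [polar_comm]; exact hwu
  set D := perp Q (Submodule.span F {e, w0, u}) with hD
  have hDm : ∀ y ∈ D, polar Q e y = 0 ∧ polar Q w0 y = 0 ∧ polar Q u y = 0 := by
    intro y hy
    exact ⟨hy e (Submodule.subset_span (by simp)), hy w0 (Submodule.subset_span (by simp)),
      hy u (Submodule.subset_span (by simp))⟩
  have hDd : Module.finrank F V ≤ Module.finrank F D + 3 := by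
    have h3 := finrank_perp_add hQ (Submodule.span F {e, w0, u})
    have h4 : Module.finrank F (Submodule.span F {e, w0, u}) ≤ 3 := by
      classical
      have h5 := finrank_span_finset_le_card (R := F) ({e, w0, u} : Finset V)
      rw [Finset.coe_insert, Finset.coe_insert, Finset.coe_singleton] at h5
      exact h5.trans Finset.card_le_three
    rw [← hD] at h3
    omega
  by_contra hcon
  push Not at hcon
  have hall : D ≤ (M ⊔ Submodule.span F {u}) ⊓ perp Q (Submodule.span F {u}) := by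
    intro y hy
    obtain ⟨h3, h4, h5⟩ := hDm y hy
    have hye : polar Q y e = 0 := by rw [polar_comm]; exact h3
    have hyw : polar Q y w0 = 0 := by rw [polar_comm]; exact h4
    refine ⟨?_, ?_⟩
    · have h6 := hcon (sg Q u y) (sg_mem_E _ _) (sg_fix hue hye) (sg_fix huw hyw) m0 hm0
      rw [sg_apply huQ h5, hum, one_smul, mul_one] at h6
      have h7 : y = (m0 + y - polar Q y m0 • u - Q y • u) - m0 + (polar Q y m0 + Q y) • u := by
        module
      rw [h7]
      exact Submodule.add_mem_sup (M.sub_mem h6 hm0)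
        (Submodule.smul_mem _ _ (Submodule.mem_span_singleton_self u))
    · exact (perp_span _ _).2 (by rintro s rfl; exact h5)
  have hlt : (M ⊔ Submodule.span F {u}) ⊓ perp Q (Submodule.span F {u}) <
      M ⊔ Submodule.span F {u} := by
    refine lt_of_le_of_ne inf_le_left ?_
    intro heq
    have h3 : m0 ∈ perp Q (Submodule.span F {u}) := by
      have h4 : m0 ∈ M ⊔ Submodule.span F {u} := Submodule.mem_sup_left hm0
      rw [← heq] at h4
      exact h4.2
    rw [perp_span] at h3
    have h5 := h3 u rfl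
    rw [hum] at h5
    exact one_ne_zero h5
  have h8 := Submodule.finrank_lt_finrank_of_lt hlt
  have h9 := Submodule.finrank_mono hall
  have h10 := Submodule.finrank_add_le_finrank_add_finrank M (Submodule.span F {u})
  have hu0 : u ≠ 0 := by
    rintro rfl
    rw [polar_zero_left] at hum
    exact zero_ne_one hum
  rw [finrank_span_singleton hu0] at h10
  omega

theorem exists_vec_move (hG : Good Q) (hd : 6 ≤ Module.finrank F V) {e f : V} (h : Hyp Q e f)
    (b : Bool) {v w : V} (hev : polar Q e v = 0) (hvn : v ∉ Submodule.span F {e})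
    (hw : w ∈ VecSet Q e v) : ∃ g ∈ Pst Q e, kf Q e f b g • g v = w := by
  obtain ⟨h1, hli', μ, hμ, hQ1⟩ := hw
  have hli := li2_of_notMem (F := F) h.left_ne hvn
  have huniv : ∀ c : F, c ≠ 0 → ∃ z, Q z = c ∧ ∀ i, polar Q (![e, v] i) z = 0 := by
    intro c _
    have hT2 : Module.finrank F (Submodule.span F (Set.range ![e, v])) = 2 := by
      have := finrank_span_eq_card hli
      simpa using this
    obtain ⟨z, hz, hzc⟩ := exists_norm_perp hG.nondeg (Submodule.span F (Set.range ![e, v]))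
      (by left; omega) c
    exact ⟨z, hzc, fun i => hz _ (Submodule.subset_span ⟨i, rfl⟩)⟩
  obtain ⟨c, hc, hkc⟩ := exists_kf h b hμ
  have hμ' := inv_ne_zero hμ
  obtain ⟨g, hgE, hg⟩ := exists_E_map hG ![e, v] ![c • e, μ⁻¹ • w] hli
    (li_smul2 hli' hc hμ') (by
      intro i
      fin_cases i
      · show Q e = Q (c • e)
        rw [QuadraticMap.map_smul, h.left, smul_zero]
      · show Q v = Q (μ⁻¹ • w)
        rw [QuadraticMap.map_smul, hQ1, smul_eq_mul]
        field_simp) (by
      have hee := h.polar_left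
      intro i j
      fin_cases i <;> fin_cases j
      · show polar Q e e = polar Q (c • e) (c • e)
        rw [polar_smul_left, polar_smul_right, hee]; simp
      · show polar Q e v = polar Q (c • e) (μ⁻¹ • w)
        rw [polar_smul_left, polar_smul_right, hev, h1]; simp
      · show polar Q v e = polar Q (μ⁻¹ • w) (c • e)
        rw [polar_smul_left, polar_smul_right, polar_comm Q v, polar_comm Q w, hev, h1]; simp
      · show polar Q v v = polar Q (μ⁻¹ • w) (μ⁻¹ • w)
        rw [polar_smul_left, polar_smul_right, polar_self', polar_self', hQ1, smul_eq_mul,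
          smul_eq_mul]
        field_simp) huniv
  have hge : g e = c • e := hg 0
  refine ⟨g, ⟨hgE, c, hc, hge⟩, ?_⟩
  have hg1 : g v = μ⁻¹ • w := hg 1
  rw [hkc g hge, hg1, smul_smul, mul_inv_cancel₀ hμ, one_smul]

/-- The improved single vector bound when `M` can be moved by an element fixing `e` and `w0`. -/
theorem ts_bound (hG : Good Q) (hd : 6 ≤ Module.finrank F V) {e f : V} (h : Hyp Q e f) (b : Bool)
    (N : Subgroup (V ≃ₗ[F] V)) (M : Set V) (hM : Stab Q e f b N M)
    {w0 : V} (hw0 : w0 ∈ M) (hew0 : polar Q e w0 = 0) (hwn : w0 ∉ Submodule.span F {e})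
    (hmove : ∃ g ∈ E Q, g e = e ∧ g w0 = w0 ∧ ∃ x ∈ M, g x ∉ M) :
    (VecSet Q e w0).ncard * 2 ≤ N.relIndex (Pst Q e) * (VecSet Q e w0 ∩ M).ncard := by
  classical
  have : Finite V := Module.finite_of_finite F
  obtain ⟨g0, hg0E, hg0e, hg0w, x0, hx0, hx0n⟩ := hmove
  have hg0P : g0 ∈ Pst Q e := ⟨hg0E, 1, one_ne_zero, by rw [hg0e, one_smul]⟩
  have hk0 : kf Q e f b g0 = 1 := kf_of_fix h b hg0e
  let β : (V ≃ₗ[F] V) → V × Set V → V × Set V := fun g y =>
    (kf Q e f b g • g y.1, (fun v => kf Q e f b g • g v) '' y.2)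
  have hβmul : ∀ g ∈ Pst Q e, ∀ g' ∈ Pst Q e, ∀ y, β (g * g') y = β g (β g' y) := by
    intro g hg g' hg' y
    show (kf Q e f b (g * g') • (g * g') y.1, (fun v => kf Q e f b (g * g') • (g * g') v) '' y.2) =
      (kf Q e f b g • g (kf Q e f b g' • g' y.1), (fun v => kf Q e f b g • g v) ''
        ((fun v => kf Q e f b g' • g' v) '' y.2))
    rw [Set.image_image, kf_mul h b hg hg']
    have h1 : ∀ v, (kf Q e f b g * kf Q e f b g') • (g * g') v =
        kf Q e f b g • g (kf Q e f b g' • g' v) := by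
      intro v
      rw [map_smul, smul_smul]; rfl
    rw [h1]
    simp only [h1]
  have hinj : ∀ g ∈ Pst Q e, Function.Injective (fun v => kf Q e f b g • g v) := by
    intro g hg v v' hvv
    have h1 : kf Q e f b g • g v = kf Q e f b g • g v' := hvv
    have h2 := smul_right_injective V (kf_ne_zero h b hg) h1
    exact g.injective h2
  -- the set of all `β g (w0, M)`
  set O' : Set (V × Set V) := {y | ∃ g ∈ Pst Q e, β g (w0, M) = y} with hO'
  set T : Set (V × Set V) := (fun x => (x, M)) '' (VecSet Q e w0 ∩ M) with hT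
  have hw0V : w0 ∈ VecSet Q e w0 :=
    ⟨hew0, li2_of_notMem h.left_ne hwn, 1, one_ne_zero, by simp⟩
  have h1 : O'.ncard ≤ N.relIndex (Pst Q e) * T.ncard := by
    refine ncard_le_relIndex_mul (Pst Q e) N (relIndex_ne _ _) β T (Set.toFinite _) O' ?_ ?_
    · rintro y ⟨g, hg, rfl⟩
      exact ⟨g, hg, (w0, M), ⟨w0, ⟨hw0V, hw0⟩, rfl⟩, rfl⟩
    · rintro g hg n hn hnP _ ⟨x, ⟨hxV, hxM⟩, rfl⟩
      refine ⟨(kf Q e f b n • n x, M), ⟨_, ⟨vecSet_stable h b hnP hxV, hM n hn x hxM⟩, rfl⟩, ?_⟩
      rw [hβmul g hg n hnP]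
      congr 1
      show (kf Q e f b n • n x, (fun v => kf Q e f b n • n v) '' M) = (kf Q e f b n • n x, M)
      congr 1
      apply Set.eq_of_subset_of_ncard_le
      · rintro _ ⟨v, hv, rfl⟩
        exact hM n hn v hv
      · rw [Set.ncard_image_of_injective _ (hinj n hnP)]
      · exact Set.toFinite _
  have h2 : T.ncard ≤ (VecSet Q e w0 ∩ M).ncard := Set.ncard_image_le (Set.toFinite _)
  -- lower bound
  have hch : ∀ w : V, ∃ g, w ∈ VecSet Q e w0 → g ∈ Pst Q e ∧ kf Q e f b g • g w0 = w := by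
    intro w
    by_cases hw : w ∈ VecSet Q e w0
    · obtain ⟨g, hg, hgw⟩ := exists_vec_move hG hd h b hew0 hwn hw
      exact ⟨g, fun _ => ⟨hg, hgw⟩⟩
    · exact ⟨1, fun h => absurd h hw⟩
  choose γ hγ using hch
  let φ : V × Bool → V × Set V := fun p =>
    if p.2 then β (γ p.1 * g0) (w0, M) else β (γ p.1) (w0, M)
  have hβ0 : β g0 (w0, M) = (w0, (fun v => kf Q e f b g0 • g0 v) '' M) := by
    show (kf Q e f b g0 • g0 w0, (fun v => kf Q e f b g0 • g0 v) '' M) = _
    rw [hk0, one_smul, hg0w]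
  have hne : (fun v => kf Q e f b g0 • g0 v) '' M ≠ M := by
    intro heq
    apply hx0n
    rw [← heq]
    refine ⟨x0, hx0, ?_⟩
    show kf Q e f b g0 • g0 x0 = g0 x0
    rw [hk0, one_smul]
  have hfst : ∀ w ∈ VecSet Q e w0, ∀ b', (φ (w, b')).1 = w := by
    intro w hw b'
    obtain ⟨hg, hgw⟩ := hγ w hw
    cases b'
    · exact hgw
    · show (β (γ w * g0) (w0, M)).1 = w
      rw [hβmul _ hg _ hg0P, hβ0]
      exact hgw
  have hφinj : Set.InjOn φ (VecSet Q e w0 ×ˢ (Set.univ : Set Bool)) := by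
    rintro ⟨w, b1⟩ ⟨hw, -⟩ ⟨w', b2⟩ ⟨hw', -⟩ heq
    have e1 : w = w' := by rw [← hfst w hw b1, ← hfst w' hw' b2, heq]
    subst e1
    obtain ⟨hg, hgw⟩ := hγ w hw
    have key : β (γ w * g0) (w0, M) ≠ β (γ w) (w0, M) := by
      intro h3
      rw [hβmul _ hg _ hg0P, hβ0] at h3
      have h4 := congrArg Prod.snd h3
      have h5 : (fun v => kf Q e f b (γ w) • (γ w) v) '' ((fun v => kf Q e f b g0 • g0 v) '' M) =
        (fun v => kf Q e f b (γ w) • (γ w) v) '' M := h4
      exact hne ((Set.image_injective.2 (hinj _ hg)) h5)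
    cases b1 <;> cases b2
    · rfl
    · exact absurd heq.symm key
    · exact absurd heq key
    · rfl
  have h3 : (VecSet Q e w0).ncard * 2 ≤ O'.ncard := by
    have h4 : φ '' (VecSet Q e w0 ×ˢ (Set.univ : Set Bool)) ⊆ O' := by
      rintro _ ⟨⟨w, b1⟩, ⟨hw, -⟩, rfl⟩
      obtain ⟨hg, hgw⟩ := hγ w hw
      cases b1
      · exact ⟨γ w, hg, rfl⟩
      · exact ⟨γ w * g0, (Pst Q e).mul_mem hg hg0P, rfl⟩
    calc (VecSet Q e w0).ncard * 2 = (VecSet Q e w0 ×ˢ (Set.univ : Set Bool)).ncard := by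
          rw [Set.ncard_prod, Set.ncard_univ, Nat.card_eq_fintype_card, Fintype.card_bool]
      _ = (φ '' (VecSet Q e w0 ×ˢ (Set.univ : Set Bool))).ncard := hφinj.ncard_image.symm
      _ ≤ O'.ncard := Set.ncard_le_ncard h4 (Set.toFinite _)
  exact h3.trans (h1.trans (Nat.mul_le_mul_left _ h2))

end fin

end Cfsg.Agent.H75.OrthIdx
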