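import Cfsg.Agent.H75.StepZ
import Cfsg.Agent.H75.OddStep

/-!
The subspaces `Ws` (the largest subspace of `Bs`) and `Us` (its perp), and their behaviour for
opposite points.
-/

set_option autoImplicit false

namespace Cfsg.Agent.H75.OrthIdx

open QuadraticMap Cfsg.Agent.LieClassical.OrthCore Cfsg.Agent.LieClassical.OrthTrans

variable {F V : Type*} [Field F] [AddCommGroup V] [Module F V] {Q : QuadraticForm F V}

/-- The largest subspace of `Bs`. -/
def Ws (Q : QuadraticForm F V) (H : Subgroup (V ≃ₗ[F] V)) (e : V) : Submodule F V where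
  carrier := {v | polar Q e v = 0 ∧ ∀ c : F, sg Q e (c • v) ∈ H}
  add_mem' {a b} ha hb := by
    refine ⟨by rw [polar_add_right, ha.1, hb.1, add_zero], fun c => ?_⟩
    rw [smul_add, ← sg_mul]
    · exact H.mul_mem (ha.2 c) (hb.2 c)
    · rw [polar_smul_right, ha.1, smul_zero]
    · rw [polar_smul_right, hb.1, smul_zero]
  zero_mem' := ⟨polar_zero_right (Q := Q) e, fun c => by
    rw [smul_zero, sg_zero]; exact H.one_mem⟩
  smul_mem' a v hv := by
    refine ⟨by rw [polar_smul_right, hv.1, smul_zero], fun c => ?_⟩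
    rw [smul_smul]
    exact hv.2 _

theorem mem_Ws {H : Subgroup (V ≃ₗ[F] V)} {e v : V} :
    v ∈ Ws Q H e ↔ polar Q e v = 0 ∧ ∀ c : F, sg Q e (c • v) ∈ H := Iff.rfl

theorem Ws.sg_mem {H : Subgroup (V ≃ₗ[F] V)} {e v : V} (h : v ∈ Ws Q H e) : sg Q e v ∈ H := by
  have := h.2 1
  rwa [one_smul] at this

/-- The perp of `Ws`. -/
def Us (Q : QuadraticForm F V) (H : Subgroup (V ≃ₗ[F] V)) (e : V) : Submodule F V :=
  perp Q (Ws Q H e)

theorem self_mem_Ws {H : Subgroup (V ≃ₗ[F] V)} {e : V} (he : Q e = 0) : e ∈ Ws Q H e :=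
  ⟨polar_self_of_sing he, fun c => by rw [sg_smul_self he]; exact H.one_mem⟩

theorem self_mem_Us {H : Subgroup (V ≃ₗ[F] V)} {e : V} : e ∈ Us Q H e := by
  intro w hw
  rw [polar_comm]; exact hw.1

theorem polar_of_mem_Us {H : Subgroup (V ≃ₗ[F] V)} {e x : V} (he : Q e = 0)
    (hx : x ∈ Us Q H e) : polar Q e x = 0 := hx e (self_mem_Ws he)

theorem Ws_map {H : Subgroup (V ≃ₗ[F] V)} (hH : H ≤ E Q) {e v : V} {h : V ≃ₗ[F] V} (hh : h ∈ H)
    (hv : v ∈ Ws Q H e) : h v ∈ Ws Q H (h e) := by
  have hO := E_le_O (hH hh)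
  refine ⟨by rw [polar_map hO, hv.1], fun c => ?_⟩
  rw [← map_smul, ← sg_conj hO]
  exact H.mul_mem (H.mul_mem hh (hv.2 c)) (H.inv_mem hh)

theorem Ws_smul {H : Subgroup (V ≃ₗ[F] V)} {e : V} {c : F} (hc : c ≠ 0) :
    Ws Q H (c • e) = Ws Q H e := by
  ext v
  rw [mem_Ws, mem_Ws, polar_smul_left, smul_eq_mul]
  constructor
  · rintro ⟨h1, h2⟩
    refine ⟨(mul_eq_zero.1 h1).resolve_left hc, fun d => ?_⟩
    have h3 := h2 (c⁻¹ * d)
    rwa [sg_smul_left hc, smul_smul, ← mul_assoc, mul_inv_cancel₀ hc, one_mul] at h3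
  · rintro ⟨h1, h2⟩
    refine ⟨by rw [h1, mul_zero], fun d => ?_⟩
    rw [sg_smul_left hc, smul_smul]
    exact h2 _

theorem Us_smul {H : Subgroup (V ≃ₗ[F] V)} {e : V} {c : F} (hc : c ≠ 0) :
    Us Q H (c • e) = Us Q H e := by rw [Us, Ws_smul hc]; rfl

theorem Us_map {H : Subgroup (V ≃ₗ[F] V)} (hH : H ≤ E Q) {e x : V} {h : V ≃ₗ[F] V} (hh : h ∈ H)
    (hx : x ∈ Us Q H e) : h x ∈ Us Q H (h e) := by
  intro w hw
  have hO := E_le_O (hH hh)
  have h1 := Ws_map hH (H.inv_mem hh) hw
  have h2 : h⁻¹ (h e) = e := LinearEquiv.symm_apply_apply h e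
  rw [h2] at h1
  have h3 := hx _ h1
  rw [← polar_map hO] at h3
  have h4 : h (h⁻¹ w) = w := LinearEquiv.apply_symm_apply h w
  rwa [h4] at h3

theorem PP_smul {H : Subgroup (V ≃ₗ[F] V)} {e : V} (he : e ∈ PP Q H) {c : F} (hc : c ≠ 0) :
    c • e ∈ PP Q H := by
  obtain ⟨h0, hQ, v, ⟨hv, hvH⟩, hvn⟩ := he
  refine ⟨smul_ne_zero hc h0, by rw [QuadraticMap.map_smul, hQ, smul_zero], c⁻¹ • v, ⟨?_, ?_⟩, ?_⟩
  · rw [polar_smul_left, polar_smul_right, hv]; simp
  · rw [sg_smul_left hc, smul_smul, mul_inv_cancel₀ hc, one_smul]; exact hvH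
  · intro hmem
    apply hvn
    obtain ⟨a, ha⟩ := Submodule.mem_span_singleton.1 hmem
    refine Submodule.mem_span_singleton.2 ⟨c * (a * c), ?_⟩
    calc (c * (a * c)) • e = c • (a • (c • e)) := by rw [smul_smul, smul_smul, mul_assoc]
      _ = v := by rw [ha, smul_smul, mul_inv_cancel₀ hc, one_smul]

theorem PP_map {H : Subgroup (V ≃ₗ[F] V)} (hH : H ≤ E Q) {e : V} {h : V ≃ₗ[F] V} (hh : h ∈ H)
    (he : e ∈ PP Q H) : h e ∈ PP Q H := by
  obtain ⟨h0, hQ, v, ⟨hv, hvH⟩, hvn⟩ := he
  have hO := E_le_O (hH hh)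
  refine ⟨(map_ne_zero_iff h h.injective).2 h0, by rw [mem_O.1 hO]; exact hQ, h v, ⟨?_, ?_⟩, ?_⟩
  · rw [polar_map hO]; exact hv
  · rw [← sg_conj hO]; exact H.mul_mem (H.mul_mem hh hvH) (H.inv_mem hh)
  · intro hmem
    apply hvn
    obtain ⟨a, ha⟩ := Submodule.mem_span_singleton.1 hmem
    rw [← map_smul] at ha
    exact Submodule.mem_span_singleton.2 ⟨a, h.injective ha⟩

/-! ### Generation by two opposite radicals -/

theorem rad_of_opp {H : Subgroup (V ≃ₗ[F] V)} {e f g : V} (hf : Q f = 0) (he : Q e = 0)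
    (hg : Q g = 0) (hef : polar Q e f ≠ 0) (heg : polar Q e g ≠ 0)
    (hHe : ∀ v, polar Q e v = 0 → sg Q e v ∈ H) (hHf : ∀ v, polar Q f v = 0 → sg Q f v ∈ H) :
    ∀ v, polar Q g v = 0 → sg Q g v ∈ H := by
  -- `h f ∝ g` with `h = sg e w`
  set a := (polar Q e f)⁻¹ with ha
  set b := (polar Q e g)⁻¹ with hb
  have ha0 : a ≠ 0 := inv_ne_zero hef
  have hb0 : b ≠ 0 := inv_ne_zero heg
  have h1 : polar Q e (a • f) = 1 := by
    rw [polar_smul_right, smul_eq_mul, ha, inv_mul_cancel₀ hef]
  have h2 : polar Q e (b • g) = 1 := by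
    rw [polar_smul_right, smul_eq_mul, hb, inv_mul_cancel₀ heg]
  set y := a • f with hy
  set y' := b • g with hy'
  have hyQ : Q y = 0 := by rw [hy, QuadraticMap.map_smul, hf, smul_zero]
  have hyQ' : Q y' = 0 := by rw [hy', QuadraticMap.map_smul, hg, smul_zero]
  have hw : polar Q e (y' - y) = 0 := by rw [polar_sub_right, h1, h2, sub_self]
  set k := sg Q e (y' - y) with hk
  have hkH : k ∈ H := hHe _ hw
  have hkO : k ∈ O Q := sg_mem_O _ _
  have hky : k y = y' := by
    have hQ' : Q (y' - y) = - polar Q y' y := by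
      rw [sub_eq_add_neg, Q_add, QuadraticMap.map_neg, polar_neg_right, hyQ, hyQ']
      ring
    rw [hk, sg_apply he hw, h1, hQ', polar_sub_left, polar_self_of_sing hyQ]
    module
  intro v hv
  have h3 : sg Q g v = sg Q y' (b⁻¹ • v) := by
    rw [hy', sg_smul_left hb0, smul_smul, mul_inv_cancel₀ hb0, one_smul]
  obtain ⟨v', hv'⟩ := k.surjective (b⁻¹ • v)
  have h4 : polar Q y v' = 0 := by
    rw [← polar_map hkO, hky, hv', hy', polar_smul_left, polar_smul_right, hv]; simp
  rw [h3, ← hky, ← hv', ← sg_conj hkO]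
  refine H.mul_mem (H.mul_mem hkH ?_) (H.inv_mem hkH)
  rw [hy, sg_smul_left ha0]
  apply hHf
  rw [polar_smul_right]
  rw [hy, polar_smul_left, smul_eq_mul] at h4
  rw [(mul_eq_zero.1 h4).resolve_left ha0, smul_zero]

theorem E_le_of_opp (hQ : Nondeg Q) {H : Subgroup (V ≃ₗ[F] V)} {e f : V} (h : Hyp Q e f)
    (hHe : ∀ v, polar Q e v = 0 → sg Q e v ∈ H) (hHf : ∀ v, polar Q f v = 0 → sg Q f v ∈ H) :
    E Q ≤ H := by
  rw [E, Subgroup.closure_le]
  rintro _ ⟨g, v, hg, hv, rfl⟩
  rw [← sg_eq hg hv]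
  have hef : polar Q e f ≠ 0 := by rw [h.pair]; exact one_ne_zero
  have hfe : polar Q f e ≠ 0 := by rw [h.pair']; exact one_ne_zero
  by_cases heg : polar Q e g = 0
  · by_cases hfg : polar Q f g = 0
    · -- `g ∈ ⟨e, f⟩⊥`
      by_cases hg0 : g = 0
      · have : sg Q g v = 1 := by
          ext x
          rw [sg_apply hg hv, hg0]
          simp
        rw [this]; exact H.one_mem
      · obtain ⟨y, hy⟩ := hQ.exists_polar_eq hg0 1
        set w := proj Q e f y with hw
        have hgw : polar Q g w = 1 := by rw [hw, polar_proj_of_perp heg hfg, hy]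
        have hew : polar Q e w = 0 := polar_proj_left h y
        have hfw : polar Q f w = 0 := polar_proj_right h y
        have hwf : polar Q w f = 0 := by rw [polar_comm]; exact hfw
        set f' := sg Q e w f with hf'
        have hf'e : f' = f + w - Q w • e := by
          rw [hf', sg_apply h.left hew, h.pair, hwf]; module
        have hf'Q : Q f' = 0 := by rw [hf', mem_O.1 (sg_mem_O _ _)]; exact h.right
        have hef' : polar Q e f' = 1 := by
          rw [hf'e, polar_sub_right, polar_add_right, polar_smul_right, h.pair, hew,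
            h.polar_left]; simp
        have hef'0 : polar Q e f' ≠ 0 := by rw [hef']; exact one_ne_zero
        have hHf' := rad_of_opp (H := H) h.right h.left hf'Q hef hef'0 hHe hHf
        have hgf' : polar Q f' g = 1 := by
          rw [hf'e, polar_sub_left, polar_add_left, polar_smul_left, hfg, heg, polar_comm Q w g,
            hgw]; simp
        refine rad_of_opp (H := H) (f := e) (e := f') h.left hf'Q hg ?_ ?_ hHf' hHe v hv
        · rw [polar_comm, hef']; exact one_ne_zero
        · rw [hgf']; exact one_ne_zero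
    · exact rad_of_opp h.left h.right hg hfe hfg hHf hHe v hv
  · exact rad_of_opp h.right h.left hg hef heg hHe hHf v hv

/-! ### Opposite pairs -/

theorem wl_mem {H : Subgroup (V ≃ₗ[F] V)} {e f w : V} (hwe : w ∈ Ws Q H e)
    (hwf : w ∈ Ws Q H f) : wl Q e f w ∈ H :=
  H.mul_mem (H.mul_mem (Ws.sg_mem hwe) (hwf.2 _)) (Ws.sg_mem hwe)

/-- (P1) -/
theorem Ws_opp {H : Subgroup (V ≃ₗ[F] V)} (hH : H ≤ E Q) {e f w : V} (h : Hyp Q e f)
    (hw : Q w ≠ 0) (hwe : w ∈ Ws Q H e) (hwf : w ∈ Ws Q H f) {x : V} (hx : x ∈ Ws Q H e)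
    (hfx : polar Q f x = 0) : x ∈ Ws Q H f := by
  have h1 := Ws_map hH (wl_mem hwe hwf) hx
  rw [wl_left h hw hwe.1 hwf.1, wl_perp h hw hwe.1 hwf.1 hx.1 hfx,
    Ws_smul (neg_ne_zero.2 (inv_ne_zero hw))] at h1
  have h2 : x = (x - ((Q w)⁻¹ * polar Q w x) • w) + ((Q w)⁻¹ * polar Q w x) • w := by module
  rw [h2]
  exact Submodule.add_mem _ h1 (Submodule.smul_mem _ _ hwf)

theorem Hyp.swapW {e f : V} (h : Hyp Q e f) : Hyp Q f e := h.symm

/-- (P2) -/
theorem Us_opp {H : Subgroup (V ≃ₗ[F] V)} (hH : H ≤ E Q) {e f w : V} (h : Hyp Q e f)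
    (hw : Q w ≠ 0) (hwe : w ∈ Ws Q H e) (hwf : w ∈ Ws Q H f) {x : V} (hx : x ∈ Us Q H e)
    (hfx : polar Q f x = 0) : x ∈ Us Q H f := by
  intro y hy
  obtain ⟨h1, h2, h3⟩ := eq_smul_add_of_perp h.symm hy.1
  set y0 := y - polar Q e y • f with hy0
  have hff : f ∈ Ws Q H f := self_mem_Ws h.right
  have h4 : y0 ∈ Ws Q H f := Submodule.sub_mem _ hy (Submodule.smul_mem _ _ hff)
  have h5 : y0 ∈ Ws Q H e := Ws_opp hH h.symm hw hwf hwe h4 h3
  rw [h1, polar_add_left, polar_smul_left, hfx, hx y0 h5]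
  simp

/-- Opposite pairs have a common nonsingular vector in `Ws`. -/
def Com (Q : QuadraticForm F V) (H : Subgroup (V ≃ₗ[F] V)) : Prop :=
  ∀ e f, e ∈ PP Q H → f ∈ PP Q H → Hyp Q e f → ∃ w, Q w ≠ 0 ∧ w ∈ Ws Q H e ∧ w ∈ Ws Q H f

/-- (P2) without normalisation. -/
theorem Us_opp' {H : Subgroup (V ≃ₗ[F] V)} (hH : H ≤ E Q) (hcom : Com Q H) {e p : V}
    (he : e ∈ PP Q H) (hp : p ∈ PP Q H) (hep : polar Q e p ≠ 0) {x : V} (hx : x ∈ Us Q H e)
    (hpx : polar Q p x = 0) : x ∈ Us Q H p := by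
  set c := (polar Q e p)⁻¹ with hc
  have hc0 : c ≠ 0 := inv_ne_zero hep
  have hhyp : Hyp Q e (c • p) := ⟨he.2.1, by
    rw [QuadraticMap.map_smul, hp.2.1, smul_zero], by
    rw [polar_smul_right, smul_eq_mul, hc, inv_mul_cancel₀ hep]⟩
  obtain ⟨w, hw, hwe, hwp⟩ := hcom e (c • p) he (PP_smul hp hc0) hhyp
  have h1 := Us_opp hH hhyp hw hwe hwp hx (by rw [polar_smul_left, hpx, smul_zero])
  rwa [Us_smul hc0] at h1

/-- The type hypothesis: `Us` is totally singular or contained in `⟨e, a⟩` with `a ⊥ e`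
nonsingular. -/
def Typ (Q : QuadraticForm F V) (H : Subgroup (V ≃ₗ[F] V)) : Prop :=
  ∀ e ∈ PP Q H, (∀ x ∈ Us Q H e, Q x = 0) ∨
    ∃ a, Q a ≠ 0 ∧ polar Q e a = 0 ∧ Us Q H e ≤ Submodule.span F {e, a}

theorem sing_of_mem_span {e a x : V} (he : Q e = 0) (ha : Q a ≠ 0) (hea : polar Q e a = 0)
    (hx : x ∈ Submodule.span F {e, a}) (hxQ : Q x = 0) : ∃ c : F, x = c • e := by
  obtain ⟨s, t, rfl⟩ := Submodule.mem_span_pair.1 hx
  rw [Q_add, QuadraticMap.map_smul, QuadraticMap.map_smul, he, polar_smul_left,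
    polar_smul_right, hea] at hxQ
  simp only [smul_eq_mul, mul_zero, zero_add, add_zero] at hxQ
  have ht : t = 0 := mul_self_eq_zero.1 ((mul_eq_zero.1 hxQ).resolve_right ha)
  exact ⟨s, by rw [ht, zero_smul, add_zero]⟩

theorem Typ.orth {H : Subgroup (V ≃ₗ[F] V)} (hT : Typ Q H) {p x y : V} (hp : p ∈ PP Q H)
    (hx : x ∈ Us Q H p) (hy : y ∈ Us Q H p) (hxQ : Q x = 0) (hyQ : Q y = 0) :
    polar Q x y = 0 := by
  rcases hT p hp with h | ⟨a, ha, hpa, h⟩
  · exact polar_eq_zero_of_ts h hx hy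
  · obtain ⟨c, rfl⟩ := sing_of_mem_span hp.2.1 ha hpa (h hx) hxQ
    obtain ⟨d, rfl⟩ := sing_of_mem_span hp.2.1 ha hpa (h hy) hyQ
    rw [polar_smul_left, polar_smul_right, polar_self_of_sing hp.2.1]; simp

theorem mem_Ws_of_perp [FiniteDimensional F V] (hQ : Nondeg Q) {H : Subgroup (V ≃ₗ[F] V)}
    {e x : V} (h : ∀ y ∈ Us Q H e, polar Q y x = 0) : x ∈ Ws Q H e := by
  rw [← perp_perp hQ (Ws Q H e)]
  exact h

theorem Ws_le_iff [FiniteDimensional F V] (hQ : Nondeg Q) {H : Subgroup (V ≃ₗ[F] V)}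
    {e x : V} : x ∈ Ws Q H e ↔ ∀ y ∈ Us Q H e, polar Q y x = 0 := by
  refine ⟨fun h y hy => ?_, mem_Ws_of_perp hQ⟩
  rw [polar_comm]; exact hy x h

theorem sg_shift {e f w : V} (h : Hyp Q e f) (hfw : polar Q f w = 0) (hew : polar Q e w = 0) :
    sg Q f w e = e + w - Q w • f := by
  rw [sg_apply h.right hfw, h.pair', polar_comm Q w e, hew]
  module

/-- (C-TS) -/
theorem claim_ts [FiniteDimensional F V] (hQ : Nondeg Q) {H : Subgroup (V ≃ₗ[F] V)}
    (hH : H ≤ E Q) (hcom : Com Q H) (hT : Typ Q H)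
    {e f : V} (he : e ∈ PP Q H) (hf : f ∈ PP Q H) (h : Hyp Q e f)
    (hts : ∀ x ∈ Us Q H e, Q x = 0) {u p : V} (hue : u ∈ Us Q H e) (huf : u ∈ Us Q H f)
    (hp : p ∈ PP Q H) : polar Q u p = 0 := by
  by_contra hup
  have hQu : Q u = 0 := hts u hue
  have heu : polar Q e u = 0 := polar_of_mem_Us h.left hue
  have hfu : polar Q f u = 0 := polar_of_mem_Us h.right huf
  have hue' : polar Q u e = 0 := by rw [polar_comm]; exact heu
  have huf' : polar Q u f = 0 := by rw [polar_comm]; exact hfu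
  have huu : polar Q u u = 0 := polar_self_of_sing hQu
  -- `Us f` is totally singular too
  have hfe : polar Q f e ≠ 0 := by rw [h.pair']; exact one_ne_zero
  have hef : polar Q e f ≠ 0 := by rw [h.pair]; exact one_ne_zero
  have htsf : ∀ x ∈ Us Q H f, Q x = 0 := by
    intro x hx
    obtain ⟨h1, h2, h3⟩ := eq_smul_add_of_perp h.symm (polar_of_mem_Us h.right hx)
    set x0 := x - polar Q e x • f with hx0
    have h4 : x0 ∈ Us Q H f := Submodule.sub_mem _ hx (Submodule.smul_mem _ _ self_mem_Us)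
    have h5 : x0 ∈ Us Q H e := Us_opp' hH hcom hf he hfe h4 h3
    rw [h1, Q_add, QuadraticMap.map_smul, h.right, hts x0 h5, polar_smul_left, h2]
    simp
  have huWe : u ∈ Ws Q H e := mem_Ws_of_perp hQ fun y hy => polar_eq_zero_of_ts hts hy hue
  have huWf : u ∈ Ws Q H f := mem_Ws_of_perp hQ fun y hy => polar_eq_zero_of_ts htsf hy huf
  have key : ∀ e f : V, e ∈ PP Q H → Hyp Q e f → u ∈ Us Q H e → u ∈ Ws Q H f →
      polar Q e u = 0 → ∃ e' ∈ PP Q H, u ∈ Us Q H e' ∧ polar Q e' p ≠ 0 ∧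
        (e' = e ∨ e' = e + u) := by
    intro e f he h hue huf heu
    have hfu : polar Q f u = 0 := huf.1
    by_cases hep : polar Q e p = 0
    · have h1 : sg Q f u e = e + u := by
        rw [sg_shift h hfu heu, hQu, zero_smul, sub_zero]
      have h2 : sg Q f u u = u := sg_fix hfu huu
      refine ⟨e + u, ?_, ?_, ?_, Or.inr rfl⟩
      · rw [← h1]; exact PP_map hH (Ws.sg_mem huf) he
      · have h3 := Us_map hH (Ws.sg_mem huf) hue
        rwa [h1, h2] at h3
      · rw [polar_add_left, hep, zero_add]; exact hup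
    · exact ⟨e, he, hue, hep, Or.inl rfl⟩
  obtain ⟨e', he', hue1, he'p, hce⟩ := key e f he h hue huWf heu
  obtain ⟨f', hf', huf1, hf'p, hcf⟩ := key f e hf h.symm huf huWe hfu
  have hue2 : polar Q u e' = 0 := by
    rcases hce with rfl | rfl
    · exact hue'
    · rw [polar_add_right, hue', huu, add_zero]
  have huf2 : polar Q u f' = 0 := by
    rcases hcf with rfl | rfl
    · exact huf'
    · rw [polar_add_right, huf', huu, add_zero]
  have he'f' : polar Q e' f' = 1 := by
    rcases hce with rfl | rfl <;> rcases hcf with rfl | rfl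
    · exact h.pair
    · rw [polar_add_right, h.pair, heu, add_zero]
    · rw [polar_add_left, h.pair, huf', add_zero]
    · rw [polar_add_right, polar_add_left, polar_add_left, h.pair, heu, huf', huu]; simp
  set a := polar Q u p * (polar Q e' p)⁻¹ with ha
  set b := polar Q u p * (polar Q f' p)⁻¹ with hb
  have ha0 : a ≠ 0 := mul_ne_zero hup (inv_ne_zero he'p)
  have hb0 : b ≠ 0 := mul_ne_zero hup (inv_ne_zero hf'p)
  have hx : u - a • e' ∈ Us Q H p := by
    apply Us_opp' hH hcom he' hp he'p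
      (Submodule.sub_mem _ hue1 (Submodule.smul_mem _ _ self_mem_Us))
    rw [polar_comm, polar_sub_left, polar_smul_left, ha, smul_eq_mul, inv_mul_cancel_right₀ he'p,
      sub_self]
  have hy : u - b • f' ∈ Us Q H p := by
    apply Us_opp' hH hcom hf' hp hf'p
      (Submodule.sub_mem _ huf1 (Submodule.smul_mem _ _ self_mem_Us))
    rw [polar_comm, polar_sub_left, polar_smul_left, hb, smul_eq_mul, inv_mul_cancel_right₀ hf'p,
      sub_self]
  have hxQ : Q (u - a • e') = 0 := by
    rw [sub_eq_add_neg, ← neg_smul, Q_add, QuadraticMap.map_smul, hQu, he'.2.1,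
      polar_smul_right, hue2]; simp
  have hyQ : Q (u - b • f') = 0 := by
    rw [sub_eq_add_neg, ← neg_smul, Q_add, QuadraticMap.map_smul, hQu, hf'.2.1,
      polar_smul_right, huf2]; simp
  have h1 := hT.orth hp hx hy hxQ hyQ
  rw [polar_sub_left, polar_sub_right, polar_sub_right, polar_smul_left, polar_smul_left,
    polar_smul_right, polar_smul_right, huu, huf2, polar_comm Q e' u, hue2, he'f'] at h1
  simp only [smul_eq_mul, mul_zero, mul_one, zero_sub, sub_zero, sub_neg_eq_add,
    zero_add] at h1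
  exact mul_ne_zero ha0 hb0 h1

/-- (C-NS), one member of the pair opposite to `p`. -/
theorem claim_ns_aux [Finite F] [FiniteDimensional F V] (hQ : Nondeg Q)
    (hd : 7 ≤ Module.finrank F V) {H : Subgroup (V ≃ₗ[F] V)}
    (hH : H ≤ E Q) (hcom : Com Q H) (hT : Typ Q H)
    {e f : V} (hf : f ∈ PP Q H) (h : Hyp Q e f)
    {u p : V} (hu : Q u ≠ 0) (hUe : Us Q H e ≤ Submodule.span F {e, u})
    (heu : polar Q e u = 0) (huf : u ∈ Us Q H f) (hp : p ∈ PP Q H)
    (hfp : polar Q f p ≠ 0) : polar Q u p = 0 := by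
  classical
  by_contra hup
  obtain ⟨w, hw, hw0, hwQ⟩ := Cfsg.Agent.LieClassical.OrthFinite.exists_sing_mem (Q := Q)
    (perp Q (Submodule.span F {e, f, u, p})) (by
      have h1 := finrank_perp_add hQ (Submodule.span F {e, f, u, p})
      have h5 := finrank_span_finset_le_card (R := F) ({e, f, u, p} : Finset V)
      rw [Finset.coe_insert, Finset.coe_insert, Finset.coe_insert, Finset.coe_singleton] at h5
      have h6 : Module.finrank F (Submodule.span F {e, f, u, p}) ≤ 4 :=
        h5.trans Finset.card_le_four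
      omega)
  have hew : polar Q e w = 0 := hw e (Submodule.subset_span (by simp))
  have hfw : polar Q f w = 0 := hw f (Submodule.subset_span (by simp))
  have huw : polar Q u w = 0 := hw u (Submodule.subset_span (by simp))
  have hpw : polar Q p w = 0 := hw p (Submodule.subset_span (by simp))
  have hwWe : w ∈ Ws Q H e := by
    apply mem_Ws_of_perp hQ
    intro y hy
    obtain ⟨s, t, rfl⟩ := Submodule.mem_span_pair.1 (hUe hy)
    rw [polar_add_left, polar_smul_left, polar_smul_left, hew, huw]; simp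
  have h1 : sg Q e w f = f + w := by
    rw [sg_shift h.symm hew hfw, hwQ, zero_smul, sub_zero]
  have hfu : polar Q f u = 0 := polar_of_mem_Us h.right huf
  have h2 : f + w ∈ PP Q H := by
    rw [← h1]; exact PP_map hH (Ws.sg_mem hwWe) hf
  have h4 : polar Q (f + w) p ≠ 0 := by
    rw [polar_add_left, polar_comm Q w p, hpw, add_zero]; exact hfp
  set a := polar Q u p * (polar Q f p)⁻¹ with ha
  have ha0 : a ≠ 0 := mul_ne_zero hup (inv_ne_zero hfp)
  have hx : u - a • f ∈ Us Q H p := by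
    apply Us_opp' hH hcom hf hp hfp
      (Submodule.sub_mem _ huf (Submodule.smul_mem _ _ self_mem_Us))
    rw [polar_comm, polar_sub_left, polar_smul_left, ha, smul_eq_mul, inv_mul_cancel_right₀ hfp,
      sub_self]
  have huf' : u ∈ Us Q H (f + w) := by
    have h3 := Us_map hH (Ws.sg_mem hwWe) huf
    rwa [h1, sg_fix heu (by rw [polar_comm]; exact huw)] at h3
  have hy : u - a • (f + w) ∈ Us Q H p := by
    apply Us_opp' hH hcom h2 hp h4
      (Submodule.sub_mem _ huf' (Submodule.smul_mem _ _ self_mem_Us))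
    rw [polar_comm, polar_sub_left, polar_smul_left, polar_add_left, polar_comm Q w p, hpw,
      add_zero, ha, smul_eq_mul, inv_mul_cancel_right₀ hfp, sub_self]
  have hwp : w ∈ Us Q H p := by
    have h3 : a • w = (u - a • f) - (u - a • (f + w)) := by module
    have h5 : a • w ∈ Us Q H p := by
      rw [h3]; exact Submodule.sub_mem _ hx hy
    have h6 := Submodule.smul_mem _ a⁻¹ h5
    rwa [smul_smul, inv_mul_cancel₀ ha0, one_smul] at h6
  have hxQ : Q (u - a • f) ≠ 0 := by
    rw [sub_eq_add_neg, ← neg_smul, Q_add, QuadraticMap.map_smul, h.right,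
      polar_smul_right, polar_comm Q u f, hfu]
    simpa using hu
  rcases hT p hp with hts | ⟨b, hb, hpb, hUp⟩
  · exact hxQ (hts _ hx)
  · obtain ⟨c, rfl⟩ := sing_of_mem_span hp.2.1 hb hpb (hUp hwp) hwQ
    rw [polar_smul_right, smul_eq_mul] at huw
    rcases mul_eq_zero.1 huw with h3 | h3
    · rw [h3, zero_smul] at hw0; exact hw0 rfl
    · exact hup h3

/-- (C-NS) -/
theorem claim_ns [Finite F] [FiniteDimensional F V] (hQ : Nondeg Q)
    (hd : 7 ≤ Module.finrank F V) {H : Subgroup (V ≃ₗ[F] V)}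
    (hH : H ≤ E Q) (hcom : Com Q H) (hT : Typ Q H)
    {e f : V} (he : e ∈ PP Q H) (hf : f ∈ PP Q H) (h : Hyp Q e f)
    {u p : V} (hu : Q u ≠ 0) (hUe : Us Q H e ≤ Submodule.span F {e, u})
    (hue : u ∈ Us Q H e) (huf : u ∈ Us Q H f) (hp : p ∈ PP Q H) : polar Q u p = 0 := by
  have heu : polar Q e u = 0 := polar_of_mem_Us h.left hue
  have hfu : polar Q f u = 0 := polar_of_mem_Us h.right huf
  have hue' : polar Q u e = 0 := by rw [polar_comm]; exact heu
  have huf' : polar Q u f = 0 := by rw [polar_comm]; exact hfu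
  by_cases hfp : polar Q f p = 0
  · by_cases hep : polar Q e p = 0
    · by_cases hpw : ∃ w, polar Q e w = 0 ∧ polar Q f w = 0 ∧ polar Q u w = 0 ∧ polar Q p w ≠ 0
      · obtain ⟨w, hew, hfw, huw, hpw⟩ := hpw
        have hwWe : w ∈ Ws Q H e := by
          apply mem_Ws_of_perp hQ
          intro y hy
          obtain ⟨s, t, rfl⟩ := Submodule.mem_span_pair.1 (hUe hy)
          rw [polar_add_left, polar_smul_left, polar_smul_left, hew, huw]; simp
        have h1 : sg Q e w f = f + w - Q w • e := sg_shift h.symm hew hfw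
        have hsO : sg Q e w ∈ O Q := sg_mem_O _ _
        have h2 : sg Q e w f ∈ PP Q H := PP_map hH (Ws.sg_mem hwWe) hf
        have h3 : Hyp Q e (sg Q e w f) := by
          have h4 := h.map hsO
          have h5 : sg Q e w e = e := sg_fix h.polar_left (by rw [polar_comm]; exact hew)
          rwa [h5] at h4
        have h4 : u ∈ Us Q H (sg Q e w f) := by
          have h5 := Us_map hH (Ws.sg_mem hwWe) huf
          rwa [sg_fix heu (by rw [polar_comm]; exact huw)] at h5
        refine claim_ns_aux hQ hd hH hcom hT h2 h3 hu hUe heu h4 hp ?_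
        rw [h1, polar_sub_left, polar_add_left, polar_smul_left, hfp, hep, polar_comm Q w p]
        simpa using hpw
      · push Not at hpw
        -- `p ∈ ⟨e, f, u⟩`
        exfalso
        have h1 : p ∈ perp Q (perp Q (Submodule.span F {e, f, u})) := by
          intro w hw
          rw [polar_comm]
          exact hpw w (hw e (Submodule.subset_span (by simp)))
            (hw f (Submodule.subset_span (by simp))) (hw u (Submodule.subset_span (by simp)))
        rw [perp_perp hQ] at h1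
        obtain ⟨a, b, c, rfl⟩ := Submodule.mem_span_triple.1 h1
        rw [polar_add_right, polar_add_right, polar_smul_right, polar_smul_right,
          polar_smul_right, h.polar_right, hfu, h.pair'] at hfp
        rw [polar_add_right, polar_add_right, polar_smul_right, polar_smul_right,
          polar_smul_right, h.polar_left, heu, h.pair] at hep
        simp only [smul_eq_mul, mul_zero, mul_one, add_zero, zero_add] at hfp hep
        have h2 := hp.2.1
        rw [hfp, hep, zero_smul, zero_smul, add_zero, zero_add, QuadraticMap.map_smul,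
          smul_eq_mul] at h2
        have hc : c = 0 := mul_self_eq_zero.1 ((mul_eq_zero.1 h2).resolve_right hu)
        apply hp.1
        rw [hfp, hep, hc]; simp
    · refine claim_ns_aux hQ hd hH hcom hT he h.symm hu ?_ hfu hue hp hep
      intro x hx
      obtain ⟨h1, h2, h3⟩ := eq_smul_add_of_perp h.symm (polar_of_mem_Us h.right hx)
      set x0 := x - polar Q e x • f with hx0
      have h4 : x0 ∈ Us Q H f := Submodule.sub_mem _ hx (Submodule.smul_mem _ _ self_mem_Us)
      have hfe : polar Q f e ≠ 0 := by rw [h.pair']; exact one_ne_zero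
      have h5 : x0 ∈ Us Q H e := Us_opp' hH hcom hf he hfe h4 h3
      obtain ⟨s, t, hst⟩ := Submodule.mem_span_pair.1 (hUe h5)
      have h6 : s = 0 := by
        rw [← hst, polar_add_right, polar_smul_right, polar_smul_right, h.pair', hfu] at h2
        simpa using h2
      rw [h6, zero_smul, zero_add] at hst
      rw [h1, ← hst]
      exact Submodule.add_mem _ (Submodule.smul_mem _ _ (Submodule.subset_span (by simp)))
        (Submodule.smul_mem _ _ (Submodule.subset_span (by simp)))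
  · exact claim_ns_aux hQ hd hH hcom hT hf h hu hUe heu huf hp hfp

/-- **Main structure theorem**: `H` stabilises a totally singular subspace or a nonsingular
point. -/
theorem exists_stab [Finite F] [FiniteDimensional F V] (hQ : Nondeg Q)
    (hd : 7 ≤ Module.finrank F V) {H : Subgroup (V ≃ₗ[F] V)}
    (hH : H ≤ E Q) (hne : ¬ E Q ≤ H) (hcom : Com Q H) (hT : Typ Q H)
    (hPP : ∃ e, e ∈ PP Q H) :
    ∃ T : Submodule F V, T ≠ ⊥ ∧ (∀ h ∈ H, ∀ x ∈ T, h x ∈ T) ∧
      ((∀ x ∈ T, Q x = 0) ∨ ∃ a, Q a ≠ 0 ∧ T = Submodule.span F {a}) := by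
  by_cases hopp : ∀ e ∈ PP Q H, ∀ f ∈ PP Q H, polar Q e f = 0
  · -- no opposite pairs
    refine ⟨Submodule.span F (PP Q H), ?_, ?_, Or.inl (span_ts (fun x hx => hx.2.1) hopp)⟩
    · obtain ⟨e, he⟩ := hPP
      intro h1
      have h2 : e ∈ Submodule.span F (PP Q H) := Submodule.subset_span he
      rw [h1] at h2
      exact he.1 ((Submodule.mem_bot F).1 h2)
    · intro h hh x hx
      induction hx using Submodule.span_induction with
      | mem s hs => exact Submodule.subset_span (PP_map hH hh hs)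
      | zero => rw [map_zero]; exact Submodule.zero_mem _
      | add a b _ _ ha hb => rw [map_add]; exact Submodule.add_mem _ ha hb
      | smul c a _ ha => rw [map_smul]; exact Submodule.smul_mem _ _ ha
  · push Not at hopp
    obtain ⟨e, he, f0, hf0, hef0⟩ := hopp
    set c := (polar Q e f0)⁻¹ with hc
    have hc0 : c ≠ 0 := inv_ne_zero hef0
    set f := c • f0 with hf'
    have hf : f ∈ PP Q H := PP_smul hf0 hc0
    have h : Hyp Q e f := ⟨he.2.1, hf.2.1, by
      rw [hf', polar_smul_right, smul_eq_mul, hc, inv_mul_cancel₀ hef0]⟩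
    have hfe : polar Q f e ≠ 0 := by rw [h.pair']; exact one_ne_zero
    have hef : polar Q e f ≠ 0 := by rw [h.pair]; exact one_ne_zero
    set T := perp Q (Submodule.span F (PP Q H)) with hTdef
    have hTinv : ∀ h ∈ H, ∀ x ∈ T, h x ∈ T := by
      intro k hk x hx
      rw [hTdef, perp_span]
      intro p hp
      have hkO := E_le_O (hH hk)
      have h1 : k⁻¹ p ∈ PP Q H := PP_map hH (H.inv_mem hk) hp
      have h2 : polar Q (k⁻¹ p) x = 0 := (perp_span _ _).1 hx _ h1
      have h3 : k (k⁻¹ p) = p := LinearEquiv.apply_symm_apply k p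
      rw [← h3, polar_map hkO]; exact h2
    -- `T ≤ Us e`
    have hTe : ∀ x ∈ T, x ∈ Us Q H e ∧ polar Q f x = 0 := by
      intro x hx
      have hx' : ∀ p ∈ PP Q H, polar Q p x = 0 := (perp_span _ _).1 hx
      refine ⟨?_, hx' f hf⟩
      intro w hw
      have h1 := hx' _ (PP_map hH (Ws.sg_mem hw) hf)
      rw [sg_apply h.left hw.1, h.pair] at h1
      simp only [polar_sub_left, polar_add_left, polar_smul_left, hx' f hf, hx' e he,
        smul_eq_mul, mul_zero, sub_zero, zero_add, one_mul] at h1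
      exact h1
    -- `U0 ≠ 0`
    have hU0 : ∃ u, u ≠ 0 ∧ u ∈ Us Q H e ∧ u ∈ Us Q H f := by
      by_contra hcon
      push Not at hcon
      apply hne
      have hall : ∀ e f : V, e ∈ PP Q H → f ∈ PP Q H → Hyp Q e f →
          (∀ u, u ≠ 0 → u ∈ Us Q H e → u ∉ Us Q H f) →
          ∀ v, polar Q e v = 0 → sg Q e v ∈ H := by
        intro e f he hf h hcon v hv
        have hef : polar Q e f ≠ 0 := by rw [h.pair]; exact one_ne_zero
        apply Ws.sg_mem
        apply mem_Ws_of_perp hQ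
        intro y hy
        obtain ⟨h1, h2, h3⟩ := eq_smul_add_of_perp h (polar_of_mem_Us h.left hy)
        set y0 := y - polar Q f y • e with hy0
        have h4 : y0 ∈ Us Q H e := Submodule.sub_mem _ hy (Submodule.smul_mem _ _ self_mem_Us)
        have h5 : y0 ∈ Us Q H f := Us_opp' hH hcom he hf hef h4 h3
        have h6 : y0 = 0 := by
          by_contra h6
          exact hcon y0 h6 h4 h5
        rw [h1, h6, add_zero, polar_smul_left, hv, smul_zero]
      refine E_le_of_opp hQ h (hall e f he hf h hcon) (hall f e hf he h.symm ?_)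
      intro u hu hu1 hu2
      exact hcon u hu hu2 hu1
    obtain ⟨u, hu0, hue, huf⟩ := hU0
    rcases hT e he with hts | ⟨a, ha, hea, hUe⟩
    · refine ⟨T, ?_, hTinv, Or.inl fun x hx => hts x (hTe x hx).1⟩
      intro h1
      have h2 : u ∈ T := by
        rw [hTdef, perp_span]
        intro p hp
        rw [polar_comm]
        exact claim_ts hQ hH hcom hT he hf h hts hue huf hp
      rw [h1] at h2
      exact hu0 ((Submodule.mem_bot F).1 h2)
    · -- nonsingular case
      have hfx0 : ∀ x ∈ Us Q H e, polar Q f x = 0 → Q x = 0 → x = 0 := by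
        intro x hx hfx hxQ
        obtain ⟨s, rfl⟩ := sing_of_mem_span h.left ha hea (hUe hx) hxQ
        rw [polar_smul_right, h.pair', smul_eq_mul, mul_one] at hfx
        rw [hfx, zero_smul]
      have hfu : polar Q f u = 0 := polar_of_mem_Us h.right huf
      have huQ : Q u ≠ 0 := fun h1 => hu0 (hfx0 u hue hfu h1)
      have hUe' : Us Q H e ≤ Submodule.span F {e, u} := by
        intro x hx
        obtain ⟨s, t, hst⟩ := Submodule.mem_span_pair.1 (hUe hx)
        obtain ⟨s', t', hst'⟩ := Submodule.mem_span_pair.1 (hUe hue)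
        have ht' : t' ≠ 0 := by
          rintro rfl
          apply huQ
          rw [← hst', zero_smul, add_zero, QuadraticMap.map_smul, h.left, smul_zero]
        refine Submodule.mem_span_pair.2 ⟨s - t * t'⁻¹ * s', t * t'⁻¹, ?_⟩
        rw [← hst, ← hst', smul_add, smul_smul, smul_smul]
        have h1 : t * t'⁻¹ * t' = t := inv_mul_cancel_right₀ ht' t
        rw [h1]
        module
      have huT : u ∈ T := by
        rw [hTdef, perp_span]
        intro p hp
        rw [polar_comm]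
        exact claim_ns hQ hd hH hcom hT he hf h huQ hUe' hue huf hp
      refine ⟨T, ?_, hTinv, Or.inr ⟨u, huQ, ?_⟩⟩
      · intro h1
        rw [h1] at huT
        exact hu0 ((Submodule.mem_bot F).1 huT)
      · apply le_antisymm
        · intro x hx
          obtain ⟨hxe, hfx⟩ := hTe x hx
          obtain ⟨s, t, hst⟩ := Submodule.mem_span_pair.1 (hUe' hxe)
          have hs : s = 0 := by
            rw [← hst, polar_add_right, polar_smul_right, polar_smul_right, h.pair', hfu] at hfx
            simpa using hfx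
          rw [hs, zero_smul, zero_add] at hst
          rw [← hst]
          exact Submodule.smul_mem _ _ (Submodule.mem_span_singleton_self u)
        · rw [Submodule.span_le]
          rintro _ rfl
          exact huT

end Cfsg.Agent.H75.OrthIdx
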