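import Cfsg.Agent.H75.Bounds

/-!
Lower bounds for `VecSet` and `PairSet`, and the resulting inequalities for `|P : N|`.
-/

set_option autoImplicit false

namespace Cfsg.Agent.H75.OrthIdx

open QuadraticMap Cfsg.Agent.LieClassical.OrthCore Cfsg.Agent.LieClassical.OrthTrans

variable {F V : Type*} [Field F] [AddCommGroup V] [Module F V] {Q : QuadraticForm F V}

theorem li3_of {x y z : V} (h : LinearIndependent F ![x, y]) (φ : V →ₗ[F] F) (hx : φ x = 0)
    (hy : φ y = 0) (hz : φ z ≠ 0) : LinearIndependent F ![x, y, z] := by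
  rw [LinearIndependent.pair_iff] at h
  rw [Fintype.linearIndependent_iff]
  intro g hg
  rw [Fin.sum_univ_three] at hg
  have hg' : g 0 • x + g 1 • y + g 2 • z = 0 := hg
  have h1 := congrArg φ hg'
  rw [map_add, map_add, map_smul, map_smul, map_smul, hx, hy, map_zero, smul_zero, smul_zero,
    zero_add, zero_add, smul_eq_mul] at h1
  have h2 : g 2 = 0 := (mul_eq_zero.1 h1).resolve_right hz
  rw [h2, zero_smul, add_zero] at hg'
  obtain ⟨h3, h4⟩ := h _ _ hg'
  intro i
  fin_cases i
  · exact h3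
  · exact h4
  · exact h2

theorem li3_of_notMem {x y z : V} (h : LinearIndependent F ![x, y])
    (hz : z ∉ Submodule.span F {x, y}) : LinearIndependent F ![x, y, z] := by
  rw [LinearIndependent.pair_iff] at h
  rw [Fintype.linearIndependent_iff]
  intro g hg
  rw [Fin.sum_univ_three] at hg
  have hg' : g 0 • x + g 1 • y + g 2 • z = 0 := hg
  have h2 : g 2 = 0 := by
    by_contra h2
    apply hz
    rw [Submodule.mem_span_pair]
    refine ⟨-(g 2)⁻¹ * g 0, -(g 2)⁻¹ * g 1, ?_⟩
    have h3 : (g 2)⁻¹ • (g 0 • x + g 1 • y + g 2 • z) = 0 := by rw [hg', smul_zero]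
    rw [smul_add, smul_smul (g 2)⁻¹ (g 2), inv_mul_cancel₀ h2, one_smul] at h3
    rw [← sub_eq_zero, ← neg_eq_zero, ← h3]
    module
  rw [h2, zero_smul, add_zero] at hg'
  obtain ⟨h3, h4⟩ := h _ _ hg'
  intro i
  fin_cases i
  · exact h3
  · exact h4
  · exact h2

theorem li2_of_nonsing {e w : V} (he : e ≠ 0) (heQ : Q e = 0) (hew : polar Q e w = 0)
    (hw : Q w ≠ 0) : LinearIndependent F ![e, w] := by
  rw [LinearIndependent.pair_iff]
  intro a b hab
  have h1 : Q (a • e + b • w) = 0 := by rw [hab]; exact QuadraticMap.map_zero Q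
  rw [Q_add, QuadraticMap.map_smul, QuadraticMap.map_smul, heQ, polar_smul_left,
    polar_smul_right, hew] at h1
  simp only [smul_eq_mul, mul_zero, zero_add, add_zero] at h1
  have hb : b = 0 := by
    rcases mul_eq_zero.1 h1 with h | h
    · exact mul_self_eq_zero.1 h
    · exact absurd h hw
  rw [hb, zero_smul, add_zero] at hab
  exact ⟨(smul_eq_zero.1 hab).resolve_right he, hb⟩

theorem li2_of_notMem {e w : V} (he : e ≠ 0) (hw : w ∉ Submodule.span F {e}) :
    LinearIndependent F ![e, w] := by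
  rw [LinearIndependent.pair_iff]
  intro a b hab
  have hb : b = 0 := by
    by_contra hb
    apply hw
    rw [Submodule.mem_span_singleton]
    refine ⟨-b⁻¹ * a, ?_⟩
    have h3 : b⁻¹ • (a • e + b • w) = 0 := by rw [hab, smul_zero]
    rw [smul_add, smul_smul b⁻¹ b, inv_mul_cancel₀ hb, one_smul] at h3
    rw [← sub_eq_zero, ← neg_eq_zero, ← h3]
    module
  rw [hb, zero_smul, add_zero] at hab
  exact ⟨(smul_eq_zero.1 hab).resolve_right he, hb⟩

theorem notMem_of_li2 {e w : V} (h : LinearIndependent F ![e, w]) : w ∉ Submodule.span F {e} := by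
  intro hw
  obtain ⟨a, rfl⟩ := Submodule.mem_span_singleton.1 hw
  rw [LinearIndependent.pair_iff] at h
  have := h a (-1) (by module)
  exact one_ne_zero (neg_eq_zero.1 this.2)

theorem finrank_span_pair_le (x y : V) : Module.finrank F (Submodule.span F {x, y}) ≤ 2 := by
  classical
  have h1 := finrank_span_finset_le_card (R := F) ({x, y} : Finset V)
  rw [Finset.coe_insert, Finset.coe_singleton] at h1
  exact h1.trans (Finset.card_le_two)

section fin

variable [Finite F] [FiniteDimensional F V]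

/-- Number of second members of a pair. -/
theorem le_ncard_second (hQ : Nondeg Q) (hd : 7 ≤ Module.finrank F V) {e w1 : V}
    (hli : LinearIndependent F ![e, w1]) (β γ : F) :
    (Nat.card F - 1) * Nat.card F ^ (Module.finrank F V - 4) ≤
      {w | polar Q e w = 0 ∧ polar Q w1 w = β ∧ Q w = γ ∧
        LinearIndependent F ![e, w1, w]}.ncard := by
  have : Finite V := Module.finite_of_finite F
  have hT := finrank_span_pair_le (F := F) e w1
  obtain ⟨x, y, hxy, hx, hy⟩ := exists_hyp_perp_of_rad hQ (Submodule.span F {e, w1}) (by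
    have h1 : Module.finrank F (Submodule.span F {e, w1} ⊓ perp Q (Submodule.span F {e, w1}) :
        Submodule F V) ≤ Module.finrank F (Submodule.span F {e, w1}) :=
      Submodule.finrank_mono inf_le_left
    omega)
  have hex : polar Q e x = 0 := hx e (Submodule.subset_span (by simp))
  have hey : polar Q e y = 0 := hy e (Submodule.subset_span (by simp))
  have hwx : polar Q w1 x = 0 := hx w1 (Submodule.subset_span (by simp))
  have hwy : polar Q w1 y = 0 := hy w1 (Submodule.subset_span (by simp))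
  refine (le_ncard_norm hQ ![e, w1] hli ![0, β] hxy ?_ ?_ γ).trans
    (Set.ncard_le_ncard ?_ (Set.toFinite _))
  · rw [Fin.forall_fin_two]; exact ⟨hex, hwx⟩
  · rw [Fin.forall_fin_two]; exact ⟨hey, hwy⟩
  · rintro w ⟨h1, h2, h3⟩
    rw [Fin.forall_fin_two] at h1
    refine ⟨h1.1, h1.2, h2, ?_⟩
    apply li3_of hli (polarBilin Q y)
    · rw [polarBilin_apply_apply, polar_comm]; exact hey
    · rw [polarBilin_apply_apply, polar_comm]; exact hwy
    · exact h3

theorem le_ncard_pairSet (hQ : Nondeg Q) (hd : 7 ≤ Module.finrank F V) (e v1 v2 : V) :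
    (VecSet Q e v1).ncard * ((Nat.card F - 1) * Nat.card F ^ (Module.finrank F V - 4)) ≤
      (PairSet Q e v1 v2).ncard := by
  have : Finite V := Module.finite_of_finite F
  apply mul_le_ncard
  rintro w1 ⟨h1, hli, μ, hμ, hQ1⟩
  refine (le_ncard_second hQ hd hli (μ * μ * polar Q v1 v2) (μ * μ * Q v2)).trans
    (Set.ncard_le_ncard ?_ (Set.toFinite _))
  rintro w ⟨h2, h3, h4, h5⟩
  exact ⟨h1, h2, h5, μ, hμ, hQ1, h4, h3⟩

theorem mul_le_ncard_vecSet {e v : V} (he : e ≠ 0) (heQ : Q e = 0) (hv : Q v ≠ 0) {K : ℕ}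
    (hK : ∀ c : F, c ≠ 0 → K ≤ {w | polar Q e w = 0 ∧ Q w = c}.ncard) :
    (Nat.card F - 1) * K ≤ (VecSet Q e v).ncard * 2 := by
  classical
  have : Finite V := Module.finite_of_finite F
  set O' : Set (F × V) := {p | p.1 ≠ 0 ∧ polar Q e p.2 = 0 ∧ Q p.2 = p.1 * p.1 * Q v} with hO
  have h1 : {μ : F | μ ≠ 0}.ncard * K ≤ O'.ncard := by
    apply mul_le_ncard
    intro μ hμ
    refine (hK (μ * μ * Q v) (mul_ne_zero (mul_ne_zero hμ hμ) hv)).trans
      (Set.ncard_le_ncard ?_ (Set.toFinite _))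
    rintro w ⟨h1, h2⟩
    exact ⟨hμ, h1, h2⟩
  have h2 : (Prod.swap '' O').ncard ≤ (VecSet Q e v).ncard * 2 := by
    apply ncard_le_mul
    · rintro _ ⟨⟨μ, w⟩, ⟨hμ, h3, h4⟩, rfl⟩
      have hw : Q w ≠ 0 := by
        have h4' : Q w = μ * μ * Q v := h4
        rw [h4']
        exact mul_ne_zero (mul_ne_zero hμ hμ) hv
      exact ⟨h3, li2_of_nonsing he heQ h3 hw, μ, hμ, h4⟩
    · rintro w ⟨-, -, μ, hμ, hQw⟩
      have h5 : {y | (w, y) ∈ Prod.swap '' O'} ⊆ {μ, -μ} := by
        rintro ν ⟨⟨ν', w'⟩, ⟨hν, h3, h4⟩, he'⟩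
        have he1 : w' = w := congrArg Prod.fst he'
        have he2 : ν' = ν := congrArg Prod.snd he'
        subst he1 he2
        have h4' : Q w' = ν' * ν' * Q v := h4
        rw [hQw] at h4'
        have h6 := mul_right_cancel₀ hv h4'
        have h7 : (ν' - μ) * (ν' + μ) = 0 := by linear_combination -h6
        rcases mul_eq_zero.1 h7 with h | h
        · left; exact sub_eq_zero.1 h
        · right; exact eq_neg_of_add_eq_zero_left h
      refine (Set.ncard_le_ncard h5 (Set.toFinite _)).trans ?_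
      exact (Set.ncard_insert_le _ _).trans (by rw [Set.ncard_singleton])
  have hFc : {s : F | s ≠ 0}.ncard = Nat.card F - 1 := by
    have h1 : {s : F | s ≠ 0} = {0}ᶜ := rfl
    rw [h1, Set.ncard_compl, Set.ncard_singleton]
  rw [Set.ncard_image_of_injective _ Prod.swap_injective] at h2
  rw [← hFc]
  exact h1.trans h2

/-- singular vectors of `e⊥` outside `⟨e⟩` -/
theorem ncard_vecSet_sing {e v : V} (he : e ≠ 0) (heQ : Q e = 0) (hv : Q v = 0) :
    (VecSet Q e v).ncard + Nat.card F = {w | polar Q e w = 0 ∧ Q w = 0}.ncard := by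
  classical
  have : Finite V := Module.finite_of_finite F
  have h1 : {w | polar Q e w = 0 ∧ Q w = 0} = VecSet Q e v ∪ (Submodule.span F {e} : Set V) := by
    ext w
    constructor
    · rintro ⟨h1, h2⟩
      by_cases hw : w ∈ Submodule.span F {e}
      · right; exact hw
      · left
        exact ⟨h1, li2_of_notMem he hw, 1, one_ne_zero, by rw [h2, hv, mul_zero]⟩
    · rintro (⟨h1, -, μ, -, h2⟩ | hw)
      · exact ⟨h1, by rw [h2, hv, mul_zero]⟩
      · obtain ⟨a, rfl⟩ := Submodule.mem_span_singleton.1 hw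
        refine ⟨?_, ?_⟩
        · rw [polar_smul_right, polar_self_of_sing heQ, smul_zero]
        · rw [QuadraticMap.map_smul, heQ, smul_zero]
  have h2 : Disjoint (VecSet Q e v) (Submodule.span F {e} : Set V) := by
    rw [Set.disjoint_left]
    rintro w ⟨-, hli, -⟩ hw
    exact notMem_of_li2 hli hw
  rw [h1, Set.ncard_union_eq h2 (Set.toFinite _) (Set.toFinite _)]
  congr 1
  have h3 : (Submodule.span F {e} : Set V).ncard = Nat.card (Submodule.span F {e}) := rfl
  rw [h3, Module.natCard_eq_pow_finrank (K := F) (V := Submodule.span F {e}),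
    finrank_span_singleton he, pow_one]

/-- Pair bound in odd characteristic. -/
theorem pair_bound (hG : Good Q) (hd : 7 ≤ Module.finrank F V) {p k : ℕ} (hp : p.Prime)
    (hq : Nat.card F = p ^ k) (h2 : (2 : F) ≠ 0) {e f : V} (h : Hyp Q e f) (b : Bool)
    (N : Subgroup (V ≃ₗ[F] V)) (S : AddSubgroup V) (hS : Stab Q e f b N (S : Set V))
    (hSe : ∀ v ∈ S, polar Q e v = 0) {v1 : V} (hv1 : v1 ∈ S) (hv1Q : Q v1 ≠ 0)
    (hsp : ∃ v2 ∈ S, v2 ∉ Submodule.span F {e, v1}) {K : ℕ}
    (hK : ∀ c : F, c ≠ 0 → K ≤ {w | polar Q e w = 0 ∧ Q w = c}.ncard) :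
    p * ((Nat.card F - 1) * K * ((Nat.card F - 1) * Nat.card F ^ (Module.finrank F V - 4))) ≤
      2 * (N.relIndex (Pst Q e) * (Nat.card S * Nat.card S)) := by
  have : Finite V := Module.finite_of_finite F
  obtain ⟨v2, hv2, hv2n⟩ := hsp
  have he0 : e ≠ 0 := h.left_ne
  have hli2 := li2_of_nonsing (F := F) he0 h.left (hSe v1 hv1) hv1Q
  have hli := li3_of_notMem hli2 hv2n
  have huniv : ∀ c : F, c ≠ 0 → ∃ z, Q z = c ∧ ∀ i, polar Q (![e, v1, v2] i) z = 0 := by
    intro c _
    have hT3 : Module.finrank F (Submodule.span F (Set.range ![e, v1, v2])) = 3 := by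
      have := finrank_span_eq_card hli
      simpa using this
    obtain ⟨z, hz, hzc⟩ := exists_norm_perp hG.nondeg (Submodule.span F (Set.range ![e, v1, v2]))
      (by
        right
        refine ⟨by omega, v1, Submodule.subset_span ⟨1, rfl⟩, hv1Q⟩) c
    exact ⟨z, hzc, fun i => hz _ (Submodule.subset_span ⟨i, rfl⟩)⟩
  have h1 := ncard_pairSet_le hG h b N hS hv1 hv2 (hSe v1 hv1) (hSe v2 hv2) hli huniv
  have h3 := pairs_inter_le hp hq h2 S (e := e) (v1 := v1) (v2 := v2) hv1Q
  have h4 := le_ncard_pairSet hG.nondeg hd e v1 v2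
  have h5 := mul_le_ncard_vecSet he0 h.left hv1Q hK
  set E1 := (Nat.card F - 1) * Nat.card F ^ (Module.finrank F V - 4)
  calc p * ((Nat.card F - 1) * K * E1) ≤ p * ((VecSet Q e v1).ncard * 2 * E1) :=
        Nat.mul_le_mul_left _ (Nat.mul_le_mul_right _ h5)
    _ = 2 * (p * ((VecSet Q e v1).ncard * E1)) := by ring
    _ ≤ 2 * (p * (PairSet Q e v1 v2).ncard) :=
        Nat.mul_le_mul_left _ (Nat.mul_le_mul_left _ h4)
    _ ≤ 2 * (p * (N.relIndex (Pst Q e) * (PairSet Q e v1 v2 ∩ (S : Set V) ×ˢ (S : Set V)).ncard)) :=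
        Nat.mul_le_mul_left _ (Nat.mul_le_mul_left _ h1)
    _ = 2 * (N.relIndex (Pst Q e) *
          (p * (PairSet Q e v1 v2 ∩ (S : Set V) ×ˢ (S : Set V)).ncard)) := by ring
    _ ≤ 2 * (N.relIndex (Pst Q e) * (Nat.card S * Nat.card S)) :=
        Nat.mul_le_mul_left _ (Nat.mul_le_mul_left _ h3)

/-- Single vector bound. -/
theorem vec_bound (hG : Good Q) (hd : 6 ≤ Module.finrank F V) {e f : V} (h : Hyp Q e f) (b : Bool)
    (N : Subgroup (V ≃ₗ[F] V)) (S : AddSubgroup V) (hS : Stab Q e f b N (S : Set V))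
    {v : V} (hv : v ∈ S) (hev : polar Q e v = 0) (hvn : v ∉ Submodule.span F {e}) :
    (VecSet Q e v).ncard ≤ N.relIndex (Pst Q e) * (VecSet Q e v ∩ (S : Set V)).ncard := by
  have hli := li2_of_notMem (F := F) h.left_ne hvn
  refine ncard_vecSet_le hG h b N hS hv hev hli ?_
  intro c _
  have hT2 : Module.finrank F (Submodule.span F (Set.range ![e, v])) = 2 := by
    have := finrank_span_eq_card hli
    simpa using this
  obtain ⟨z, hz, hzc⟩ := exists_norm_perp hG.nondeg (Submodule.span F (Set.range ![e, v]))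
    (by left; omega) c
  exact ⟨z, hzc, fun i => hz _ (Submodule.subset_span ⟨i, rfl⟩)⟩

end fin

end Cfsg.Agent.H75.OrthIdx
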