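import Cfsg.Agent.H376.Six.Elim
import Cfsg.Agent.H458.Six.NoAL

/-!
# Numbers for `E₇(v)`, `E₈(v)` in BLOCK 6 (helper75, task 2625)

* `ph m x` : values of the cyclotomic polynomials, `prod7`, `prod8` : products of pairwise coprime values;
* `bound` : the value of the least common multiple of the element orders against `am q`;
* `num7`, `num8` : the contradiction.
-/

set_option autoImplicit false
set_option linter.unusedVariables false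

namespace Cfsg.Agent.H75.M5h

open Cfsg.Agent.H376.Six

/-- values of cyclotomic polynomials -/
def ph : ℕ → ℤ → ℤ
  | 5, x => x ^ 4 + x ^ 3 + x ^ 2 + x + 1
  | 7, x => x ^ 6 + x ^ 5 + x ^ 4 + x ^ 3 + x ^ 2 + x + 1
  | 8, x => x ^ 4 + 1
  | 9, x => x ^ 6 + x ^ 3 + 1
  | 10, x => x ^ 4 - x ^ 3 + x ^ 2 - x + 1
  | 12, x => x ^ 4 - x ^ 2 + 1
  | 14, x => x ^ 6 - x ^ 5 + x ^ 4 - x ^ 3 + x ^ 2 - x + 1
  | 15, x => x ^ 8 - x ^ 7 + x ^ 5 - x ^ 4 + x ^ 3 - x + 1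
  | 18, x => x ^ 6 - x ^ 3 + 1
  | 20, x => x ^ 8 - x ^ 6 + x ^ 4 - x ^ 2 + 1
  | 24, x => x ^ 8 - x ^ 4 + 1
  | 30, x => x ^ 8 + x ^ 7 - x ^ 5 - x ^ 4 - x ^ 3 + x + 1
  | _, _ => 1

theorem half (x : ℤ) : ∃ c, x * (x + 1) = 2 * c := by
  obtain ⟨c, hc⟩ := Int.even_mul_succ_self x
  exact ⟨c, by rw [hc]; ring⟩

theorem odd5 (x : ℤ) : ∃ c, ph 5 x = 2 * c + 1 := by
  obtain ⟨c, hc⟩ := half x
  exact ⟨c * (x ^ 2 + 1), by simp only [ph]; linear_combination (x ^ 2 + 1) * hc⟩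

theorem odd7 (x : ℤ) : ∃ c, ph 7 x = 2 * c + 1 := by
  obtain ⟨c, hc⟩ := half x
  exact ⟨c * (x ^ 4 + x ^ 2 + 1), by simp only [ph]; linear_combination (x ^ 4 + x ^ 2 + 1) * hc⟩

theorem odd9 (x : ℤ) : ∃ c, ph 9 x = 2 * c + 1 := by
  obtain ⟨c, hc⟩ := half (x ^ 3)
  exact ⟨c, by simp only [ph]; linear_combination hc⟩

theorem odd15 (x : ℤ) : ∃ c, ph 15 x = 2 * c + 1 := by
  obtain ⟨c, hc⟩ := half x
  exact ⟨(c - x) * (x ^ 6 + x ^ 3 + x + 1), by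
    simp only [ph]; linear_combination (x ^ 6 + x ^ 3 + x + 1) * hc⟩

theorem cop_of_two {X Y : ℤ} (hX : ∃ c, X = 2 * c + 1) {a b : ℤ} (h : a * X + b * Y = 2) : IsCoprime X Y := by
  obtain ⟨c, hc⟩ := hX
  refine ⟨1 - c * a, -(c * b), ?_⟩
  linear_combination hc - c * h

theorem c5_7 (x : ℤ) : IsCoprime (ph 5 x) (ph 7 x) :=
  ⟨x^5 + x^3 + 1,
    -x^3 - x, by simp only [ph]; ring⟩

theorem c5_8 (x : ℤ) : IsCoprime (ph 5 x) (ph 8 x) :=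
  ⟨-x^3 + x^2 - x,
    x^3 + x + 1, by simp only [ph]; ring⟩

theorem c5_9 (x : ℤ) : IsCoprime (ph 5 x) (ph 9 x) :=
  ⟨x^5 + 1,
    -x^3 - x^2 - x, by simp only [ph]; ring⟩

theorem c5_10 (x : ℤ) : IsCoprime (ph 5 x) (ph 10 x) :=
  cop_of_two (odd5 x) (a := -x + 1)
    (b := x + 1) (by simp only [ph]; ring)

theorem c5_12 (x : ℤ) : IsCoprime (ph 5 x) (ph 12 x) :=
  ⟨2*x^3 - 2*x^2 - x + 2,
    -2*x^3 - x - 1, by simp only [ph]; ring⟩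

theorem c5_14 (x : ℤ) : IsCoprime (ph 5 x) (ph 14 x) :=
  ⟨x^5 - x^3 + 1,
    -x^3 - 2*x^2 - x, by simp only [ph]; ring⟩

theorem c5_18 (x : ℤ) : IsCoprime (ph 5 x) (ph 18 x) :=
  ⟨-x^5 + 2*x^4 - 2*x^3 + 2*x^2 - 2*x + 1,
    x^3 - x^2 + x, by simp only [ph]; ring⟩

theorem c7_8 (x : ℤ) : IsCoprime (ph 7 x) (ph 8 x) :=
  ⟨-x,
    x^3 + x^2 + x + 1, by simp only [ph]; ring⟩

theorem c7_9 (x : ℤ) : IsCoprime (ph 7 x) (ph 9 x) :=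
  ⟨x^5 - x^4 + x^3 - x + 1,
    -x^5 - x^3, by simp only [ph]; ring⟩

theorem c7_10 (x : ℤ) : IsCoprime (ph 7 x) (ph 10 x) :=
  ⟨x^3 - 2*x^2 + x,
    -x^5 + x^3 + 1, by simp only [ph]; ring⟩

theorem c7_12 (x : ℤ) : IsCoprime (ph 7 x) (ph 12 x) :=
  ⟨-2*x^3 + 2*x^2 - 1,
    2*x^5 + 2*x^3 + x^2 + x + 2, by simp only [ph]; ring⟩

theorem c7_14 (x : ℤ) : IsCoprime (ph 7 x) (ph 14 x) :=
  cop_of_two (odd7 x) (a := -x + 1)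
    (b := x + 1) (by simp only [ph]; ring)

theorem c7_18 (x : ℤ) : IsCoprime (ph 7 x) (ph 18 x) :=
  ⟨-x^5 - x^4 + x^3 + 2*x^2 - x - 1,
    x^5 + 2*x^4 + x^3 + 2*x + 2, by simp only [ph]; ring⟩

theorem c8_9 (x : ℤ) : IsCoprime (ph 8 x) (ph 9 x) :=
  ⟨-x^4 - x^3 - x^2 - x,
    x^2 + x + 1, by simp only [ph]; ring⟩

theorem c8_10 (x : ℤ) : IsCoprime (ph 8 x) (ph 10 x) :=
  ⟨-x^3 - x + 1,
    x^3 + x^2 + x, by simp only [ph]; ring⟩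

theorem c8_12 (x : ℤ) : IsCoprime (ph 8 x) (ph 12 x) :=
  ⟨-x^2 + 1,
    x^2, by simp only [ph]; ring⟩

theorem c8_14 (x : ℤ) : IsCoprime (ph 8 x) (ph 14 x) :=
  ⟨-x^3 + x^2 - x + 1,
    x, by simp only [ph]; ring⟩

theorem c8_18 (x : ℤ) : IsCoprime (ph 8 x) (ph 18 x) :=
  ⟨-x^4 + x^3 - x^2 + x,
    x^2 - x + 1, by simp only [ph]; ring⟩

theorem c9_10 (x : ℤ) : IsCoprime (ph 9 x) (ph 10 x) :=
  ⟨-x^3 - x^2 - x,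
    x^5 + 2*x^4 + 2*x^3 + 2*x^2 + 2*x + 1, by simp only [ph]; ring⟩

theorem c9_12 (x : ℤ) : IsCoprime (ph 9 x) (ph 12 x) :=
  ⟨-x^3,
    x^5 + x^3 + x^2 + 1, by simp only [ph]; ring⟩

theorem c9_14 (x : ℤ) : IsCoprime (ph 9 x) (ph 14 x) :=
  ⟨-x^5 + 2*x^4 - x^3 - 2*x + 2,
    x^5 - x^4 - x^3 + 2*x^2 + x - 1, by simp only [ph]; ring⟩

theorem c9_18 (x : ℤ) : IsCoprime (ph 9 x) (ph 18 x) :=
  cop_of_two (odd9 x) (a := -x^3 + 1)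
    (b := x^3 + 1) (by simp only [ph]; ring)

theorem c10_12 (x : ℤ) : IsCoprime (ph 10 x) (ph 12 x) :=
  ⟨-2*x^3 - 2*x^2 + x + 2,
    2*x^3 + x - 1, by simp only [ph]; ring⟩

theorem c10_14 (x : ℤ) : IsCoprime (ph 10 x) (ph 14 x) :=
  ⟨-x^5 - x^3 + 1,
    x^3 + x, by simp only [ph]; ring⟩

theorem c10_18 (x : ℤ) : IsCoprime (ph 10 x) (ph 18 x) :=
  ⟨-x^5 + 1,
    x^3 - x^2 + x, by simp only [ph]; ring⟩

theorem c12_14 (x : ℤ) : IsCoprime (ph 12 x) (ph 14 x) :=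
  ⟨-2*x^5 - 2*x^3 + x^2 - x + 2,
    2*x^3 + 2*x^2 - 1, by simp only [ph]; ring⟩

theorem c12_18 (x : ℤ) : IsCoprime (ph 12 x) (ph 18 x) :=
  ⟨-x^5 - x^3 + x^2 + 1,
    x^3, by simp only [ph]; ring⟩

theorem c14_18 (x : ℤ) : IsCoprime (ph 14 x) (ph 18 x) :=
  ⟨-x^5 - x^4 - x^3 + x + 1,
    x^5 + x^3, by simp only [ph]; ring⟩

theorem c7_15 (x : ℤ) : IsCoprime (ph 7 x) (ph 15 x) :=
  ⟨-x^7 + x^5 - x^4 + x^3 - 2*x + 1,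
    x^5 + 2*x^4 + 2*x^3 + 2*x^2 + x, by simp only [ph]; ring⟩

theorem c7_20 (x : ℤ) : IsCoprime (ph 7 x) (ph 20 x) :=
  ⟨x^7 - x^4 + 1,
    -x^5 - x^4 - 2*x^3 - x^2 - x, by simp only [ph]; ring⟩

theorem c7_24 (x : ℤ) : IsCoprime (ph 7 x) (ph 24 x) :=
  ⟨2*x^7 - x^6 - x^5 + x^4 - x^3 - x^2 + x + 1,
    -2*x^5 - x^4 - x^2 - 2*x, by simp only [ph]; ring⟩

theorem c7_30 (x : ℤ) : IsCoprime (ph 7 x) (ph 30 x) :=
  ⟨3*x^7 - 2*x^6 + x^5 - 3*x^4 + x^3 - 2*x^2 + 2*x + 1,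
    -3*x^5 + 2*x^4 - 4*x^3 + 2*x^2 - 3*x, by simp only [ph]; ring⟩

theorem c9_15 (x : ℤ) : IsCoprime (ph 9 x) (ph 15 x) :=
  ⟨x^7 - x^6 - x^3 + x^2,
    -x^5 + x + 1, by simp only [ph]; ring⟩

theorem c9_20 (x : ℤ) : IsCoprime (ph 9 x) (ph 20 x) :=
  ⟨2*x^7 - 2*x^6 + x^3 - x^2 - x + 2,
    -2*x^5 + 2*x^4 - 2*x^3 + x - 1, by simp only [ph]; ring⟩

theorem c9_24 (x : ℤ) : IsCoprime (ph 9 x) (ph 24 x) :=
  ⟨-x^6 + x^5 - x + 1,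
    x^4 - x^3 + x, by simp only [ph]; ring⟩

theorem c9_30 (x : ℤ) : IsCoprime (ph 9 x) (ph 30 x) :=
  ⟨-x^7 + x^6 - x^3 + x^2,
    x^5 - 2*x^4 + 2*x^3 - x + 1, by simp only [ph]; ring⟩

theorem c14_15 (x : ℤ) : IsCoprime (ph 14 x) (ph 15 x) :=
  ⟨-3*x^7 - 2*x^6 - x^5 - 3*x^4 - x^3 - 2*x^2 - 2*x + 1,
    3*x^5 + 2*x^4 + 4*x^3 + 2*x^2 + 3*x, by simp only [ph]; ring⟩

theorem c14_20 (x : ℤ) : IsCoprime (ph 14 x) (ph 20 x) :=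
  ⟨-x^7 - x^4 + 1,
    x^5 - x^4 + 2*x^3 - x^2 + x, by simp only [ph]; ring⟩

theorem c14_24 (x : ℤ) : IsCoprime (ph 14 x) (ph 24 x) :=
  ⟨-2*x^7 - x^6 + x^5 + x^4 + x^3 - x^2 - x + 1,
    2*x^5 - x^4 - x^2 + 2*x, by simp only [ph]; ring⟩

theorem c14_30 (x : ℤ) : IsCoprime (ph 14 x) (ph 30 x) :=
  ⟨x^7 - x^5 - x^4 - x^3 + 2*x + 1,
    -x^5 + 2*x^4 - 2*x^3 + 2*x^2 - x, by simp only [ph]; ring⟩

theorem c15_18 (x : ℤ) : IsCoprime (ph 15 x) (ph 18 x) :=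
  ⟨-x^5 - 2*x^4 - 2*x^3 + x + 1,
    x^7 + x^6 + x^3 + x^2, by simp only [ph]; ring⟩

theorem c15_20 (x : ℤ) : IsCoprime (ph 15 x) (ph 20 x) :=
  ⟨-x^7 - x^6 - x^5,
    x^7 + x^5 + x^2 + 1, by simp only [ph]; ring⟩

theorem c15_24 (x : ℤ) : IsCoprime (ph 15 x) (ph 24 x) :=
  ⟨-x^7 - x^5 + x,
    x^7 - x^6 + x^5 + x^2 - x + 1, by simp only [ph]; ring⟩

theorem c15_30 (x : ℤ) : IsCoprime (ph 15 x) (ph 30 x) :=
  cop_of_two (odd15 x) (a := -x^7 - x^6 - x^5 + x^2 + x + 1)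
    (b := x^7 - x^6 + x^5 + x^2 - x + 1) (by simp only [ph]; ring)

theorem c18_20 (x : ℤ) : IsCoprime (ph 18 x) (ph 20 x) :=
  ⟨-2*x^7 - 2*x^6 - x^3 - x^2 + x + 2,
    2*x^5 + 2*x^4 + 2*x^3 - x - 1, by simp only [ph]; ring⟩

theorem c18_24 (x : ℤ) : IsCoprime (ph 18 x) (ph 24 x) :=
  ⟨-x^6 - x^5 + x + 1,
    x^4 + x^3 - x, by simp only [ph]; ring⟩

theorem c18_30 (x : ℤ) : IsCoprime (ph 18 x) (ph 30 x) :=
  ⟨-x^7 - x^6 + x^3 + x^2,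
    x^5 - x + 1, by simp only [ph]; ring⟩

theorem c20_24 (x : ℤ) : IsCoprime (ph 20 x) (ph 24 x) :=
  ⟨-2*x^6 - 2*x^4 + x^2 + 2,
    2*x^6 + x^2 - 1, by simp only [ph]; ring⟩

theorem c20_30 (x : ℤ) : IsCoprime (ph 20 x) (ph 30 x) :=
  ⟨-x^7 - x^5 + x^2 + 1,
    x^7 - x^6 + x^5, by simp only [ph]; ring⟩

theorem c24_30 (x : ℤ) : IsCoprime (ph 24 x) (ph 30 x) :=
  ⟨-x^7 - x^6 - x^5 + x^2 + x + 1,
    x^7 + x^5 - x, by simp only [ph]; ring⟩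

theorem prod7 {x W : ℤ} (h5 : ph 5 x ∣ W) (h7 : ph 7 x ∣ W) (h8 : ph 8 x ∣ W) (h9 : ph 9 x ∣ W) (h10 : ph 10 x ∣ W) (h12 : ph 12 x ∣ W) (h14 : ph 14 x ∣ W) (h18 : ph 18 x ∣ W) :
    ph 5 x * ph 7 x * ph 8 x * ph 9 x * ph 10 x * ph 12 x * ph 14 x * ph 18 x ∣ W := by
  have k1 := IsCoprime.mul_dvd (c5_7 x) h5 h7
  have k2 := IsCoprime.mul_dvd (IsCoprime.mul_left (c5_8 x) (c7_8 x)) k1 h8
  have k3 := IsCoprime.mul_dvd (IsCoprime.mul_left (IsCoprime.mul_left (c5_9 x) (c7_9 x)) (c8_9 x)) k2 h9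
  have k4 := IsCoprime.mul_dvd (IsCoprime.mul_left (IsCoprime.mul_left (IsCoprime.mul_left (c5_10 x) (c7_10 x)) (c8_10 x)) (c9_10 x)) k3 h10
  have k5 := IsCoprime.mul_dvd (IsCoprime.mul_left (IsCoprime.mul_left (IsCoprime.mul_left (IsCoprime.mul_left (c5_12 x) (c7_12 x)) (c8_12 x)) (c9_12 x)) (c10_12 x)) k4 h12
  have k6 := IsCoprime.mul_dvd (IsCoprime.mul_left (IsCoprime.mul_left (IsCoprime.mul_left (IsCoprime.mul_left (IsCoprime.mul_left (c5_14 x) (c7_14 x)) (c8_14 x)) (c9_14 x)) (c10_14 x)) (c12_14 x)) k5 h14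
  have k7 := IsCoprime.mul_dvd (IsCoprime.mul_left (IsCoprime.mul_left (IsCoprime.mul_left (IsCoprime.mul_left (IsCoprime.mul_left (IsCoprime.mul_left (c5_18 x) (c7_18 x)) (c8_18 x)) (c9_18 x)) (c10_18 x)) (c12_18 x)) (c14_18 x)) k6 h18
  exact k7

theorem prod8 {x W : ℤ} (h7 : ph 7 x ∣ W) (h9 : ph 9 x ∣ W) (h14 : ph 14 x ∣ W) (h15 : ph 15 x ∣ W) (h18 : ph 18 x ∣ W) (h20 : ph 20 x ∣ W) (h24 : ph 24 x ∣ W) (h30 : ph 30 x ∣ W) :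
    ph 7 x * ph 9 x * ph 14 x * ph 15 x * ph 18 x * ph 20 x * ph 24 x * ph 30 x ∣ W := by
  have k1 := IsCoprime.mul_dvd (c7_9 x) h7 h9
  have k2 := IsCoprime.mul_dvd (IsCoprime.mul_left (c7_14 x) (c9_14 x)) k1 h14
  have k3 := IsCoprime.mul_dvd (IsCoprime.mul_left (IsCoprime.mul_left (c7_15 x) (c9_15 x)) (c14_15 x)) k2 h15
  have k4 := IsCoprime.mul_dvd (IsCoprime.mul_left (IsCoprime.mul_left (IsCoprime.mul_left (c7_18 x) (c9_18 x)) (c14_18 x)) (c15_18 x)) k3 h18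
  have k5 := IsCoprime.mul_dvd (IsCoprime.mul_left (IsCoprime.mul_left (IsCoprime.mul_left (IsCoprime.mul_left (c7_20 x) (c9_20 x)) (c14_20 x)) (c15_20 x)) (c18_20 x)) k4 h20
  have k6 := IsCoprime.mul_dvd (IsCoprime.mul_left (IsCoprime.mul_left (IsCoprime.mul_left (IsCoprime.mul_left (IsCoprime.mul_left (c7_24 x) (c9_24 x)) (c14_24 x)) (c15_24 x)) (c18_24 x)) (c20_24 x)) k5 h24
  have k7 := IsCoprime.mul_dvd (IsCoprime.mul_left (IsCoprime.mul_left (IsCoprime.mul_left (IsCoprime.mul_left (IsCoprime.mul_left (IsCoprime.mul_left (c7_30 x) (c9_30 x)) (c14_30 x)) (c15_30 x)) (c18_30 x)) (c20_30 x)) (c24_30 x)) k6 h30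
  exact k7


/-! ### the bound -/

theorem mul5 {a b c d e A B C D E : ℤ} (ha : 0 ≤ a) (hb : 0 ≤ b) (hc : 0 ≤ c) (hd : 0 ≤ d) (he : 0 ≤ e)
    (hA : a ≤ A) (hB : b ≤ B) (hC : c ≤ C) (hD : d ≤ D) (hE : e ≤ E) :
    a * b * c * d * e ≤ A * B * C * D * E := by
  have h1 := ha.trans hA
  have h2 := hb.trans hB
  have h3 := hc.trans hC
  have h4 := hd.trans hD
  have h5 := he.trans hE
  gcongr

theorem am_int {q : ℕ} (hq : 5 ≤ q) : (q : ℤ) ^ 2 - q + 1 ≤ 3 * (am q : ℤ) := by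
  have h1 := three_am (q := q) (by omega)
  have h2 : q ≤ q ^ 2 := Nat.le_self_pow (by norm_num) _
  zify [h2] at h1
  exact h1

theorem poly_bound {q a : ℤ} (hq : 5 ≤ q) (ha : q ^ 2 - q + 1 ≤ 3 * a) :
    25 * ((q ^ 6 - 1) * (q ^ 2 + 1)) ≤ 4300 * a ^ 4 := by
  obtain ⟨k, hk, rfl⟩ : ∃ k : ℤ, 0 ≤ k ∧ q = k + 5 := ⟨q - 5, by omega, by ring⟩
  have h1 : 0 ≤ (k + 5) ^ 2 - (k + 5) + 1 := by nlinarith
  have h2 : ((k + 5) ^ 2 - (k + 5) + 1) ^ 4 ≤ (3 * a) ^ 4 := pow_le_pow_left₀ h1 ha 4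
  have h3 : 0 ≤ 4300 * ((k + 5) ^ 2 - (k + 5) + 1) ^ 4 - 2025 * (((k + 5) ^ 6 - 1) * ((k + 5) ^ 2 + 1)) := by
    have : 4300 * ((k + 5) ^ 2 - (k + 5) + 1) ^ 4 - 2025 * (((k + 5) ^ 6 - 1) * ((k + 5) ^ 2 + 1)) =
        13664700 + 130029300 * k + 175971150 * k ^ 2 + 108677700 * k ^ 3 + 38008575 * k ^ 4 + 8055450 * k ^ 5 +
          1031475 * k ^ 6 + 73800 * k ^ 7 + 2275 * k ^ 8 := by ring
    rw [this]
    positivity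
  nlinarith

theorem num7 {x a W : ℤ} (hx : 2 ≤ x) (ha : 0 < a) (hW : 0 < W) (hWa : W ≤ 4300 * a ^ 4) (hax : a ≤ ph 7 x)
    (h5 : ph 5 x ∣ W) (h7 : ph 7 x ∣ W) (h8 : ph 8 x ∣ W) (h9 : ph 9 x ∣ W) (h10 : ph 10 x ∣ W)
    (h12 : ph 12 x ∣ W) (h14 : ph 14 x ∣ W) (h18 : ph 18 x ∣ W) : False := by
  have h1 := Int.le_of_dvd hW (prod7 h5 h7 h8 h9 h10 h12 h14 h18)
  have h2 : a ^ 4 ≤ ph 7 x ^ 4 := pow_le_pow_left₀ ha.le hax 4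
  rcases eq_or_lt_of_le hx with rfl | hx3
  · simp only [ph] at h1 h2
    norm_num at h1 h2
    omega
  · have hx3 : 3 ≤ x := hx3
    have h0 : 0 ≤ x := by omega
    have e1 : x ^ 8 ≤ ph 5 x * ph 10 x := by
      have : ph 5 x * ph 10 x = x ^ 8 + (x ^ 6 + x ^ 4 + x ^ 2 + 1) := by simp only [ph]; ring
      rw [this]; linarith [show 0 ≤ x ^ 6 + x ^ 4 + x ^ 2 + 1 by positivity]
    have e2 : x ^ 12 ≤ ph 7 x * ph 14 x := by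
      have : ph 7 x * ph 14 x = x ^ 12 + (x ^ 10 + x ^ 8 + x ^ 6 + x ^ 4 + x ^ 2 + 1) := by simp only [ph]; ring
      rw [this]; linarith [show 0 ≤ x ^ 10 + x ^ 8 + x ^ 6 + x ^ 4 + x ^ 2 + 1 by positivity]
    have e3 : x ^ 12 ≤ ph 9 x * ph 18 x := by
      have : ph 9 x * ph 18 x = x ^ 12 + (x ^ 6 + 1) := by simp only [ph]; ring
      rw [this]; linarith [show 0 ≤ x ^ 6 + 1 by positivity]
    have e4 : x ^ 4 ≤ ph 8 x := by simp only [ph]; linarith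
    have e5 : x ^ 3 ≤ ph 12 x := by
      have : ph 12 x = x ^ 3 + (x ^ 2 * (x * (x - 1) - 1) + 1) := by simp only [ph]; ring
      rw [this]
      have h3 : 0 ≤ x * (x - 1) - 1 := by nlinarith
      linarith [show 0 ≤ x ^ 2 * (x * (x - 1) - 1) + 1 by positivity]
    have e6 : 2 * ph 7 x ≤ 3 * x ^ 6 := by
      obtain ⟨k, hk, rfl⟩ : ∃ k : ℤ, 0 ≤ k ∧ x = k + 3 := ⟨x - 3, by omega, by ring⟩
      have h3 : 3 * (k + 3) ^ 6 - 2 * ph 7 (k + 3) = k^6 + 16*k^5 + 103*k^4 + 334*k^3 + 547*k^2 + 364*k + 1 := by simp only [ph]; ring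
      have h4 : 0 ≤ k^6 + 16*k^5 + 103*k^4 + 334*k^3 + 547*k^2 + 364*k + 1 := by positivity
      linarith
    have h3 : x ^ 39 ≤ ph 5 x * ph 7 x * ph 8 x * ph 9 x * ph 10 x * ph 12 x * ph 14 x * ph 18 x := by
      calc x ^ 39 = x ^ 8 * x ^ 12 * x ^ 12 * x ^ 4 * x ^ 3 := by ring
        _ ≤ (ph 5 x * ph 10 x) * (ph 7 x * ph 14 x) * (ph 9 x * ph 18 x) * ph 8 x * ph 12 x :=
          mul5 (by positivity) (by positivity) (by positivity) (by positivity) (by positivity) e1 e2 e3 e4 e5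
        _ = _ := by ring
    have h4 : (2 * a) ^ 4 ≤ (3 * x ^ 6) ^ 4 := pow_le_pow_left₀ (by omega) (by linarith) 4
    have h5 : (3 : ℤ) ^ 15 ≤ x ^ 15 := pow_le_pow_left₀ (by norm_num) hx3 15
    have h6 : (0 : ℤ) < x ^ 24 := by positivity
    have h7 : (3 : ℤ) ^ 15 * x ^ 24 ≤ x ^ 39 := by
      calc (3 : ℤ) ^ 15 * x ^ 24 ≤ x ^ 15 * x ^ 24 := Int.mul_le_mul_of_nonneg_right h5 h6.le
        _ = x ^ 39 := by ring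
    nlinarith

theorem num8 {x a W : ℤ} (hx : 2 ≤ x) (ha : 0 < a) (hW : 0 < W) (hWa : W ≤ 4300 * a ^ 4) (hax : a ≤ 2 * x ^ 8)
    (h7 : ph 7 x ∣ W) (h9 : ph 9 x ∣ W) (h14 : ph 14 x ∣ W) (h15 : ph 15 x ∣ W) (h18 : ph 18 x ∣ W)
    (h20 : ph 20 x ∣ W) (h24 : ph 24 x ∣ W) (h30 : ph 30 x ∣ W) : False := by
  have h1 := Int.le_of_dvd hW (prod8 h7 h9 h14 h15 h18 h20 h24 h30)
  have h0 : 0 ≤ x := by omega
  have e2 : x ^ 12 ≤ ph 7 x * ph 14 x := by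
    have : ph 7 x * ph 14 x = x ^ 12 + (x ^ 10 + x ^ 8 + x ^ 6 + x ^ 4 + x ^ 2 + 1) := by simp only [ph]; ring
    rw [this]; linarith [show 0 ≤ x ^ 10 + x ^ 8 + x ^ 6 + x ^ 4 + x ^ 2 + 1 by positivity]
  have e3 : x ^ 12 ≤ ph 9 x * ph 18 x := by
    have : ph 9 x * ph 18 x = x ^ 12 + (x ^ 6 + 1) := by simp only [ph]; ring
    rw [this]; linarith [show 0 ≤ x ^ 6 + 1 by positivity]
  have h3 : 0 ≤ x * (x - 1) - 1 := by nlinarith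
  have h3' : 0 ≤ x - 1 := by omega
  have e4 : x ^ 15 ≤ ph 15 x * ph 30 x := by
    have : ph 15 x * ph 30 x = x ^ 15 + (x ^ 14 * (x * (x - 1) - 1) + x ^ 8 * (x ^ 2 - 1) + x ^ 2 * (x ^ 4 - 1) + 1) := by
      simp only [ph]; ring
    have h4 : 0 ≤ x ^ 2 - 1 := by nlinarith
    have h5 : 0 ≤ x ^ 4 - 1 := by nlinarith
    rw [this]; linarith [show 0 ≤ x ^ 14 * (x * (x - 1) - 1) + x ^ 8 * (x ^ 2 - 1) + x ^ 2 * (x ^ 4 - 1) + 1 by positivity]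
  have e5 : x ^ 7 ≤ ph 20 x := by
    have : ph 20 x = x ^ 7 + (x ^ 6 * (x * (x - 1) - 1) + x ^ 2 * (x ^ 2 - 1) + 1) := by simp only [ph]; ring
    have h4 : 0 ≤ x ^ 2 - 1 := by nlinarith
    rw [this]; linarith [show 0 ≤ x ^ 6 * (x * (x - 1) - 1) + x ^ 2 * (x ^ 2 - 1) + 1 by positivity]
  have e6 : x ^ 7 ≤ ph 24 x := by
    have : ph 24 x = x ^ 7 + (x ^ 4 * (x ^ 3 * (x - 1) - 1) + 1) := by simp only [ph]; ring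
    have h4 : 0 ≤ x ^ 3 * (x - 1) - 1 := by
      have h5 : (8 : ℤ) ≤ x ^ 3 := by
        calc (8 : ℤ) = 2 ^ 3 := by norm_num
          _ ≤ x ^ 3 := pow_le_pow_left₀ (by norm_num) hx 3
      nlinarith
    rw [this]; linarith [show 0 ≤ x ^ 4 * (x ^ 3 * (x - 1) - 1) + 1 by positivity]
  have h4 : x ^ 53 ≤ ph 7 x * ph 9 x * ph 14 x * ph 15 x * ph 18 x * ph 20 x * ph 24 x * ph 30 x := by
    calc x ^ 53 = x ^ 12 * x ^ 12 * x ^ 15 * x ^ 7 * x ^ 7 := by ring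
      _ ≤ (ph 7 x * ph 14 x) * (ph 9 x * ph 18 x) * (ph 15 x * ph 30 x) * ph 20 x * ph 24 x :=
        mul5 (by positivity) (by positivity) (by positivity) (by positivity) (by positivity) e2 e3 e4 e5 e6
      _ = _ := by ring
  have h5 : a ^ 4 ≤ (2 * x ^ 8) ^ 4 := pow_le_pow_left₀ ha.le hax 4
  have h6 : (2 : ℤ) ^ 21 ≤ x ^ 21 := pow_le_pow_left₀ (by norm_num) hx 21
  have h7 : (0 : ℤ) < x ^ 32 := by positivity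
  have h8 : (2 : ℤ) ^ 21 * x ^ 32 ≤ x ^ 53 := by
    calc (2 : ℤ) ^ 21 * x ^ 32 ≤ x ^ 21 * x ^ 32 := Int.mul_le_mul_of_nonneg_right h6 h7.le
      _ = x ^ 53 := by ring
  nlinarith

end Cfsg.Agent.H75.M5h
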