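import Cfsg.Agent.H75.M5hSpec

/-!
# Numbers for `E₆(v)`, `²E₆(v)` in BLOCK 6 (helper75, task 2625)

`x = v` for `E₆(v)`, `x = -v` for `²E₆(v)`.

* `p3`, `p5`, `p8`, `p9`, `p12`, `tx` : values of (products of) cyclotomic polynomials at `x`;
* `prod_a`, `prod_b` : their product divides a small multiple of a common multiple;
* `num6` : the contradiction.
-/

set_option autoImplicit false
set_option linter.unusedVariables false
set_option linter.unusedSimpArgs false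

namespace Cfsg.Agent.H75.M5h

open Cfsg.Agent.H376.Six

def p3 (x : ℤ) : ℤ := x ^ 2 + x + 1
def p5 (x : ℤ) : ℤ := x ^ 4 + x ^ 3 + x ^ 2 + x + 1
def p8 (x : ℤ) : ℤ := x ^ 4 + 1
def p9 (x : ℤ) : ℤ := x ^ 6 + x ^ 3 + 1
def p12 (x : ℤ) : ℤ := x ^ 4 - x ^ 2 + 1
def tx (x : ℤ) : ℤ := (x ^ 4 - 1) * (x ^ 2 - x + 1)

theorem s8 (x : ℤ) : ∃ a b : ℤ, a * (tx x) + b * p8 x = 2 :=
  ⟨x^3 + x^2 - 1,
    -x^5 + x + 1, by
      simp only [tx, p3, p5, p8, p9, p12]; ring⟩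

theorem s5 (x : ℤ) : ∃ a b : ℤ, a * (tx x * p8 x) + b * p5 x = 5 :=
  ⟨-2*x^3 - 4*x^2 - 6*x - 3,
    2*x^9 + 2*x^7 - 3*x^6 + 2*x^5 + 2*x^4 - 3*x^3 + 2*x^2 - 5*x + 2, by
      simp only [tx, p3, p5, p8, p9, p12]; ring⟩

theorem s12 (x : ℤ) : ∃ a b : ℤ, a * (tx x * p8 x * p5 x) + b * p12 x = 6 :=
  ⟨-x^3 + 3*x^2 - x,
    x^13 - 3*x^12 + 3*x^11 - 5*x^10 + x^9 - 4*x^8 - 2*x^6 - x^5 + 5*x^4 - 3*x^3 + 9*x^2 - x + 6, by
      simp only [tx, p3, p5, p8, p9, p12]; ring⟩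

theorem s3 (x : ℤ) : ∃ a b : ℤ, a * (tx x * p8 x * p5 x * p12 x) + b * p3 x = 12 :=
  ⟨2*x + 1,
    -2*x^17 + x^16 + x^15 - 4*x^14 + 5*x^12 - 6*x^11 - 2*x^10 + 9*x^9 - 6*x^8 - 5*x^7 + 12*x^6 - 4*x^5 - 9*x^4 + 14*x^3 - 2*x^2 - 11*x + 13, by
      simp only [tx, p3, p5, p8, p9, p12]; ring⟩

theorem s9 (x : ℤ) : ∃ a b : ℤ, a * (tx x * p8 x * p5 x * p12 x * p3 x) + b * p9 x = 3 :=
  ⟨-x^5 + x^2,
    x^19 + x^18 + x^17 - x^16 - x^14 - 2*x^12 + x^9 - x^7 - x^5 + x^4 - 2*x^3 + x^2 + 3, by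
      simp only [tx, p3, p5, p8, p9, p12]; ring⟩


theorem bez_mul {X Y N g : ℤ} (h : ∃ a b : ℤ, a * X + b * Y = g) (hX : X ∣ N) (hY : Y ∣ N) : X * Y ∣ g * N := by
  obtain ⟨a, b, h⟩ := h
  obtain ⟨m, hm⟩ := hX
  obtain ⟨n, hn⟩ := hY
  refine ⟨a * n + b * m, ?_⟩
  calc g * N = a * X * N + b * Y * N := by rw [← h]; ring
    _ = a * X * (Y * n) + b * Y * (X * m) := by
      nth_rewrite 1 [hn]; rw [hm]
    _ = _ := by ring

theorem bez_red {X Y g h : ℤ} (h1 : ∃ a b : ℤ, a * X + b * Y = g * h) (hY : ∃ c, Y = h * c + 1) :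
    ∃ a b : ℤ, a * X + b * Y = g := by
  obtain ⟨a, b, h1⟩ := h1
  obtain ⟨c, hc⟩ := hY
  refine ⟨-(c * a), g - c * b, ?_⟩
  linear_combination -c * h1 + g * hc

theorem six_dvd (x : ℤ) : ∃ c, x * (x ^ 2 - 1) = 6 * c := by
  have h2 : (2 : ℤ) ∣ x * (x ^ 2 - 1) := by
    rw [Int.dvd_iff_emod_eq_zero]
    have : x % 2 = 0 ∨ x % 2 = 1 := by omega
    rcases this with h | h <;> simp [Int.mul_emod, Int.sub_emod, pow_two, h]
  have h3 : (3 : ℤ) ∣ x * (x ^ 2 - 1) := by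
    rw [Int.dvd_iff_emod_eq_zero]
    have : x % 3 = 0 ∨ x % 3 = 1 ∨ x % 3 = 2 := by omega
    rcases this with h | h | h <;> simp [Int.mul_emod, Int.sub_emod, pow_two, h]
  have h6 : (6 : ℤ) ∣ x * (x ^ 2 - 1) := by omega
  exact h6

theorem p12_six (x : ℤ) : ∃ c, p12 x = 6 * c + 1 := by
  obtain ⟨c, hc⟩ := six_dvd x
  exact ⟨x * c, by simp only [p12]; linear_combination x * hc⟩

theorem p3_two (x : ℤ) : ∃ c, p3 x = 4 * c + 1 ∨ p3 x = 4 * c + 3 := by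
  have h : p3 x % 2 = 1 := by
    simp only [p3]
    have : x % 2 = 0 ∨ x % 2 = 1 := by omega
    rcases this with h | h <;> simp [Int.add_emod, pow_two, Int.mul_emod, h]
  rcases (show p3 x % 4 = 1 ∨ p3 x % 4 = 3 by omega) with h1 | h1
  · exact ⟨p3 x / 4, Or.inl (by omega)⟩
  · exact ⟨p3 x / 4, Or.inr (by omega)⟩

theorem bez_unit {X Y g h : ℤ} (h1 : ∃ a b : ℤ, a * X + b * Y = g * h) (hY : IsCoprime Y h) :
    ∃ a b : ℤ, a * X + b * Y = g := by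
  obtain ⟨a, b, h1⟩ := h1
  obtain ⟨s, t, hst⟩ := hY
  refine ⟨t * a, g * s + t * b, ?_⟩
  linear_combination t * h1 + g * hst

theorem p3_cop_four (x : ℤ) : IsCoprime (p3 x) 4 := by
  obtain ⟨c, hc⟩ := half x
  have h1 : p3 x = 2 * c + 1 := by simp only [p3]; linear_combination hc
  have h2 : IsCoprime (p3 x) 2 := ⟨1, -c, by rw [h1]; ring⟩
  have h3 := h2.mul_right h2
  norm_num at h3
  exact h3

theorem cop_three {x : ℤ} (h : ¬ (3 : ℤ) ∣ x - 1) : IsCoprime (p3 x) 3 ∧ IsCoprime (p9 x) 3 := by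
  have h1 : x % 3 = 0 ∨ x % 3 = 2 := by omega
  have h3 : p3 x % 3 = 1 := by
    simp only [p3]
    rcases h1 with h | h <;> simp [Int.add_emod, pow_two, Int.mul_emod, h]
  have h9 : p9 x % 3 = 1 := by
    have : p9 x = x * x * (x * x) * (x * x) + x * x * x + 1 := by simp only [p9]; ring
    rw [this]
    rcases h1 with h | h <;> simp [Int.add_emod, Int.mul_emod, h]
  exact ⟨⟨1, -(p3 x / 3), by omega⟩, ⟨1, -(p9 x / 3), by omega⟩⟩

/-- the product divides `10 N` -/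
theorem prod_a {x N : ℤ} (h : ¬ (3 : ℤ) ∣ x - 1) (ht : tx x ∣ N) (h8 : p8 x ∣ N) (h5 : p5 x ∣ N) (h12 : p12 x ∣ N)
    (h3 : p3 x ∣ N) (h9 : p9 x ∣ N) : tx x * p8 x * p5 x * p12 x * p3 x * p9 x ∣ 10 * N := by
  obtain ⟨k3, k9⟩ := cop_three h
  have e1 := bez_mul (s8 x) ht h8
  have e2 := bez_mul (s5 x) e1 (h5.mul_left 2)
  rw [← mul_assoc] at e2
  norm_num at e2
  have e3 := bez_mul (bez_red (g := 1) (h := 6) (by simpa using s12 x) (p12_six x)) e2 (h12.mul_left 10)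
  rw [one_mul] at e3
  have e4 := bez_mul (bez_unit (g := 1) (h := 12) (by simpa using s3 x) (by
    have := (p3_cop_four x).mul_right k3
    norm_num at this
    exact this)) e3 (h3.mul_left 10)
  rw [one_mul] at e4
  have e5 := bez_mul (bez_unit (g := 1) (h := 3) (by simpa using s9 x) k9) e4 (h9.mul_left 10)
  rwa [one_mul] at e5

/-- the product divides `90 N` -/
theorem prod_b {x N : ℤ} (ht : tx x ∣ N) (h8 : p8 x ∣ N) (h5 : p5 x ∣ N) (h12 : p12 x ∣ N)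
    (h3 : p3 x ∣ N) (h9 : p9 x ∣ N) : tx x * p8 x * p5 x * p12 x * p3 x * p9 x ∣ 90 * N := by
  have e1 := bez_mul (s8 x) ht h8
  have e2 := bez_mul (s5 x) e1 (h5.mul_left 2)
  rw [← mul_assoc] at e2
  norm_num at e2
  have e3 := bez_mul (bez_red (g := 1) (h := 6) (by simpa using s12 x) (p12_six x)) e2 (h12.mul_left 10)
  rw [one_mul] at e3
  have e4 := bez_mul (bez_unit (g := 3) (h := 4) (by simpa using s3 x) (p3_cop_four x)) e3 (h3.mul_left 10)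
  rw [← mul_assoc] at e4
  norm_num at e4
  have e5 := bez_mul (s9 x) e4 (h9.mul_left 30)
  rw [← mul_assoc] at e5
  norm_num at e5
  exact e5

/-! ### size -/

section Size

variable {x v : ℤ} (hxv : x = v ∨ x = -v)

include hxv

theorem lo_t3 (hv : 2 ≤ v) : v ^ 8 ≤ tx x * p3 x := by
  have : tx x * p3 x = v ^ 8 + (v ^ 2 * (v ^ 4 - 1) - 1) := by
    rcases hxv with rfl | rfl <;> (simp only [tx, p3]; ring)
  rw [this]
  have h4 : 2 ^ 4 ≤ v ^ 4 := pow_le_pow_left₀ (by norm_num) hv 4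
  have h2 : 2 ^ 2 ≤ v ^ 2 := pow_le_pow_left₀ (by norm_num) hv 2
  nlinarith

theorem lo_5 (hv : 2 ≤ v) : v ^ 3 * (v - 1) ≤ p5 x := by
  have h0 : 0 ≤ v := by omega
  rcases hxv with rfl | rfl
  · have : p5 x = x ^ 3 * (x - 1) + (2 * x ^ 3 + x ^ 2 + x + 1) := by simp only [p5]; ring
    rw [this]; linarith [show 0 ≤ 2 * x ^ 3 + x ^ 2 + x + 1 by positivity]
  · have : p5 (-v) = v ^ 3 * (v - 1) + (v * (v - 1) + 1) := by simp only [p5]; ring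
    have h1 : 0 ≤ v - 1 := by omega
    rw [this]; linarith [show 0 ≤ v * (v - 1) + 1 by positivity]

theorem eq_8 : p8 x = v ^ 4 + 1 := by
  rcases hxv with rfl | rfl <;> (simp only [p8]; try ring)

theorem lo_12 : v ^ 2 * (v ^ 2 - 1) ≤ p12 x := by
  have : p12 x = v ^ 2 * (v ^ 2 - 1) + 1 := by rcases hxv with rfl | rfl <;> (simp only [p12]; ring)
  omega

theorem up_9 (hv : 2 ≤ v) : p9 x ≤ v ^ 3 * (v ^ 3 + 2) := by
  have h3 : 2 ^ 3 ≤ v ^ 3 := pow_le_pow_left₀ (by norm_num) hv 3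
  rcases hxv with rfl | rfl
  · have : p9 x = x ^ 3 * (x ^ 3 + 2) - (x ^ 3 - 1) := by simp only [p9]; ring
    omega
  · have : p9 (-v) = v ^ 3 * (v ^ 3 + 2) - (3 * v ^ 3 - 1) := by simp only [p9]; ring
    omega

theorem lo_9 (hv : 2 ≤ v) : v ^ 3 * (v ^ 3 - 1) ≤ p9 x := by
  have h3 : 2 ^ 3 ≤ v ^ 3 := pow_le_pow_left₀ (by norm_num) hv 3
  rcases hxv with rfl | rfl
  · have : p9 x = x ^ 3 * (x ^ 3 - 1) + (2 * x ^ 3 + 1) := by simp only [p9]; ring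
    omega
  · have : p9 (-v) = v ^ 3 * (v ^ 3 - 1) + 1 := by simp only [p9]; ring
    omega

theorem big9 (hv : 148 ≤ v) : 21500 * p9 x ^ 4 < tx x * p8 x * p5 x * p12 x * p3 x * p9 x := by
  have hv2 : 2 ≤ v := by omega
  have h0 : 0 < v := by omega
  have h1 : 0 ≤ v - 1 := by omega
  have h2 : 21904 ≤ v ^ 2 := by nlinarith
  have h2' : 0 ≤ v ^ 2 - 1 := by omega
  have h3 : 3241792 ≤ v ^ 3 := by
    calc (3241792 : ℤ) = 148 ^ 3 := by norm_num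
      _ ≤ v ^ 3 := pow_le_pow_left₀ (by norm_num) hv 3
  have e1 := lo_t3 hxv hv2
  have e2 := lo_5 hxv hv2
  have e3 : v ^ 4 ≤ p8 x := by rw [eq_8 hxv]; omega
  have e4 := lo_12 hxv
  have e5 := up_9 hxv hv2
  have e6 : 0 < p9 x := lt_of_lt_of_le (by nlinarith) (lo_9 hxv hv2)
  have f1 : v ^ 17 * ((v - 1) * (v ^ 2 - 1)) ≤ tx x * p3 x * p5 x * p8 x * p12 x := by
    have := mul5 (a := v ^ 8) (b := v ^ 3 * (v - 1)) (c := v ^ 4) (d := v ^ 2 * (v ^ 2 - 1)) (e := 1)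
      (by positivity) (by positivity) (by positivity) (by positivity) (by norm_num) e1 e2 e3 e4 (le_refl 1)
    calc v ^ 17 * ((v - 1) * (v ^ 2 - 1)) = v ^ 8 * (v ^ 3 * (v - 1)) * v ^ 4 * (v ^ 2 * (v ^ 2 - 1)) * 1 := by ring
      _ ≤ _ := this
      _ = _ := by ring
  have f2 : p9 x ^ 3 ≤ (v ^ 3 * (v ^ 3 + 2)) ^ 3 := pow_le_pow_left₀ e6.le e5 3
  have f3 : (1000000 * (v ^ 3 + 2)) ^ 3 ≤ (1000001 * v ^ 3) ^ 3 :=
    pow_le_pow_left₀ (by positivity) (by omega) 3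
  have f4 : v * (147 * 21903) ≤ 148 * ((v - 1) * (v ^ 2 - 1)) := by
    have : 147 * v * 21903 ≤ 148 * (v - 1) * (v ^ 2 - 1) :=
      mul_le_mul (by omega) (by omega) (by norm_num) (by omega)
    linarith
  have f5 : (0 : ℤ) < v ^ 9 := by positivity
  have f6 : 21500 * (v ^ 3 + 2) ^ 3 < v ^ 8 * ((v - 1) * (v ^ 2 - 1)) := by
    have g1 : v ^ 8 * (v * (147 * 21903)) ≤ v ^ 8 * (148 * ((v - 1) * (v ^ 2 - 1))) :=
      mul_le_mul_of_nonneg_left f4 (by positivity)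
    have g2 : v ^ 8 * (v * (147 * 21903)) = 3219741 * v ^ 9 := by ring
    have g3 : (1000000 * (v ^ 3 + 2)) ^ 3 = 1000000000000000000 * (v ^ 3 + 2) ^ 3 := by ring
    have g4 : (1000001 * v ^ 3) ^ 3 = 1000003000003000001 * v ^ 9 := by ring
    have g5 : v ^ 8 * (148 * ((v - 1) * (v ^ 2 - 1))) = 148 * (v ^ 8 * ((v - 1) * (v ^ 2 - 1))) := by ring
    rw [g3, g4] at f3
    rw [g2, g5] at g1
    omega
  have f7 : 21500 * p9 x ^ 3 < tx x * p3 x * p5 x * p8 x * p12 x := by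
    calc 21500 * p9 x ^ 3 ≤ 21500 * (v ^ 3 * (v ^ 3 + 2)) ^ 3 := by omega
      _ = v ^ 9 * (21500 * (v ^ 3 + 2) ^ 3) := by ring
      _ < v ^ 9 * (v ^ 8 * ((v - 1) * (v ^ 2 - 1))) := (mul_lt_mul_iff_right₀ f5).2 f6
      _ = v ^ 17 * ((v - 1) * (v ^ 2 - 1)) := by ring
      _ ≤ _ := f1
  calc 21500 * p9 x ^ 4 = p9 x * (21500 * p9 x ^ 3) := by ring
    _ < p9 x * (tx x * p3 x * p5 x * p8 x * p12 x) := (mul_lt_mul_iff_right₀ e6).2 f7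
    _ = _ := by ring

theorem big8 (hv : 5 ≤ v) : 580500 * p8 x ^ 4 < tx x * p8 x * p5 x * p12 x * p3 x * p9 x := by
  have hv2 : 2 ≤ v := by omega
  have h0 : 0 < v := by omega
  have h1 : 0 ≤ v - 1 := by omega
  have h2 : 25 ≤ v ^ 2 := by nlinarith
  have h2' : 0 ≤ v ^ 2 - 1 := by omega
  have h3 : 125 ≤ v ^ 3 := by
    calc (125 : ℤ) = 5 ^ 3 := by norm_num
      _ ≤ v ^ 3 := pow_le_pow_left₀ (by norm_num) hv 3
  have h3' : 0 ≤ v ^ 3 - 1 := by omega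
  have h4 : 625 ≤ v ^ 4 := by
    calc (625 : ℤ) = 5 ^ 4 := by norm_num
      _ ≤ v ^ 4 := pow_le_pow_left₀ (by norm_num) hv 4
  have h10 : 9765625 ≤ v ^ 10 := by
    calc (9765625 : ℤ) = 5 ^ 10 := by norm_num
      _ ≤ v ^ 10 := pow_le_pow_left₀ (by norm_num) hv 10
  have e1 := lo_t3 hxv hv2
  have e2 := lo_5 hxv hv2
  have e4 := lo_12 hxv
  have e5 := lo_9 hxv hv2
  have e6 : p8 x = v ^ 4 + 1 := eq_8 hxv
  have f1 : v ^ 16 * ((v - 1) * (v ^ 2 - 1) * (v ^ 3 - 1)) ≤ tx x * p3 x * p5 x * p12 x * p9 x := by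
    have := mul5 (a := v ^ 8) (b := v ^ 3 * (v - 1)) (c := v ^ 2 * (v ^ 2 - 1)) (d := v ^ 3 * (v ^ 3 - 1)) (e := 1)
      (by positivity) (by positivity) (by positivity) (by positivity) (by norm_num) e1 e2 e4 e5 (le_refl 1)
    calc v ^ 16 * ((v - 1) * (v ^ 2 - 1) * (v ^ 3 - 1)) =
          v ^ 8 * (v ^ 3 * (v - 1)) * (v ^ 2 * (v ^ 2 - 1)) * (v ^ 3 * (v ^ 3 - 1)) * 1 := by ring
      _ ≤ _ := this
      _ = _ := by ring
  have f2 : 11904 * v ^ 6 ≤ 15625 * ((v - 1) * (v ^ 2 - 1) * (v ^ 3 - 1)) := by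
    have g1 : 4 * v * (24 * v ^ 2) ≤ 5 * (v - 1) * (25 * (v ^ 2 - 1)) :=
      mul_le_mul (by omega) (by omega) (by positivity) (by omega)
    have g2 : 4 * v * (24 * v ^ 2) * (124 * v ^ 3) ≤ 5 * (v - 1) * (25 * (v ^ 2 - 1)) * (125 * (v ^ 3 - 1)) :=
      mul_le_mul g1 (by omega) (by positivity) (by positivity)
    calc 11904 * v ^ 6 = 4 * v * (24 * v ^ 2) * (124 * v ^ 3) := by ring
      _ ≤ _ := g2
      _ = _ := by ring
  have f3 : (625 * (v ^ 4 + 1)) ^ 3 ≤ (626 * v ^ 4) ^ 3 := pow_le_pow_left₀ (by positivity) (by omega) 3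
  have f4 : 580500 * (v ^ 4 + 1) ^ 3 < v ^ 16 * ((v - 1) * (v ^ 2 - 1) * (v ^ 3 - 1)) := by
    have g0 : (0 : ℤ) < v ^ 12 := by positivity
    have g1 : v ^ 16 * (11904 * v ^ 6) ≤ v ^ 16 * (15625 * ((v - 1) * (v ^ 2 - 1) * (v ^ 3 - 1))) :=
      mul_le_mul_of_nonneg_left f2 (by positivity)
    have g2 : 9765625 * v ^ 12 ≤ v ^ 10 * v ^ 12 := mul_le_mul_of_nonneg_right h10 g0.le
    have g3 : v ^ 16 * (11904 * v ^ 6) = 11904 * (v ^ 10 * v ^ 12) := by ring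
    have g4 : v ^ 16 * (15625 * ((v - 1) * (v ^ 2 - 1) * (v ^ 3 - 1))) =
      15625 * (v ^ 16 * ((v - 1) * (v ^ 2 - 1) * (v ^ 3 - 1))) := by ring
    have g5 : (625 * (v ^ 4 + 1)) ^ 3 = 244140625 * (v ^ 4 + 1) ^ 3 := by ring
    have g6 : (626 * v ^ 4) ^ 3 = 245314376 * v ^ 12 := by ring
    rw [g5, g6] at f3
    rw [g3, g4] at g1
    omega
  have e7 : 0 < p8 x := by rw [e6]; omega
  calc 580500 * p8 x ^ 4 = p8 x * (580500 * (v ^ 4 + 1) ^ 3) := by rw [e6]; ring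
    _ < p8 x * (v ^ 16 * ((v - 1) * (v ^ 2 - 1) * (v ^ 3 - 1))) := (mul_lt_mul_iff_right₀ e7).2 f4
    _ ≤ p8 x * (tx x * p3 x * p5 x * p12 x * p9 x) := mul_le_mul_of_nonneg_left f1 e7.le
    _ = _ := by ring

end Size

/-! ### small values -/

theorem small9_aux : ∀ v ∈ List.range 148, ∀ m ∈ List.range 10, v < 2 ∨ m < 1 ∨ v % 5 = 0 ∨
    ((v ^ 6 + v ^ 3 + 1) % am (5 ^ m) ≠ 0 ∧ (v ^ 6 - v ^ 3 + 1) % am (5 ^ m) ≠ 0) := by
  decide +kernel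

theorem small9 {v m : ℕ} (hv : v < 148) (hm : m < 10) (hv2 : 2 ≤ v) (hm1 : 1 ≤ m) (h5 : ¬ 5 ∣ v) :
    ¬ am (5 ^ m) ∣ v ^ 6 + v ^ 3 + 1 ∧ ¬ am (5 ^ m) ∣ v ^ 6 - v ^ 3 + 1 := by
  rcases small9_aux v (List.mem_range.2 hv) m (List.mem_range.2 hm) with h | h | h | ⟨h, h'⟩
  · omega
  · omega
  · exact absurd (Nat.dvd_of_mod_eq_zero h) h5
  · exact ⟨fun hd => h (Nat.mod_eq_zero_of_dvd hd), fun hd => h' (Nat.mod_eq_zero_of_dvd hd)⟩

theorem small8_aux : ∀ v ∈ List.range 5, ∀ m ∈ List.range 3, v < 2 ∨ m < 1 ∨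
    ((v ^ 4 + 1) % am (5 ^ m) ≠ 0 ∧ (v ^ 4 - v ^ 2 + 1) % am (5 ^ m) ≠ 0) := by
  decide +kernel

theorem small8 {v m : ℕ} (hv : v < 5) (hm : m < 3) (hv2 : 2 ≤ v) (hm1 : 1 ≤ m) :
    ¬ am (5 ^ m) ∣ v ^ 4 + 1 ∧ ¬ am (5 ^ m) ∣ v ^ 4 - v ^ 2 + 1 := by
  rcases small8_aux v (List.mem_range.2 hv) m (List.mem_range.2 hm) with h | h | ⟨h, h'⟩
  · omega
  · omega
  · exact ⟨fun hd => h (Nat.mod_eq_zero_of_dvd hd), fun hd => h' (Nat.mod_eq_zero_of_dvd hd)⟩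

theorem am_big {m k : ℕ} (hk : k ≤ m) (hk1 : 1 ≤ k) : 5 ^ (2 * k) ≤ 4 * am (5 ^ m) := by
  have h1 : 5 ^ k ≤ 5 ^ m := Nat.pow_le_pow_right (by norm_num) hk
  have h5 : 5 ≤ 5 ^ k := by
    calc 5 = 5 ^ 1 := by norm_num
      _ ≤ 5 ^ k := Nat.pow_le_pow_right (by norm_num) hk1
  have h2 := three_am (q := 5 ^ m) (by omega)
  rw [pow_mul', pow_two]
  generalize 5 ^ m = q at *
  generalize 5 ^ k = s at *
  have h3 : 5 * q ≤ q ^ 2 := by nlinarith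
  have h4 : s * s ≤ q ^ 2 := by nlinarith
  omega

theorem p9_cast_pos {v : ℕ} (hv : 2 ≤ v) {x : ℤ} (hxv : x = v ∨ x = -v) {a : ℕ} (h : (a : ℤ) ∣ p9 x) :
    a ∣ v ^ 6 + v ^ 3 + 1 ∨ a ∣ v ^ 6 - v ^ 3 + 1 := by
  have h1 : v ^ 3 ≤ v ^ 6 := Nat.pow_le_pow_right (by omega) (by norm_num)
  rcases hxv with rfl | rfl
  · left
    rw [← Int.natCast_dvd_natCast]
    push_cast
    exact h
  · right
    rw [← Int.natCast_dvd_natCast]
    push_cast [Nat.cast_sub h1]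
    have : p9 (-(v : ℤ)) = (v : ℤ) ^ 6 - v ^ 3 + 1 := by simp only [p9]; ring
    rwa [this] at h

theorem num6 {v m : ℕ} (hm : 1 ≤ m) (hv : 2 ≤ v) (hv5 : ¬ 5 ∣ v) {x M : ℤ} (hxv : x = v ∨ x = -v) (hM : 0 < M)
    (hMa : 2 * M ≤ 4300 * (am (5 ^ m) : ℤ) ^ 4)
    (hcls : ((am (5 ^ m) : ℤ) ∣ p8 x ∨ (am (5 ^ m) : ℤ) ∣ p12 x) ∨ (am (5 ^ m) : ℤ) ∣ p9 x)
    (h8 : p8 x ∣ M) (h5 : p5 x ∣ M) (h12 : p12 x ∣ M)
    (h369 : ((¬ (3 : ℤ) ∣ x - 1) ∧ tx x ∣ M ∧ p3 x ∣ M ∧ p9 x ∣ M) ∨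
      ((3 : ℤ) ∣ x - 1 ∧ tx x ∣ 3 * M ∧ p3 x ∣ 3 * M ∧ p9 x ∣ 3 * M)) : False := by
  have hq5 : 5 ≤ 5 ^ m := by
    calc 5 = 5 ^ 1 := by norm_num
      _ ≤ 5 ^ m := Nat.pow_le_pow_right (by norm_num) hm
  have ha0 : 0 < am (5 ^ m) := am_pos (by omega)
  have ha3 : ¬ 3 ∣ am (5 ^ m) := (am_spec (by omega)).2
  have hvz : (2 : ℤ) ≤ v := by exact_mod_cast hv
  obtain ⟨P, hP⟩ : ∃ P, P = tx x * p8 x * p5 x * p12 x * p3 x * p9 x := ⟨_, rfl⟩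
  have key : ((¬ (3 : ℤ) ∣ x - 1) ∧ P ≤ 10 * M) ∨ ((3 : ℤ) ∣ x - 1 ∧ P ≤ 270 * M) := by
    rcases h369 with ⟨h, ht, h3, h9⟩ | ⟨h, ht, h3, h9⟩
    · left
      refine ⟨h, ?_⟩
      rw [hP]
      exact Int.le_of_dvd (by omega) (prod_a h ht h8 h5 h12 h3 h9)
    · right
      refine ⟨h, ?_⟩
      rw [hP]
      have := Int.le_of_dvd (by omega) (prod_b ht (h8.mul_left 3) (h5.mul_left 3) (h12.mul_left 3) h3 h9)
      linarith
  have hP270 : P ≤ 270 * M := by rcases key with ⟨-, h⟩ | ⟨-, h⟩ <;> omega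
  have az : (0 : ℤ) < am (5 ^ m) := by exact_mod_cast ha0
  rcases hcls with hcls | hcls
  · -- classes 8 and 12
    have hle : (am (5 ^ m) : ℤ) ≤ p8 x := by
      have e8 := eq_8 hxv
      rcases hcls with h | h
      · exact Int.le_of_dvd (by rw [e8]; positivity) h
      · have e12 : p12 x = (v : ℤ) ^ 2 * ((v : ℤ) ^ 2 - 1) + 1 := by
          rcases hxv with rfl | rfl <;> (simp only [p12]; ring)
        have h1 : (0 : ℤ) ≤ (v : ℤ) ^ 2 - 1 := by nlinarith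
        have h2 := Int.le_of_dvd (by rw [e12]; positivity) h
        rw [e12] at h2
        rw [e8]
        nlinarith
    rcases Nat.lt_or_ge v 5 with h5' | h5'
    · rcases Nat.lt_or_ge m 3 with h3 | h3
      · obtain ⟨k1, k2⟩ := small8 h5' h3 hv hm
        rcases hcls with h | h
        · apply k1
          rw [← Int.natCast_dvd_natCast]
          rw [eq_8 hxv] at h
          push_cast
          exact h
        · apply k2
          rw [← Int.natCast_dvd_natCast]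
          have e12 : p12 x = (v : ℤ) ^ 4 - (v : ℤ) ^ 2 + 1 := by
            rcases hxv with rfl | rfl <;> (simp only [p12]; try ring)
          have h1 : v ^ 2 ≤ v ^ 4 := Nat.pow_le_pow_right (by omega) (by norm_num)
          push_cast [Nat.cast_sub h1]
          rwa [e12] at h
      · have h1 := am_big h3 (by norm_num)
        rw [eq_8 hxv] at hle
        have h2 : v ^ 4 ≤ 4 ^ 4 := Nat.pow_le_pow_left (by omega) 4
        have h3 : ((am (5 ^ m) : ℕ) : ℤ) ≤ ((v ^ 4 + 1 : ℕ) : ℤ) := by push_cast; exact hle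
        have h4 := Int.ofNat_le.1 h3
        norm_num at h1
        omega
    · have h1 := big8 hxv (by exact_mod_cast h5' : (5 : ℤ) ≤ v)
      have h2 : (am (5 ^ m) : ℤ) ^ 4 ≤ p8 x ^ 4 := pow_le_pow_left₀ az.le hle 4
      rw [← hP] at h1
      linarith
  · -- class 9
    have h9pos : 0 < p9 x := lt_of_lt_of_le (by
      have : (2 : ℤ) ^ 3 ≤ (v : ℤ) ^ 3 := pow_le_pow_left₀ (by norm_num) hvz 3
      nlinarith) (lo_9 hxv hvz)
    have hle := Int.le_of_dvd h9pos hcls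
    rcases Nat.lt_or_ge v 148 with hs | hs
    · rcases Nat.lt_or_ge m 10 with h3 | h3
      · obtain ⟨k1, k2⟩ := small9 hs h3 hv hm hv5
        rcases p9_cast_pos hv hxv hcls with h | h
        · exact k1 h
        · exact k2 h
      · have h1 := am_big h3 (by norm_num)
        have h2 := hle.trans (up_9 hxv hvz)
        have h3 : ((am (5 ^ m) : ℕ) : ℤ) ≤ ((v ^ 3 * (v ^ 3 + 2) : ℕ) : ℤ) := by push_cast; exact h2
        have h4 := Int.ofNat_le.1 h3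
        have h5 : v ^ 3 ≤ 147 ^ 3 := Nat.pow_le_pow_left (by omega) 3
        have h6 : v ^ 3 * (v ^ 3 + 2) ≤ 147 ^ 3 * (147 ^ 3 + 2) := Nat.mul_le_mul h5 (by omega)
        norm_num at h1 h6
        omega
    · have h1 := big9 hxv (by exact_mod_cast hs : (148 : ℤ) ≤ v)
      rw [← hP] at h1
      rcases key with ⟨h, hk⟩ | ⟨h, hk⟩
      · have h2 : (am (5 ^ m) : ℤ) ^ 4 ≤ p9 x ^ 4 := pow_le_pow_left₀ az.le hle 4
        linarith
      · have h3 : (3 : ℤ) ∣ p9 x := by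
          obtain ⟨c, hc⟩ := h
          exact ⟨c * (x ^ 2 + x + 1) * (x ^ 3 + 2) + 1, by
            simp only [p9]; linear_combination (x ^ 2 + x + 1) * (x ^ 3 + 2) * hc⟩
        have h4 : IsCoprime (3 : ℤ) (am (5 ^ m) : ℤ) := by
          rw [show (3 : ℤ) = ((3 : ℕ) : ℤ) by norm_num]
          exact Nat.isCoprime_iff_coprime.2 ((Nat.Prime.coprime_iff_not_dvd Nat.prime_three).2 ha3)
        have h5 := Int.le_of_dvd h9pos (h4.mul_dvd h3 hcls)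
        have h6 : (3 * (am (5 ^ m) : ℤ)) ^ 4 ≤ p9 x ^ 4 := pow_le_pow_left₀ (by positivity) h5 4
        have h7 : (3 * (am (5 ^ m) : ℤ)) ^ 4 = 81 * (am (5 ^ m) : ℤ) ^ 4 := by ring
        rw [h7] at h6
        linarith

end Cfsg.Agent.H75.M5h
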