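import Cfsg.Agent.H75.M5hSix
import Cfsg.Agent.H75.M5hExc
import Cfsg.Agent.H77.E4ClsT
import Cfsg.Agent.H559.ConjE6

/-!
# `E₆(v)`, `²E₆(v)` in BLOCK 6, `q = 5 ^ m` (helper75, task 2625)

* `e6`, `te6_of` : `E5 q S → False` for `S = E₆(v)`, `²E₆(v)`, `v` not divisible by 5.
-/

set_option autoImplicit false
set_option linter.unusedVariables false
set_option linter.unreachableTactic false
set_option linter.unusedTactic false

namespace Cfsg.Agent.H75.M5h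

open CoxeterSystem Cfsg Cfsg.Lie Cfsg.Lie.ChevalleyDatum Cfsg.Agent.H376.Six
open Cfsg.Agent.ChevalleyStructure Cfsg.Agent.ChevalleyStructure.Elts Cfsg.Agent.ChevalleyStructure.CoxeterGeom
  Cfsg.Agent.ChevalleyStructure.CoxeterGeomTypes Cfsg.Agent.ChevalleyStructure.NPerm Cfsg.Agent.Nodes.RGDChev
open Cfsg.Agent.Tits.Roots Cfsg.Agent.Tits.Core
open Cfsg.Agent.BpExc.RowsUntw Cfsg.Agent.BpExc.FamInst Cfsg.Agent.BpExc.FamExt
open Cfsg.Agent.H77.E4Poly Cfsg.Agent.H77.E4Tor Cfsg.Agent.H378.ExcAdj Cfsg.Agent.H378.ExcNear Cfsg.Agent.H77.E4Cls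
open Cfsg.Agent.H493.PGCyc Cfsg.Agent.H493.PGTorus Cfsg.Agent.H129.WData Cfsg.Agent.H77.E4Cert
  Cfsg.Agent.H378.TwAdj Cfsg.Agent.H378.TwRows Cfsg.Agent.H77.E4ClsT

universe u

/-! ### general -/

/-- a common multiple of the element orders -/
theorem exists_M {q : ℕ} {S : Type*} [Group S] (h : E5 q S) : ∃ M : ℕ, 0 < M ∧
    2 * (M : ℤ) ≤ 4300 * (am q : ℤ) ^ 4 ∧ ∀ x : S, orderOf x ∣ M := by
  obtain ⟨hq, -, -⟩ := q_facts h
  obtain ⟨hW, hWa⟩ := W_facts hq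
  obtain ⟨M, hM⟩ := (dvd_W h 1)
  rw [orderOf_one, mul_one] at hM
  refine ⟨M, ?_, ?_, fun x => ?_⟩
  · have h1 : 0 < 25 * ((q ^ 6 - 1) * (q ^ 2 + 1)) := by exact_mod_cast hW
    omega
  · have h1 : ((25 * ((q ^ 6 - 1) * (q ^ 2 + 1)) : ℕ) : ℤ) = 2 * (M : ℤ) := by rw [hM]; push_cast; ring
    rw [← h1]
    exact hWa
  · have h1 := dvd_W h x
    rw [hM] at h1
    exact Nat.dvd_of_mul_dvd_mul_left two_pos h1

theorem not_al2 {S : Type*} [Group S] {p n N M t d : ℕ} (hp : p.Prime) (hn : 1 ≤ n) (hN : 4 ≤ N) (hd : 1 ≤ d)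
    (hpd : ¬ p ∣ d) (hc : d * Nat.card S = (p ^ n) ^ N * M) (hM : M ≤ (p ^ n) ^ N * t)
    (ht1 : 1 ≤ t) (ht : 4 * t ^ 3 ≤ (p ^ n) ^ N) : ¬ AL2 S := by
  intro hS
  rw [← pow_mul] at hc hM ht
  have hk : 4 ≤ n * N := by nlinarith
  by_cases hp2 : p = 2
  · subst hp2
    have h1 : 2 ^ (n * N) ∣ Nat.card S := by
      have h1 : Nat.Coprime (2 ^ (n * N)) d := Nat.Coprime.pow_left _ ((Nat.Prime.coprime_iff_not_dvd Nat.prime_two).2 hpd)
      exact h1.dvd_of_dvd_mul_left (by rw [hc]; exact dvd_mul_right _ _)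
    obtain ⟨M', hM'⟩ := h1
    have h2 : d * M' = M := by
      apply Nat.eq_of_mul_eq_mul_left (show 0 < 2 ^ (n * N) by positivity)
      rw [← hc, hM']
      ring
    refine no_al2_even hk hM' ?_ (le_trans ?_ ht) hS (t := t)
    · calc M' ≤ d * M' := Nat.le_mul_of_pos_left _ hd
        _ = M := h2
        _ ≤ _ := hM
    · have : t ≤ t ^ 3 := Nat.le_self_pow (by norm_num) _
      omega
  · exact H458.Six.no_al2 hp hp2 (by omega) hpd hd hc (hM.trans (Nat.mul_le_mul_right _ (by omega))) (by omega) hS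

theorem not_al2_E6 (F : Type u) [Field F] [Finite F] : ¬ AL2 ↥(chevE6.group F) := by
  have : Fintype F := Fintype.ofFinite F
  obtain ⟨p, hp⟩ := CharP.exists F
  obtain ⟨n, hpr, hn⟩ := FiniteField.card F p
  have hc := Cfsg.Agent.S1063.result (F := F) rfl
  have hn0 : 1 ≤ (n : ℕ) := n.pos
  have hv2 : 2 ≤ Fintype.card F := Fintype.one_lt_card
  have hpv : p ∣ Fintype.card F := by rw [hn]; exact dvd_pow_self p n.pos.ne'
  refine not_al2 (p := p) (n := n) (N := 36) (d := Nat.gcd 3 (Fintype.card F - 1)) (t := Fintype.card F ^ 6)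
    (M := (Fintype.card F ^ 2 - 1) * (Fintype.card F ^ 5 - 1) * (Fintype.card F ^ 6 - 1) * (Fintype.card F ^ 8 - 1) *
      (Fintype.card F ^ 9 - 1) * (Fintype.card F ^ 12 - 1)) hpr hn0 (by norm_num)
    (Nat.gcd_pos_of_pos_left _ (by norm_num)) ?_ ?_ ?_ (Nat.one_le_pow _ _ (by omega)) ?_
  · intro h1
    have h2 : p ∣ Fintype.card F - (Fintype.card F - 1) := Nat.dvd_sub hpv (h1.trans (Nat.gcd_dvd_right _ _))
    rw [Nat.sub_sub_self (by omega)] at h2
    exact hpr.one_lt.ne' (Nat.dvd_one.1 h2)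
  · rw [← hn, hc]; ring
  · rw [← hn]
    generalize Fintype.card F = v
    calc _ ≤ v ^ 2 * v ^ 5 * v ^ 6 * v ^ 8 * v ^ 9 * v ^ 12 := by
          gcongr <;> exact Nat.sub_le _ _
      _ = v ^ 36 * v ^ 6 := by ring
  · rw [← hn]
    generalize Fintype.card F = v at *
    calc 4 * (v ^ 6) ^ 3 = 2 ^ 2 * v ^ 18 := by ring
      _ ≤ v ^ 2 * v ^ 18 := Nat.mul_le_mul_right _ (Nat.pow_le_pow_left hv2 2)
      _ = v ^ 20 := by ring
      _ ≤ v ^ 36 := Nat.pow_le_pow_right (by omega) (by norm_num)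

theorem not_al2_2E6 {K : Type u} [Field K] [Fintype K] {v : ℕ} (hv : IsPrimePow v) (hK : Fintype.card K = v ^ 2) :
    ¬ AL2 ↥(twistedE6 K v) := by
  have hc := Cfsg.Agent.S1066.result hv hK
  have hv2 : 2 ≤ v := hv.two_le
  obtain ⟨p, n, hpr, hn0, hn⟩ := (isPrimePow_nat_iff v).1 hv
  have hpv : p ∣ v := by rw [← hn]; exact dvd_pow_self p (by omega)
  refine not_al2 (p := p) (n := n) (N := 36) (d := Nat.gcd 3 (v + 1)) (t := 4 * v ^ 6)
    (M := (v ^ 2 - 1) * (v ^ 5 + 1) * (v ^ 6 - 1) * (v ^ 8 - 1) * (v ^ 9 + 1) * (v ^ 12 - 1)) hpr hn0 (by norm_num)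
    (Nat.gcd_pos_of_pos_left _ (by norm_num)) ?_ ?_ ?_ (by have := Nat.one_le_pow 6 v (by omega); omega) ?_
  · intro h1
    have h2 : p ∣ v + 1 := h1.trans (Nat.gcd_dvd_right _ _)
    exact hpr.one_lt.ne' (Nat.dvd_one.1 ((Nat.dvd_add_right hpv).1 h2))
  · rw [hn, hc]; ring
  · rw [hn]
    calc _ ≤ v ^ 2 * (2 * v ^ 5) * v ^ 6 * v ^ 8 * (2 * v ^ 9) * v ^ 12 := by
          have e5 := Nat.one_le_pow 5 v (by omega)
          have e9 := Nat.one_le_pow 9 v (by omega)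
          gcongr
          · exact Nat.sub_le _ _
          · omega
          · exact Nat.sub_le _ _
          · exact Nat.sub_le _ _
          · omega
          · exact Nat.sub_le _ _
      _ = v ^ 36 * (4 * v ^ 6) := by ring
  · rw [hn]
    calc 4 * (4 * v ^ 6) ^ 3 = 2 ^ 8 * v ^ 18 := by ring
      _ ≤ v ^ 8 * v ^ 18 := Nat.mul_le_mul_right _ (Nat.pow_le_pow_left hv2 8)
      _ = v ^ 26 := by ring
      _ ≤ v ^ 36 := Nat.pow_le_pow_right (by omega) (by norm_num)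

/-! ### classes -/

theorem cls_E6 (F : Type u) [Field F] [Finite F] (x : ↥(chevE6.group F)) (hx : 1 < orderOf x)
    (h2 : ∀ r : ℕ, r.Prime → r ∣ orderOf x → r ≠ 2 ∧ ¬ H94.PG.Adj ↥(chevE6.group F) r 2) :
    ∃ m ∈ [8, 9, 12], orderOf x ∣ Pn m (Nat.card F) := by
  have : Fintype F := Fintype.ofFinite F
  have hc := Cfsg.Agent.S1063.result (F := F) rfl
  rw [← Nat.card_eq_fintype_card] at hc
  have h3 : 2 ≤ Nat.card F := Finite.one_lt_card
  refine cls_untw e6T [8, 9, 12] (by decide) (fun r hr hrd => ?_) (fun m hm B hall hB => ?_) x hx h2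
  · have := adj_E6 F hr hrd
    simpa using this
  · have hB := hB.mul_left (Nat.gcd 3 (Nat.card F - 1))
    rw [hc] at hB
    have hB' := Int.natCast_dvd_natCast.2 hB
    simp only [Nat.cast_mul, Nat.cast_pow, cast_pred (show 1 ≤ Nat.card F by omega)] at hB'
    simp only [List.mem_cons, List.not_mem_nil, or_false] at hm
    rcases hm with rfl | rfl | rfl
    · exact fin_dvd hall 8 36 [2, 5, 6, 9, 12] (by decide) (by decide) (by omega) (by decide) hB'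
        (by simp only [List.map_cons, List.map_nil, List.prod_cons, List.prod_nil]; ring)
    · exact fin_dvd hall 9 36 [2, 5, 6, 8, 12] (by decide) (by decide) (by omega) (by decide) hB'
        (by simp only [List.map_cons, List.map_nil, List.prod_cons, List.prod_nil]; ring)
    · exact fin_dvd hall 12 36 [2, 5, 6, 8, 9] (by decide) (by decide) (by omega) (by decide) hB'
        (by simp only [List.map_cons, List.map_nil, List.prod_cons, List.prod_nil]; ring)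

theorem od_of_c8 {q r : ℕ} (hr : r.Prime) (h2 : r ≠ 2) (h : (r : ℤ) ∣ pv c8 (q : ℤ)) : od q r = 8 := by
  have : Fact r.Prime := ⟨hr⟩
  rw [pv_c8] at h
  have h1 : ((q : ZMod r)) ^ 4 = -1 := by
    have h3 : (((q : ℤ) ^ 4 + 1 : ℤ) : ZMod r) = 0 := (ZMod.intCast_zmod_eq_zero_iff_dvd _ _).2 h
    push_cast at h3
    exact eq_neg_of_add_eq_zero_left h3
  rw [od, show 8 = 2 ^ (2 + 1) by norm_num]
  refine orderOf_eq_prime_pow ?_ ?_
  · show ¬ (q : ZMod r) ^ 2 ^ 2 = 1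
    rw [show 2 ^ 2 = 4 by norm_num, h1]
    intro h3
    have h4 : (2 : ZMod r) = 0 := by
      calc (2 : ZMod r) = 1 + 1 := by norm_num
        _ = -1 + 1 := by rw [h3]
        _ = 0 := by ring
    have h5 : ((2 : ℕ) : ZMod r) = 0 := by exact_mod_cast h4
    rw [ZMod.natCast_eq_zero_iff] at h5
    exact h2 ((Nat.prime_dvd_prime_iff_eq hr Nat.prime_two).1 h5)
  · show (q : ZMod r) ^ 2 ^ (2 + 1) = 1
    calc (q : ZMod r) ^ 2 ^ (2 + 1) = ((q : ZMod r) ^ 4) ^ 2 := by ring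
      _ = 1 := by rw [h1]; ring

section E

open Cfsg.Agent.H129 Cfsg.Agent.H493.TwE6Alg

variable {K : Type u} [Field K] [Fintype K] {q : ℕ} (hq : IsPrimePow q) (hK : Fintype.card K = q ^ 2)

include hq hK

theorem adj_2E6_even (ho : 2 ∣ q) {r : ℕ} (hr : r.Prime) (h3 : r ≠ 3) (hd : r ∣ Nat.card ↥(twistedE6 K q)) :
    r = 2 ∨ H94.PG.Adj ↥(twistedE6 K q) r 2 ∨ od q r ∈ [8, 12, 18] := by
  by_cases h2 : r = 2
  · exact Or.inl h2
  right
  have hg := H493.PGE6T.natCard_ne_of hq hK hr h3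
  have h1 : r ∣ q ^ 36 * (q ^ 2 - 1) * (q ^ 5 + 1) * (q ^ 6 - 1) * (q ^ 8 - 1) * (q ^ 9 + 1) * (q ^ 12 - 1) := by
    rw [← Cfsg.Agent.S1066.result hq hK]
    exact hd.mul_left _
  rcases H493.PGE6T.cover hq.two_le hr h1 with (h | h | h | h | h | h | h) | h | h | h
  · exfalso
    obtain ⟨p, n, hp, hn, hpn⟩ := (isPrimePow_nat_iff q).1 hq
    rw [← hpn] at h ho
    have e1 := (Nat.prime_dvd_prime_iff_eq hr hp).1 (hr.dvd_of_dvd_pow h)
    have e2 := (Nat.prime_dvd_prime_iff_eq Nat.prime_two hp).1 (Nat.prime_two.dvd_of_dvd_pow ho)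
    exact h2 (e1.trans e2.symm)
  · left
    exact (pairE_p hq hK H493.PGE6T.chainA_ok H493.PGE6T.hThA H493.PGE6T.eigA_1 (by decide) (by decide)
      H493.PGE6T.fixA H493.PGE6T.vanA_1 hr Nat.prime_two hg h ho).adj hr Nat.prime_two h2
  · left
    exact (pairE_p hq hK H493.PGE6T.chainA_ok H493.PGE6T.hThA H493.PGE6T.eigA_2 (by decide) (by decide)
      H493.PGE6T.fixA H493.PGE6T.vanA_2 hr Nat.prime_two hg h ho).adj hr Nat.prime_two h2
  · left
    exact (pairE_p hq hK H493.PGE6T.chainB_ok H493.PGE6T.hThB H493.PGE6T.eigB_3 (by decide) (by decide)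
      H493.PGE6T.fixB H493.PGE6T.vanB_3 hr Nat.prime_two hg h ho).adj hr Nat.prime_two h2
  · left
    exact (pairE_p hq hK H493.PGE6T.chainC_ok H493.PGE6T.hThC H493.PGE6T.eigC_4 (by decide) (by decide)
      H493.PGE6T.fixC H493.PGE6T.vanC_4 hr Nat.prime_two hg h ho).adj hr Nat.prime_two h2
  · left
    exact (pairE_p hq hK H493.PGE6T.chainB_ok H493.PGE6T.hThB H493.PGE6T.eigB_6 (by decide) (by decide)
      H493.PGE6T.fixB H493.PGE6T.vanB_6 hr Nat.prime_two hg h ho).adj hr Nat.prime_two h2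
  · left
    exact (pairE_p hq hK H493.PGE6T.chainD_ok H493.PGE6T.hThD H493.PGE6T.eigD_10 (by decide) (by decide)
      H493.PGE6T.fixD H493.PGE6T.vanD_10 hr Nat.prime_two hg h ho).adj hr Nat.prime_two h2
  · right; rw [od_of_c8 hr h2 h]; decide
  · right; rw [od_of_c12 hr h]; decide
  · right; rw [od_of_c18 hr h3 h]; decide

theorem cls_2E6 (y : ↥(twistedE6 K q)) (hy : 1 < orderOf y) (hy3 : ¬ 3 ∣ orderOf y)
    (h2 : ∀ r : ℕ, r.Prime → r ∣ orderOf y → r ≠ 2 ∧ ¬ H94.PG.Adj ↥(twistedE6 K q) r 2) :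
    ∃ m ∈ [8, 12, 18], orderOf y ∣ Pn m q := by
  have h3 : 2 ≤ q := hq.two_le
  have hfin : Finite ↥(twistedE6 K q) := inferInstance
  obtain ⟨m, hm, hall⟩ := allOd (q := q) (P := fun m => m ∈ [8, 12, 18]) hy
    (fun r hr hrd => by
      obtain ⟨k3, k4⟩ := h2 r hr hrd
      have hr3 : r ≠ 3 := by rintro rfl; exact hy3 hrd
      rcases Nat.even_or_odd q with ho | ho
      · exact ((adj_2E6_even hq hK (even_iff_two_dvd.1 ho) hr hr3
          (hrd.trans (orderOf_dvd_natCard y))).resolve_left k3).resolve_left k4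
      · have := ((adj_2E6 hq hK ho hr (hrd.trans (orderOf_dvd_natCard y))).resolve_left k3).resolve_left k4
        exact List.mem_cons_of_mem _ this) (by
    rintro r s hr hs - - hmr hms hne ⟨z, hz⟩
    obtain ⟨p, f, hp, hf, rfl⟩ := (isPrimePow_nat_iff q).1 hq
    have hpf : Fact p.Prime := ⟨hp⟩
    have hch : CharP K p := by
      obtain ⟨p', hp'⟩ := CharP.exists K
      obtain ⟨n, hpp, hn⟩ := FiniteField.card K p'
      have h5 : p' ∣ (p ^ f) ^ 2 := by rw [← hK, hn]; exact dvd_pow_self _ n.pos.ne'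
      have h6 := (Nat.prime_dvd_prime_iff_eq hpp hp).1 (hpp.dvd_of_dvd_pow (hpp.dvd_of_dvd_pow h5))
      rwa [← h6]
    have hr0 : 8 ≤ orderOf (((p ^ f : ℕ) : ℕ) : ZMod r) := by
      simp only [List.mem_cons, List.not_mem_nil, or_false] at hmr
      omega
    have hs0 : 8 ≤ orderOf (((p ^ f : ℕ) : ℕ) : ZMod s) := by
      simp only [List.mem_cons, List.not_mem_nil, or_false] at hms
      omega
    obtain ⟨h7, h8⟩ := lt_of_od (q := p ^ f) (m := orderOf (((p ^ f : ℕ) : ℕ) : ZMod r)) hr rfl (by omega)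
    obtain ⟨h9, h10⟩ := lt_of_od (q := p ^ f) (m := orderOf (((p ^ f : ℕ) : ℕ) : ZMod s)) hs rfl (by omega)
    refine six_no_pair hf hK hr hs h8 h10 (by omega) (by omega) rfl rfl hne ?_ z hz
    simp only [List.mem_cons, List.not_mem_nil, or_false] at hmr hms
    rcases hmr with h | h | h <;> rcases hms with h' | h' | h' <;> rw [h, h'] <;>
      first | decide | exact absurd (h.trans h'.symm) hne)
  refine ⟨m, hm, ?_⟩
  have hB : orderOf y ∣ Nat.card ↥(twistedE6 K q) := orderOf_dvd_natCard y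
  generalize orderOf y = B at *
  have hB := hB.mul_left (Nat.gcd 3 (q + 1))
  rw [Cfsg.Agent.S1066.result hq hK] at hB
  have hB' := Int.natCast_dvd_natCast.2 hB
  simp only [Nat.cast_mul, Nat.cast_pow, cast_pred (show 1 ≤ q by omega), Nat.cast_add, Nat.cast_one] at hB'
  simp only [List.mem_cons, List.not_mem_nil, or_false] at hm
  rcases hm with rfl | rfl | rfl
  · refine fin_dvd hall 8 36 [2, 10, 6, 18, 12] (by decide) (by decide) (by omega) (by decide)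
      (hB'.mul_right (((q : ℤ) ^ 5 - 1) * ((q : ℤ) ^ 9 - 1))) ?_
    simp only [List.map_cons, List.map_nil, List.prod_cons, List.prod_nil]
    ring
  · refine fin_dvd hall 12 36 [2, 10, 6, 8, 18] (by decide) (by decide) (by omega) (by decide)
      (hB'.mul_right (((q : ℤ) ^ 5 - 1) * ((q : ℤ) ^ 9 - 1))) ?_
    simp only [List.map_cons, List.map_nil, List.prod_cons, List.prod_nil]
    ring
  · refine fin_dvd hall 18 36 [2, 10, 6, 8, 12] (by decide) (by decide) (by omega) (by decide)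
      (hB'.mul_right (((q : ℤ) ^ 5 - 1) * ((q : ℤ) ^ 9 - 1))) ?_
    simp only [List.map_cons, List.map_nil, List.prod_cons, List.prod_nil]
    ring

/-- torus elements of `²E₆(q)` -/
theorem row_T {L : List (Fin 6 × Mat 6)} (hL : ChainOK H493.PGE6T.Am L) {Th : Mat 6}
    (hTh : ∀ j, hd L (H493.TwE6Alg.pi j) = Th j) {f : ℕ} {c : Fin (f + 1) → ℤ} {V : Fin (f + 1) → Fin 6 → ℤ}
    {U : Fin 6 → ℤ} (h : EigOK (fun i j => Th j i) c V U) (hc : c 0 = 1 ∨ c 0 = -1) {m : ℕ} (hm : 0 < m)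
    (h1 : (m : ℤ) ∣ pv c (q : ℤ)) : ∃ x : ↥(twistedE6 K q), m ∣ orderOf x * Nat.gcd 3 (q + 1) := by
  have := H493.PGE6.finW
  obtain ⟨p, e, hpF, hpk, he, hqe, hk⟩ := H493.PGE6T.setup hq hK
  have hqe' : (q : ℤ) = ((p ^ e : ℕ) : ℤ) := by rw [hqe]
  rw [hqe'] at h1
  exact order_of_eig Cfsg.Agent.Nodes.RGDTwE6.hp CoxeterMatrix.E₆.toCoxeterSystem hk he H493.TwE6Alg.isFrob_tau
    (H493.TwE6Alg.fr_tau _) Cfsg.Agent.H129.TorusChar.invC_E6 (by norm_num)
    (e0 := H493.TwE6Alg.embT (algebraMap K (AlgebraicClosure K)) q) (d := Nat.gcd 3 (q + 1))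
    (fun y hy => H493.TwE6Alg.tau_pow _ hqe hq hK hy) (H493.PGE6T.lin _ hL hTh) h hc hm h1

end E

/-! ### the numbers -/

/-- from rows to divisibility -/
theorem of_rows {S : Type*} [Group S] {M g : ℕ} (hM : ∀ x : S, orderOf x ∣ M) {X : ℤ} (hX : 0 < X)
    (h : ∀ m : ℕ, 0 < m → (m : ℤ) ∣ X → ∃ x : S, m ∣ orderOf x * g) : X ∣ (M : ℤ) * g := by
  obtain ⟨n, hn⟩ := Int.eq_ofNat_of_zero_le hX.le
  obtain ⟨x, hx⟩ := h n (by omega) (by rw [hn])
  rw [hn]
  exact_mod_cast hx.trans (Nat.mul_dvd_mul_right (hM x) g)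

theorem p8_cop_three (x : ℤ) : IsCoprime (p8 x) 3 := by
  have h : p8 x % 3 = 1 ∨ p8 x % 3 = 2 := by
    have e : p8 x = x * x * (x * x) + 1 := by simp only [p8]; ring
    rw [e]
    have : x % 3 = 0 ∨ x % 3 = 1 ∨ x % 3 = 2 := by omega
    rcases this with h | h | h <;> simp [Int.add_emod, Int.mul_emod, h]
  rcases h with h | h
  · exact ⟨1, -(p8 x / 3), by omega⟩
  · exact ⟨-1, (p8 x / 3) + 1, by omega⟩

theorem p5_cop_three (x : ℤ) : IsCoprime (p5 x) 3 := by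
  have h : p5 x % 3 = 1 ∨ p5 x % 3 = 2 := by
    have e : p5 x = x * x * (x * x) + x * x * x + x * x + x + 1 := by simp only [p5]; ring
    rw [e]
    have : x % 3 = 0 ∨ x % 3 = 1 ∨ x % 3 = 2 := by omega
    rcases this with h | h | h <;> simp [Int.add_emod, Int.mul_emod, h]
  rcases h with h | h
  · exact ⟨1, -(p5 x / 3), by omega⟩
  · exact ⟨-1, (p5 x / 3) + 1, by omega⟩

theorem p12_cop_three (x : ℤ) : IsCoprime (p12 x) 3 := by
  obtain ⟨c, hc⟩ := p12_six x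
  exact ⟨1, -(2 * c), by rw [hc]; ring⟩

/-- the final step, uniform in `x = ± v` -/
theorem fin6 {q : ℕ} {S : Type*} [Group S] (h : E5 q S) {v : ℕ} (hv : 2 ≤ v) (hv5 : ¬ 5 ∣ v) {x : ℤ}
    (hxv : x = v ∨ x = -v) {g : ℕ} (hg : (g = 1 ∧ ¬ (3 : ℤ) ∣ x - 1) ∨ (g = 3 ∧ (3 : ℤ) ∣ x - 1))
    (hcls : ((am q : ℤ) ∣ p8 x ∨ (am q : ℤ) ∣ p12 x) ∨ (am q : ℤ) ∣ p9 x)
    (h8 : ∀ m : ℕ, 0 < m → (m : ℤ) ∣ p8 x → ∃ y : S, m ∣ orderOf y * g)
    (h5 : ∀ m : ℕ, 0 < m → (m : ℤ) ∣ p5 x → ∃ y : S, m ∣ orderOf y * g)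
    (h12 : ∀ m : ℕ, 0 < m → (m : ℤ) ∣ p12 x → ∃ y : S, m ∣ orderOf y * g)
    (h3 : ∀ m : ℕ, 0 < m → (m : ℤ) ∣ p3 x → ∃ y : S, m ∣ orderOf y * g)
    (h9 : ∀ m : ℕ, 0 < m → (m : ℤ) ∣ p9 x → ∃ y : S, m ∣ orderOf y * g)
    (ht : ∀ m : ℕ, 0 < m → (m : ℤ) ∣ tx x → ∃ y : S, m ∣ orderOf y * g) : False := by
  obtain ⟨M, hM0, hMa, hM⟩ := exists_M h
  obtain ⟨m, hm, rfl⟩ := h.pow
  have hvz : (2 : ℤ) ≤ v := by exact_mod_cast hv
  have h0 : (0 : ℤ) < v := by omega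
  have h1 : (0 : ℤ) < (v : ℤ) - 1 := by omega
  have p3' : 0 < p3 x := by
    rcases hxv with rfl | rfl
    · simp only [p3]; positivity
    · simp only [p3]; nlinarith
  have q8 : 0 < p8 x := by rw [eq_8 hxv]; positivity
  have q5 : 0 < p5 x := lt_of_lt_of_le (by positivity) (lo_5 hxv hvz)
  have e2 : (4 : ℤ) ≤ (v : ℤ) ^ 2 := by nlinarith
  have e3 : (8 : ℤ) ≤ (v : ℤ) ^ 3 := by
    calc (8 : ℤ) = 2 ^ 3 := by norm_num
      _ ≤ (v : ℤ) ^ 3 := pow_le_pow_left₀ (by norm_num) hvz 3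
  have q12 : 0 < p12 x := lt_of_lt_of_le (by nlinarith) (lo_12 hxv)
  have q9 : 0 < p9 x := lt_of_lt_of_le (by nlinarith) (lo_9 hxv hvz)
  have qt : 0 < tx x := by
    have h2 := lo_t3 hxv hvz
    have h3 : 0 < tx x * p3 x := lt_of_lt_of_le (by positivity) h2
    exact (pos_iff_pos_of_mul_pos h3).2 p3'
  have k8 := of_rows hM q8 h8
  have k5 := of_rows hM q5 h5
  have k12 := of_rows hM q12 h12
  have k3 := of_rows hM p3' h3
  have k9 := of_rows hM q9 h9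
  have kt := of_rows hM qt ht
  have hMz : (0 : ℤ) < M := by exact_mod_cast hM0
  rcases hg with ⟨rfl, hg⟩ | ⟨rfl, hg⟩
  · simp only [Nat.cast_one, mul_one] at k8 k5 k12 k3 k9 kt
    exact num6 hm hv hv5 hxv hMz hMa hcls k8 k5 k12 (Or.inl ⟨hg, kt, k3, k9⟩)
  · rw [mul_comm] at k8 k5 k12 k3 k9 kt
    simp only [Nat.cast_ofNat] at k8 k5 k12 k3 k9 kt
    exact num6 hm hv hv5 hxv hMz hMa hcls ((p8_cop_three x).dvd_of_dvd_mul_left k8)
      ((p5_cop_three x).dvd_of_dvd_mul_left k5) ((p12_cop_three x).dvd_of_dvd_mul_left k12)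
      (Or.inr ⟨hg, kt, k3, k9⟩)

theorem gcd_case {n : ℕ} : (Nat.gcd 3 n = 1 ∧ ¬ 3 ∣ n) ∨ (Nat.gcd 3 n = 3 ∧ 3 ∣ n) := by
  by_cases h : 3 ∣ n
  · exact Or.inr ⟨Nat.gcd_eq_left h, h⟩
  · exact Or.inl ⟨(Nat.Prime.coprime_iff_not_dvd Nat.prime_three).2 h, h⟩

/-- **`E₆(v)`.** -/
theorem e6 {q : ℕ} {F : Type*} [Field F] [Fintype F] (h5 : ¬ 5 ∣ Fintype.card F)
    (h : E5 q ↥(Cfsg.Lie.chevE6.group F)) : False := by
  obtain ⟨hq, -, -⟩ := q_facts h
  obtain ⟨x, hx⟩ := h.minus.resolve_left (not_al2_E6 F)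
  have h7 := seven_le_am hq
  obtain ⟨m, hm, hd⟩ := cls_E6 F x (by omega) fun r hr hrd => not_adj h hr (by rwa [← hx])
  rw [hx] at hd
  have hv : 2 ≤ Nat.card F := Finite.one_lt_card
  have hd' : (am q : ℤ) ∣ Pz m (Nat.card F : ℕ) := by
    have := Int.natCast_dvd_natCast.2 hd
    rwa [cast_Pn hv] at this
  let cs : CoxeterSystem CoxeterMatrix.E₆ CoxeterMatrix.E₆.Group := CoxeterMatrix.E₆.toCoxeterSystem
  have := finite_W e6T cs
  have inv := H129.TorusChar.invC_E6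
  rw [← Nat.card_eq_fintype_card] at h5
  refine fin6 h hv h5 (Or.inl rfl) (g := Nat.gcd 3 (Nat.card F - 1)) ?_ ?_
    (fun m hm hd => exists_row e6T cs inv three_ne_zero H493.PGE6.hA H493.PGE6.chain8_ok H493.PGE6.eig8 hm
      (by rw [pv_c8]; exact hd))
    (fun m hm hd => exists_row e6T cs inv three_ne_zero H493.PGE6.hA H559.ConjE6.chain5_ok H559.ConjE6.eig5 hm
      (by rw [pv_c5]; exact hd))
    (fun m hm hd => exists_row e6T cs inv three_ne_zero H493.PGE6.hA H493.PGE6.chain12_ok H493.PGE6.eig12 hm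
      (by rw [pv_c12]; exact hd))
    (fun m hm hd => exists_row e6T cs inv three_ne_zero H493.PGE6.hA H559.ConjE6.chain3_ok H559.ConjE6.eig3 hm
      (by rw [pv_c3]; exact hd))
    (fun m hm hd => exists_row e6T cs inv three_ne_zero H493.PGE6.hA H493.PGE6.chain9_ok H493.PGE6.eig9 hm
      (by rw [pv_c9]; exact hd))
    (fun m hm hd => exists_row e6T cs inv three_ne_zero H378.AdjE6.hA chainE6 eigE6 hm
      (hd.trans (dvd_of_eq (by simp only [pv, cE6, tx, Fin.sum_univ_succ]; simp; ring))))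
  · rcases gcd_case (n := Nat.card F - 1) with ⟨h1, h2⟩ | ⟨h1, h2⟩
    · refine Or.inl ⟨h1, fun h3 => h2 ?_⟩
      have : ((Nat.card F - 1 : ℕ) : ℤ) = ((Nat.card F : ℕ) : ℤ) - 1 := by push_cast [Nat.cast_sub (by omega : 1 ≤ Nat.card F)]; ring
      rw [← this] at h3
      exact_mod_cast h3
    · refine Or.inr ⟨h1, ?_⟩
      have : ((Nat.card F - 1 : ℕ) : ℤ) = ((Nat.card F : ℕ) : ℤ) - 1 := by push_cast [Nat.cast_sub (by omega : 1 ≤ Nat.card F)]; ring
      rw [← this]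
      exact_mod_cast h2
  · simp only [List.mem_cons, List.not_mem_nil, or_false] at hm
    rcases hm with rfl | rfl | rfl
    · exact Or.inl (Or.inl hd')
    · exact Or.inr hd'
    · exact Or.inl (Or.inr hd')

/-- **`²E₆(v)`.** -/
theorem te6_of {q : ℕ} {K : Type*} [Field K] [Fintype K] {v : ℕ} (hv : IsPrimePow v) (hK : Fintype.card K = v ^ 2)
    (h5 : ¬ 5 ∣ v) (h : E5 q ↥(twistedE6 K v)) : False := by
  obtain ⟨hq, -, -⟩ := q_facts h
  obtain ⟨x, hx⟩ := h.minus.resolve_left (not_al2_2E6 hv hK)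
  have h7 := seven_le_am hq
  obtain ⟨m, hm, hd⟩ := cls_2E6 hv hK x (by omega) (by rw [hx]; exact (am_spec (by omega)).2)
    fun r hr hrd => not_adj h hr (by rwa [← hx])
  rw [hx] at hd
  have hv2 : 2 ≤ v := hv.two_le
  have hd' : (am q : ℤ) ∣ Pz m (v : ℕ) := by
    have := Int.natCast_dvd_natCast.2 hd
    rwa [cast_Pn hv2] at this
  refine fin6 h hv2 h5 (Or.inr rfl) (g := Nat.gcd 3 (v + 1)) ?_ ?_
    (fun m hm hd => row_T hv hK H493.PGE6T.chainE_ok H493.PGE6T.hThE H493.PGE6T.eigE_8 (by decide) hm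
      (by rw [pv_c8]; exact hd.trans (dvd_of_eq (by simp only [p8]; ring))))
    (fun m hm hd => row_T hv hK H493.PGE6T.chainD_ok H493.PGE6T.hThD H493.PGE6T.eigD_10 (by decide) hm
      (by rw [pv_c10]; exact hd.trans (dvd_of_eq (by simp only [p5]; ring))))
    (fun m hm hd => row_T hv hK H493.PGE6T.chainF_ok H493.PGE6T.hThF H493.PGE6T.eigF_12 (by decide) hm
      (by rw [pv_c12]; exact hd.trans (dvd_of_eq (by simp only [p12]; ring))))
    (fun m hm hd => row_T hv hK H493.PGE6T.chainB_ok H493.PGE6T.hThB H493.PGE6T.eigB_6 (by decide) hm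
      (by rw [pv_c6]; exact hd.trans (dvd_of_eq (by simp only [p3]; ring))))
    (fun m hm hd => row_T hv hK H493.PGE6T.chainG_ok H493.PGE6T.hThG H493.PGE6T.eigG_18 (by decide) hm
      (by rw [pv_c18]; exact hd.trans (dvd_of_eq (by simp only [p9]; ring))))
    (fun m hm hd => row_T hv hK chainT6 thT6 eigT6 (by right; rfl) hm
      (hd.trans (dvd_of_eq (by simp only [pv, cT6, tx, Fin.sum_univ_succ]; simp; ring))))
  · rcases gcd_case (n := v + 1) with ⟨h1, h2⟩ | ⟨h1, h2⟩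
    · refine Or.inl ⟨h1, fun h3 => h2 ?_⟩
      have h4 : (3 : ℤ) ∣ ((v + 1 : ℕ) : ℤ) := by
        push_cast
        obtain ⟨c, hc⟩ := h3
        exact ⟨-c, by linear_combination -hc⟩
      exact_mod_cast h4
    · refine Or.inr ⟨h1, ?_⟩
      have h4 : (3 : ℤ) ∣ ((v + 1 : ℕ) : ℤ) := by exact_mod_cast h2
      push_cast at h4
      obtain ⟨c, hc⟩ := h4
      exact ⟨-c, by linear_combination -hc⟩
  · simp only [List.mem_cons, List.not_mem_nil, or_false] at hm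
    rcases hm with rfl | rfl | rfl
    · left; left
      have : p8 (-(v : ℤ)) = Pz 8 (v : ℤ) := by simp only [p8, Pz]; ring
      rw [this]; exact hd'
    · left; right
      have : p12 (-(v : ℤ)) = Pz 12 (v : ℤ) := by simp only [p12, Pz]; ring
      rw [this]; exact hd'
    · right
      have : p9 (-(v : ℤ)) = Pz 18 (v : ℤ) := by simp only [p9, Pz]; ring
      rw [this]; exact hd'

end Cfsg.Agent.H75.M5h
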