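import Cfsg.Agent.H75.Geo
import Cfsg.Agent.H75.OddMain

/-!
Odd dimension: the hypotheses `Typ` and `Com`, and the conclusion that a subgroup of small index
stabilises a totally singular subspace or a nonsingular point.
-/

set_option autoImplicit false

namespace Cfsg.Agent.H75.OrthIdx

open QuadraticMap Cfsg.Agent.LieClassical.OrthCore Cfsg.Agent.LieClassical.OrthTrans

variable {F V : Type*} [Field F] [AddCommGroup V] [Module F V] {Q : QuadraticForm F V}

theorem perp_sup (A B : Submodule F V) : perp Q (A ⊔ B) = perp Q A ⊓ perp Q B := by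
  apply le_antisymm
  · exact le_inf (perp_anti le_sup_left) (perp_anti le_sup_right)
  · rintro x ⟨hx, hx'⟩ y hy
    obtain ⟨a, ha, b, hb, rfl⟩ := Submodule.mem_sup.1 hy
    rw [polar_add_left, hx a ha, hx' b hb, add_zero]

theorem ts_sup {A B : Submodule F V} (hA : ∀ x ∈ A, Q x = 0) (hB : ∀ x ∈ B, Q x = 0)
    (hAB : ∀ a ∈ A, ∀ b ∈ B, polar Q a b = 0) : ∀ x ∈ A ⊔ B, Q x = 0 := by
  intro x hx
  obtain ⟨a, ha, b, hb, rfl⟩ := Submodule.mem_sup.1 hx
  rw [Q_add, hA a ha, hB b hb, hAB a ha b hb]; simp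

theorem Us_le_span [FiniteDimensional F V] (hQ : Nondeg Q) {M : Type*} [AddCommGroup M]
    {θ : F →+ M} {H : Subgroup (V ≃ₗ[F] V)} {e : V}
    (hdd : dl Q θ (dl Q θ (Bs Q H e)) = Bs Q H e) :
    Us Q H e ≤ Submodule.span F (dl Q θ (Bs Q H e) : Set V) := by
  have h1 : perp Q (Submodule.span F (dl Q θ (Bs Q H e) : Set V)) ≤ Ws Q H e := by
    intro w hw
    have hw' := (perp_span _ _).1 hw
    refine ⟨?_, fun c => ?_⟩
    · have h2 : (1 : F) • e ∈ dl Q θ (Bs Q H e) := self_smul_mem_dl (1 : F)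
      rw [one_smul] at h2
      exact hw' e h2
    · have h2 : c • w ∈ dl Q θ (dl Q θ (Bs Q H e)) := by
        intro x hx
        rw [polar_smul_right, hw' x hx, smul_zero, map_zero]
      rw [hdd] at h2
      exact h2.2
  have h2 := perp_anti (Q := Q) h1
  rwa [perp_perp hQ] at h2

theorem finrank_ts_le [FiniteDimensional F V] (hQ : Nondeg Q) {T : Submodule F V}
    (hT : ∀ x ∈ T, Q x = 0) : 2 * Module.finrank F T ≤ Module.finrank F V := by
  have h1 := Submodule.finrank_mono (le_perp_of_ts hT)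
  have h2 := finrank_perp_add hQ T
  omega

section fin

variable [Finite F] [FiniteDimensional F V]

theorem odd_typ (hG : Good Q) {m : ℕ} (hC : OddCount Q m) {H : Subgroup (V ≃ₗ[F] V)}
    (hH : (Nat.card F - 1) * H.relIndex (E Q) < Nat.card F ^ (2 * m)) : Typ Q H := by
  intro e he
  obtain ⟨he0, heQ, v, hv, hvn⟩ := he
  obtain ⟨f, h⟩ := exists_hyp hG.nondeg heQ he0
  obtain ⟨p, hp, θ, hpF, hθ, hcard, hdd⟩ := exists_dual (Q := Q) hG.nondeg
  have hle := Us_le_span hG.nondeg (hdd (Bs Q H e))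
  rcases odd_dual hG hC θ hpF hθ hcard hH h hv hvn with h1 | ⟨a, ha, haQ, h1⟩
  · left
    intro x hx
    exact span_ts h1 (fun x hx y hy => addSubgroup_ts h1 hx hy) x (hle hx)
  · right
    refine ⟨a, haQ, dl_perp hθ heQ ha, hle.trans ?_⟩
    rw [Submodule.span_le]
    exact h1

omit [Finite F] in
/-- The mixed case does not occur. -/
theorem odd_mixed (hQ : Nondeg Q) {m : ℕ} (hd : Module.finrank F V = 2 * m + 1) (hm : 3 ≤ m)
    (h2 : (2 : F) ≠ 0) {H : Subgroup (V ≃ₗ[F] V)} (hH : H ≤ E Q) {e f a : V} (h : Hyp Q e f)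
    (ha : Q a ≠ 0) (hea : polar Q e a = 0) (hUe : Us Q H e ≤ Submodule.span F {e, a})
    (htf : ∀ x ∈ Us Q H f, Q x = 0)
    (hcon : ∀ w, Q w ≠ 0 → w ∈ Ws Q H e → w ∉ Ws Q H f)
    (hdX : m + 2 ≤ Module.finrank F (Us Q H e ⊔ Us Q H f : Submodule F V)) : False := by
  set Y := Ws Q H e ⊓ Ws Q H f with hYdef
  set X := Us Q H e ⊔ Us Q H f with hXdef
  have hY : ∀ y ∈ Y, Q y = 0 := by
    rintro y ⟨hy1, hy2⟩
    by_contra hne
    exact hcon y hne hy1 hy2
  have hXY : perp Q X = Y := by
    rw [hXdef, perp_sup, Us, Us, perp_perp hQ, perp_perp hQ]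
  have hdXY := finrank_perp_add hQ X
  rw [hXY] at hdXY
  have hUf := finrank_ts_le hQ htf
  have hsum := Submodule.finrank_add_le_finrank_add_finrank (Us Q H e) (Us Q H f)
  rw [← hXdef] at hsum
  have hUe2 := Submodule.finrank_mono hUe
  have hsp := finrank_span_pair_le (F := F) e a
  -- `Us e = ⟨e, a⟩`
  have hUeq : Us Q H e = Submodule.span F {e, a} :=
    Submodule.eq_of_le_of_finrank_le hUe (by omega)
  have haU : a ∈ Us Q H e := by rw [hUeq]; exact Submodule.subset_span (by simp)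
  -- `Y ≤ Us f`
  have hYf : Y ≤ Us Q H f := by
    have h1 : ∀ x ∈ Us Q H f ⊔ Y, Q x = 0 :=
      ts_sup htf hY fun x hx y hy => by rw [polar_comm]; exact hx y hy.2
    have h3 := finrank_ts_le hQ h1
    have h4 : Us Q H f = Us Q H f ⊔ Y :=
      Submodule.eq_of_le_of_finrank_le le_sup_left (by omega)
    rw [h4]; exact le_sup_right
  -- `a0`
  set a0 := a - polar Q f a • e with ha0
  have ha0U : a0 ∈ Us Q H e := Submodule.sub_mem _ haU (Submodule.smul_mem _ _ self_mem_Us)
  have hfa0 : polar Q f a0 = 0 := by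
    rw [ha0, polar_sub_right, polar_smul_right, h.pair']; simp
  have hea0 : polar Q e a0 = 0 := polar_of_mem_Us h.left ha0U
  have ha0Q : Q a0 = Q a := by
    rw [ha0, sub_eq_add_neg, ← neg_smul, Q_add, QuadraticMap.map_smul, h.left,
      polar_smul_right, polar_comm Q a e, hea]; simp
  -- `Y` has a nonzero vector
  have hYd : 2 ≤ Module.finrank F Y := by omega
  obtain ⟨u, huY, hu0⟩ := (Submodule.ne_bot_iff Y).1 (by
    intro h1
    rw [h1, finrank_bot] at hYd
    omega)
  have huQ : Q u = 0 := hY u huY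
  have heu : polar Q e u = 0 := huY.1.1
  have hfu : polar Q f u = 0 := huY.2.1
  have hua : polar Q u a0 = 0 := ha0U u huY.1
  -- `a0 ∈ Ws f`
  have ha0f : a0 ∈ Ws Q H f := by
    apply mem_Ws_of_perp hQ
    have hle : Y ⊔ Submodule.span F {f} ≤ Us Q H f :=
      sup_le hYf ((Submodule.span_singleton_le_iff_mem _ _).2 self_mem_Us)
    have hdis : Disjoint Y (Submodule.span F {f}) := by
      rw [Submodule.disjoint_def]
      intro x hx hx'
      obtain ⟨c, rfl⟩ := Submodule.mem_span_singleton.1 hx'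
      have h3 := hx.1.1
      rw [polar_smul_right, h.pair, smul_eq_mul, mul_one] at h3
      rw [h3, zero_smul]
    have hdf : Module.finrank F (Y ⊔ Submodule.span F {f} : Submodule F V) =
        Module.finrank F Y + 1 := by
      have h3 := Submodule.finrank_sup_add_finrank_inf_eq Y (Submodule.span F {f})
      rw [hdis.eq_bot, finrank_bot, finrank_span_singleton h.right_ne] at h3
      omega
    have heq : Y ⊔ Submodule.span F {f} = Us Q H f :=
      Submodule.eq_of_le_of_finrank_le hle (by omega)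
    intro y hy
    rw [← heq] at hy
    obtain ⟨y1, hy1, y2, hy2, rfl⟩ := Submodule.mem_sup.1 hy
    obtain ⟨c, rfl⟩ := Submodule.mem_span_singleton.1 hy2
    rw [polar_add_left, polar_smul_left, hfa0, smul_zero, add_zero]
    exact ha0U y1 hy1.1
  -- the commutator
  have hsgu : sg Q e u ∈ H := Ws.sg_mem huY.1
  have hsga : sg Q f a0 ∈ H := Ws.sg_mem ha0f
  have hsgu' : sg Q f (-(Q a0) • u) ∈ H := huY.2.2 _
  have h1 : sg Q e u f = f + u := by
    rw [sg_shift h.symm heu hfu, huQ, zero_smul, sub_zero]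
  have h3 : sg Q e u a0 = a0 := sg_fix hea0 hua
  have h4 : sg Q (f + u) a0 ∈ H := by
    have h5 := H.mul_mem (H.mul_mem hsgu hsga) (H.inv_mem hsgu)
    rwa [sg_conj (sg_mem_O _ _), h1, h3] at h5
  have hQfu : Q (f + u) = 0 := by
    rw [Q_add, h.right, huQ, hfu]; simp
  have hpfu : polar Q (f + u) a0 = 0 := by rw [polar_add_left, hfa0, hua, add_zero]
  have hf' : polar Q f (-(Q a0) • u) = 0 := by rw [polar_smul_right, hfu, smul_zero]
  have h5 : sg Q (f + u) a0 = sg Q f (-(Q a0) • u) * (sg Q f a0 * sg Q u a0) := by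
    ext x
    show _ = sg Q f (-(Q a0) • u) (sg Q f a0 (sg Q u a0 x))
    have hff := h.polar_right
    have huu : polar Q u u = 0 := polar_self_of_sing huQ
    have huf : polar Q u f = 0 := by rw [polar_comm]; exact hfu

    have hau : polar Q a0 u = 0 := by rw [polar_comm]; exact hua
    rw [sg_apply hQfu hpfu, sg_apply h.right hf', sg_apply h.right hfa0, sg_apply huQ hua]
    simp only [polar_add_left, polar_add_right, polar_sub_right, polar_smul_right,
      polar_smul_left, QuadraticMap.map_smul, huQ, hff, hfu, huu, huf, hau, hfa0,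
      hua, polar_self', smul_eq_mul]
    module
  have h6 : sg Q u a0 ∈ H := by
    have h7 : sg Q u a0 = (sg Q f a0)⁻¹ * ((sg Q f (-(Q a0) • u))⁻¹ * sg Q (f + u) a0) := by
      rw [h5]; group
    rw [h7]
    exact H.mul_mem (H.inv_mem hsga) (H.mul_mem (H.inv_mem hsgu') h4)
  -- it preserves `Us e`
  have h7 := Us_map hH h6 ha0U
  have h8 : sg Q u a0 e = e := sg_fix (by rw [polar_comm]; exact heu) (by
    rw [polar_comm]; exact hea0)
  rw [h8, sg_apply huQ hua, hua, polar_self'] at h7
  have h9 : (2 * Q a0) • u ∈ Us Q H e := by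
    have h10 : (2 * Q a0) • u = a0 - (a0 + (0 : F) • a0 - (2 * Q a0) • u - (Q a0 * 0) • u) := by
      module
    rw [h10]
    exact Submodule.sub_mem _ ha0U h7
  have ha0Q' : Q a0 ≠ 0 := by rw [ha0Q]; exact ha
  have hne : 2 * Q a0 ≠ 0 := mul_ne_zero h2 ha0Q'
  have h10 : u ∈ Us Q H e := by
    have h11 := Submodule.smul_mem _ (2 * Q a0)⁻¹ h9
    rwa [smul_smul, inv_mul_cancel₀ hne, one_smul] at h11
  obtain ⟨c, rfl⟩ := sing_of_mem_span h.left ha hea (hUe h10) huQ
  rw [polar_smul_right, h.pair', smul_eq_mul, mul_one] at hfu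
  rw [hfu, zero_smul] at hu0
  exact hu0 rfl

omit [Finite F] in
theorem odd_com (hQ : Nondeg Q) {m : ℕ} (hd : Module.finrank F V = 2 * m + 1) (hm : 3 ≤ m)
    (h2 : (2 : F) ≠ 0) {H : Subgroup (V ≃ₗ[F] V)} (hH : H ≤ E Q) (hT : Typ Q H) :
    Com Q H := by
  intro e f he hf h
  by_contra hcon
  push Not at hcon
  set Y := Ws Q H e ⊓ Ws Q H f with hYdef
  set X := Us Q H e ⊔ Us Q H f with hXdef
  have hY : ∀ y ∈ Y, Q y = 0 := by
    rintro y ⟨hy1, hy2⟩
    by_contra hne
    exact hcon y hne hy1 hy2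
  have hXY : perp Q X = Y := by
    rw [hXdef, perp_sup, Us, Us, perp_perp hQ, perp_perp hQ]
  have hYX : Y ≤ X := by
    have h1 := le_perp_of_ts hY
    rwa [← hXY, perp_perp hQ, hXY] at h1
  have hdXY := finrank_perp_add hQ X
  rw [hXY] at hdXY
  have hdX : m + 2 ≤ Module.finrank F X := by
    have hdis : Disjoint Y (Submodule.span F {e, f}) := by
      rw [Submodule.disjoint_def]
      intro x hx hx'
      obtain ⟨a, b, rfl⟩ := Submodule.mem_span_pair.1 hx'
      have h3 := hx.1.1
      have h4 := hx.2.1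
      rw [polar_add_right, polar_smul_right, polar_smul_right, h.polar_left, h.pair] at h3
      rw [polar_add_right, polar_smul_right, polar_smul_right, h.polar_right, h.pair'] at h4
      simp only [smul_eq_mul, mul_zero, mul_one, zero_add, add_zero] at h3 h4
      rw [h3, h4]; simp
    have hle : Y ⊔ Submodule.span F {e, f} ≤ X := by
      refine sup_le hYX ?_
      rw [Submodule.span_le]
      rintro x (rfl | rfl)
      · exact Submodule.mem_sup_left self_mem_Us
      · exact Submodule.mem_sup_right self_mem_Us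
    have h3 := Submodule.finrank_sup_add_finrank_inf_eq Y (Submodule.span F {e, f})
    have h4 := Submodule.finrank_mono hle
    have h5 : Module.finrank F (Submodule.span F {e, f}) = 2 := by
      have := finrank_span_eq_card (hyp_linearIndependent h)
      rw [Matrix.range_cons_cons_empty] at this
      simpa using this
    rw [hdis.eq_bot, finrank_bot, h5] at h3
    omega
  have hsum := Submodule.finrank_add_le_finrank_add_finrank (Us Q H e) (Us Q H f)
  rw [← hXdef] at hsum
  rcases hT e he with hte | ⟨a, ha, hea, hUe⟩ <;> rcases hT f hf with htf | ⟨b, hb, hfb, hUf⟩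
  · -- both totally singular
    have h1 : ∀ x ∈ Us Q H e ⊔ Y, Q x = 0 :=
      ts_sup hte hY fun x hx y hy => by rw [polar_comm]; exact hx y hy.1
    have h3 : ∀ x ∈ Us Q H f ⊔ Y, Q x = 0 :=
      ts_sup htf hY fun x hx y hy => by rw [polar_comm]; exact hx y hy.2
    have h4 := finrank_ts_le hQ h1
    have h5 := finrank_ts_le hQ h3
    have h6 := Submodule.finrank_sup_add_finrank_inf_eq (Us Q H e ⊔ Y) (Us Q H f ⊔ Y)
    have h7 : X ≤ (Us Q H e ⊔ Y) ⊔ (Us Q H f ⊔ Y) :=
      sup_le (le_sup_left.trans le_sup_left) (le_sup_left.trans le_sup_right)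
    have h8 : Y ≤ (Us Q H e ⊔ Y) ⊓ (Us Q H f ⊔ Y) := le_inf le_sup_right le_sup_right
    have h9 := Submodule.finrank_mono h7
    have h10 := Submodule.finrank_mono h8
    omega
  · -- `e` totally singular, `f` nonsingular
    refine odd_mixed hQ hd hm h2 hH h.symm hb hfb hUf hte (fun w hw h1 h3 => hcon w hw h3 h1) ?_
    rw [sup_comm]; exact hdX
  · exact odd_mixed hQ hd hm h2 hH h ha hea hUe htf hcon hdX
  · have h1 := Submodule.finrank_mono hUe
    have h3 := Submodule.finrank_mono hUf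
    have h4 := finrank_span_pair_le (F := F) e a
    have h5 := finrank_span_pair_le (F := F) f b
    omega

/-- Odd dimension: a proper subgroup of small index stabilises a nonzero totally singular
subspace or a nonsingular point. -/
theorem odd_exists_stab (hG : Good Q) {m : ℕ} (hC : OddCount Q m) {H : Subgroup (V ≃ₗ[F] V)}
    (hHE : H ≤ E Q) (hne : ¬ E Q ≤ H)
    (hH : (Nat.card F - 1) * H.relIndex (E Q) < Nat.card F ^ (2 * m)) :
    ∃ T : Submodule F V, T ≠ ⊥ ∧ (∀ h ∈ H, ∀ x ∈ T, h x ∈ T) ∧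
      ((∀ x ∈ T, Q x = 0) ∨ ∃ a, Q a ≠ 0 ∧ T = Submodule.span F {a}) := by
  have hd := hC.finrank
  have hm := hC.three
  have hT := odd_typ hG hC hH
  have hcom := odd_com hG.nondeg hd hm hC.two_ne hHE hT
  refine exists_stab hG.nondeg (by omega) hHE hne hcom hT
    (exists_PP_odd hG (by omega) hC.two_ne ?_)
  -- `n < 2 q^(d-2)`
  rw [hd]
  have hq3 : 2 < Nat.card F := by
    have h1 : Nat.card F ≠ 2 := by
      intro h2
      have := Fintype.ofFinite F
      have h3 : Fintype.card F = 2 := by rw [← Nat.card_eq_fintype_card]; exact h2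
      apply hC.two_ne
      have h4 := Nat.cast_card_eq_zero F
      rw [h3] at h4
      exact_mod_cast h4
    have h2 : 1 < Nat.card F := Finite.one_lt_card
    omega
  have h1 : Nat.card F ^ (2 * m) = Nat.card F * Nat.card F ^ (2 * m + 1 - 2) := by
    rw [← pow_succ']; congr 1; omega
  rw [h1] at hH
  set K := Nat.card F ^ (2 * m + 1 - 2)
  obtain ⟨q', hq'⟩ : ∃ q', Nat.card F = q' + 3 := ⟨Nat.card F - 3, by omega⟩
  rw [hq', show q' + 3 - 1 = q' + 2 by omega] at hH
  by_contra hcon
  push Not at hcon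
  have h2 : (q' + 2) * (2 * K) ≤ (q' + 2) * H.relIndex (E Q) := Nat.mul_le_mul_left _ hcon
  have h3 : (q' + 3) * K ≤ (q' + 2) * (2 * K) := by nlinarith [Nat.zero_le K, Nat.zero_le (q' * K)]
  omega

end fin

end Cfsg.Agent.H75.OrthIdx
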