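import Mathlib

/-!
Arithmetic for the plus type, `q ≥ 4`.
-/

set_option autoImplicit false

namespace Cfsg.Agent.H75.OrthIdx

/-- general manipulation: from `VS ≤ t β`, `s t ≤ n`, `s β = D`: `(q-1) VS D ≤ (q-1) n β²`. -/
theorem plus_aux1 {c s t n β VS D : ℕ} (h1 : VS ≤ t * β) (h2 : s * t ≤ n) (h4 : s * β = D) :
    c * VS * D ≤ (c * n) * (β * β) := by
  calc c * VS * D = c * (s * β) * VS := by rw [h4]; ring
    _ ≤ c * (s * β) * (t * β) := Nat.mul_le_mul_left _ h1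
    _ = (c * (s * t)) * (β * β) := by ring
    _ ≤ (c * n) * (β * β) := Nat.mul_le_mul_right _ (Nat.mul_le_mul_left _ h2)

theorem plus_A1 {q s t n β VS Y : ℕ} (hq : 4 ≤ q) (hY : 1 ≤ Y) (hqY : q ≤ (q - 1) * Y)
    (h1 : VS ≤ t * β) (h2 : s * t ≤ n)
    (h3 : (q - 1) * n < q * (Y * Y) + (q - 1) * Y) (h4 : s * β = q * (Y * Y))
    (hVS : Y * Y + (q - 1) * Y ≤ VS + q) (hβ : β ≤ Y) : False := by
  obtain ⟨q', rfl⟩ : ∃ q', q = q' + 4 := ⟨q - 4, by omega⟩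
  rw [show q' + 4 - 1 = q' + 3 by omega] at *
  have h5 := plus_aux1 (c := q' + 3) h1 h2 h4
  have hβ2 : β * β ≤ Y * Y := Nat.mul_le_mul hβ hβ
  have hYY : 0 < Y * Y := Nat.mul_pos hY hY
  have h6 : ((q' + 3) * VS * (q' + 4)) * (Y * Y) < ((q' + 4) * (Y * Y) + (q' + 3) * Y) * (Y * Y) := by
    calc ((q' + 3) * VS * (q' + 4)) * (Y * Y) = (q' + 3) * VS * ((q' + 4) * (Y * Y)) := by ring
      _ ≤ ((q' + 3) * n) * (β * β) := h5
      _ ≤ ((q' + 3) * n) * (Y * Y) := Nat.mul_le_mul_left _ hβ2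
      _ < _ := Nat.mul_lt_mul_of_pos_right h3 hYY
  have h7 := lt_of_mul_lt_mul_right h6 (Nat.zero_le _)
  have hVS' : Y * Y ≤ VS := by omega
  have h8 : (q' + 3) * (Y * Y) * (q' + 4) ≤ (q' + 3) * VS * (q' + 4) :=
    Nat.mul_le_mul_right _ (Nat.mul_le_mul_left _ hVS')
  have hYle : Y ≤ Y * Y := Nat.le_mul_of_pos_left _ hY
  have h9 : (q' + 3) * Y ≤ (q' + 3) * (Y * Y) := Nat.mul_le_mul_left _ hYle
  generalize Y * Y = Z at *
  have h10 : (q' + 3) * Z * (q' + 4) = (q' + 4) * Z + (q' + 3) * Z + (q' * q' + 5 * q' + 5) * Z := by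
    ring
  have h11 : 0 ≤ (q' * q' + 5 * q' + 5) * Z := Nat.zero_le _
  omega

theorem plus_A2 {q p s t n β VS Y K : ℕ} (hq : 4 ≤ q) (hY : 64 ≤ Y)
    (h1 : VS ≤ t * β) (h2 : s * t ≤ n)
    (h3 : (q - 1) * n < q * (Y * Y) + (q - 1) * Y) (h4 : s * β = q * (Y * Y))
    (hVS : 4 * ((q - 1) * K) ≤ p * p * VS) (hK : K = Y * (Y - 1))
    (hβ : p * β ≤ q * Y) : False := by
  obtain ⟨q', rfl⟩ : ∃ q', q = q' + 4 := ⟨q - 4, by omega⟩
  rw [show q' + 4 - 1 = q' + 3 by omega] at *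
  obtain ⟨y, rfl⟩ : ∃ y, Y = y + 1 := ⟨Y - 1, by omega⟩
  rw [Nat.add_sub_cancel] at hK
  have h5 := plus_aux1 (c := q' + 3) h1 h2 h4
  have h6 : (4 * (q' + 3) * (q' + 3) * y) * ((q' + 4) * (y + 1) * ((y + 1) * (y + 1))) <
      ((q' + 4) * ((q' + 4) * (y + 1) + (q' + 3))) * ((q' + 4) * (y + 1) * ((y + 1) * (y + 1))) := by
    calc (4 * (q' + 3) * (q' + 3) * y) * ((q' + 4) * (y + 1) * ((y + 1) * (y + 1)))
        = (q' + 3) * ((q' + 4) * ((y + 1) * (y + 1))) * (4 * ((q' + 3) * K)) := by rw [hK]; ring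
      _ ≤ (q' + 3) * ((q' + 4) * ((y + 1) * (y + 1))) * (p * p * VS) :=
          Nat.mul_le_mul_left _ hVS
      _ = p * p * ((q' + 3) * VS * ((q' + 4) * ((y + 1) * (y + 1)))) := by ring
      _ ≤ p * p * (((q' + 3) * n) * (β * β)) := Nat.mul_le_mul_left _ h5
      _ = ((p * β) * (p * β)) * ((q' + 3) * n) := by ring
      _ ≤ (((q' + 4) * (y + 1)) * ((q' + 4) * (y + 1))) * ((q' + 3) * n) :=
          Nat.mul_le_mul_right _ (Nat.mul_le_mul hβ hβ)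
      _ < (((q' + 4) * (y + 1)) * ((q' + 4) * (y + 1))) *
          ((q' + 4) * ((y + 1) * (y + 1)) + (q' + 3) * (y + 1)) :=
          Nat.mul_lt_mul_of_pos_left h3 (by positivity)
      _ = _ := by ring
  have h7 := lt_of_mul_lt_mul_right h6 (Nat.zero_le _)
  have hy : 63 ≤ y := by omega
  nlinarith [Nat.zero_le (q' * y), Nat.zero_le (q' * q' * y), Nat.mul_le_mul_left q' hy,
    Nat.mul_le_mul_left (q' * q') hy]

theorem plus_A3 {q p s t n β VS M Y u : ℕ} (hq : 4 ≤ q) (hp : 2 ≤ p) (hu : q ^ 2 ≤ u)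
    (hYu : Y = q * u) (h1 : VS * M ≤ t * (β * β)) (h2 : s * t ≤ n)
    (h3 : (q - 1) * n < q * (Y * Y) + (q - 1) * Y) (h4 : s * β = q * (Y * Y))
    (hVS : Y * Y ≤ VS) (hM : Y * u ≤ M) (hβ : p * β ≤ q * Y) : False := by
  obtain ⟨q', rfl⟩ : ∃ q', q = q' + 4 := ⟨q - 4, by omega⟩
  rw [show q' + 4 - 1 = q' + 3 by omega] at *
  have hu0 : 0 < u := lt_of_lt_of_le (by positivity) hu
  have hY0 : 0 < Y := by rw [hYu]; positivity
  have h8 : 8 ≤ p * p * p := by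
    calc 8 = 2 * 2 * 2 := by norm_num
      _ ≤ p * p * p := Nat.mul_le_mul (Nat.mul_le_mul hp hp) hp
  have h6 : (8 * (q' + 3) * u) * ((q' + 4) * Y * Y * Y * (Y * Y)) <
      ((q' + 4) * Y + (q' + 3)) * (q' + 4) ^ 2 * ((q' + 4) * Y * Y * Y * Y) := by
    calc (8 * (q' + 3) * u) * ((q' + 4) * Y * Y * Y * (Y * Y))
        = 8 * ((q' + 3) * ((q' + 4) * (Y * Y)) * ((Y * Y) * (Y * u))) := by ring
      _ ≤ (p * p * p) * ((q' + 3) * ((q' + 4) * (Y * Y)) * (VS * M)) := by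
          refine Nat.mul_le_mul h8 (Nat.mul_le_mul_left _ (Nat.mul_le_mul hVS hM))
      _ ≤ (p * p * p) * ((q' + 3) * ((q' + 4) * (Y * Y)) * (t * (β * β))) :=
          Nat.mul_le_mul_left _ (Nat.mul_le_mul_left _ h1)
      _ = ((p * β) * (p * β) * (p * β)) * ((q' + 3) * (s * t)) := by rw [← h4]; ring
      _ ≤ (((q' + 4) * Y) * ((q' + 4) * Y) * ((q' + 4) * Y)) * ((q' + 3) * n) :=
          Nat.mul_le_mul (Nat.mul_le_mul (Nat.mul_le_mul hβ hβ) hβ) (Nat.mul_le_mul_left _ h2)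
      _ < (((q' + 4) * Y) * ((q' + 4) * Y) * ((q' + 4) * Y)) *
          ((q' + 4) * (Y * Y) + (q' + 3) * Y) :=
          Nat.mul_lt_mul_of_pos_left h3 (by positivity)
      _ = _ := by ring
  have h7 : (8 * (q' + 3) * u * Y) * ((q' + 4) * Y * Y * Y * Y) <
      ((q' + 4) * Y + (q' + 3)) * (q' + 4) ^ 2 * ((q' + 4) * Y * Y * Y * Y) := by
    calc _ = (8 * (q' + 3) * u) * ((q' + 4) * Y * Y * Y * (Y * Y)) := by ring
      _ < _ := h6
  have h9 := lt_of_mul_lt_mul_right h7 (Nat.zero_le _)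
  -- `8 (q-1) u Y < (q Y + q - 1) q²`, `u ≥ q²`
  have h10 : 8 * (q' + 3) * (q' + 4) ^ 2 * Y ≤ 8 * (q' + 3) * u * Y :=
    Nat.mul_le_mul_right _ (Nat.mul_le_mul_left _ hu)
  have h11 : (8 * (q' + 3) * Y) * (q' + 4) ^ 2 < ((q' + 4) * Y + (q' + 3)) * (q' + 4) ^ 2 := by
    calc _ = 8 * (q' + 3) * (q' + 4) ^ 2 * Y := by ring
      _ ≤ _ := h10
      _ < _ := h9
  have h12 := lt_of_mul_lt_mul_right h11 (Nat.zero_le _)
  have : (q' + 3) ≤ (q' + 3) * Y := Nat.le_mul_of_pos_right _ hY0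
  nlinarith

theorem plus_A4 {q p s t n a VS M Y u : ℕ} (hq : 4 ≤ q) (hp : 2 ≤ p) (hu : q ^ 2 ≤ u)
    (hYu : Y = q * u) (h1 : VS * M ≤ t * (a * a)) (h2 : s * t ≤ n) (hs : 0 < s)
    (h3 : (q - 1) * n < q * (Y * Y) + (q - 1) * Y) (ha : a = q * s)
    (hVS : Y * Y ≤ VS) (hM : Y * u ≤ M) (hβ : p * s ≤ Y) : False := by
  obtain ⟨q', rfl⟩ : ∃ q', q = q' + 4 := ⟨q - 4, by omega⟩
  rw [show q' + 4 - 1 = q' + 3 by omega] at *
  have hu0 : 0 < u := lt_of_lt_of_le (by positivity) hu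
  have hY0 : 0 < Y := by rw [hYu]; positivity
  have h6 : (2 * (q' + 3) * u * Y) * (Y * Y * s) <
      (((q' + 4) * Y + (q' + 3)) * (q' + 4) ^ 2) * (Y * Y * s) := by
    calc (2 * (q' + 3) * u * Y) * (Y * Y * s)
        = 2 * (((q' + 3) * s) * ((Y * Y) * (Y * u))) := by ring
      _ ≤ p * (((q' + 3) * s) * (VS * M)) := by
          refine Nat.mul_le_mul hp (Nat.mul_le_mul_left _ (Nat.mul_le_mul hVS hM))
      _ ≤ p * (((q' + 3) * s) * (t * (a * a))) :=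
          Nat.mul_le_mul_left _ (Nat.mul_le_mul_left _ h1)
      _ = ((p * s) * (s * (q' + 4) ^ 2)) * ((q' + 3) * (s * t)) := by rw [ha]; ring
      _ ≤ (Y * (s * (q' + 4) ^ 2)) * ((q' + 3) * n) :=
          Nat.mul_le_mul (Nat.mul_le_mul_right _ hβ) (Nat.mul_le_mul_left _ h2)
      _ < (Y * (s * (q' + 4) ^ 2)) * ((q' + 4) * (Y * Y) + (q' + 3) * Y) :=
          Nat.mul_lt_mul_of_pos_left h3 (by positivity)
      _ = _ := by ring
  have h9 := lt_of_mul_lt_mul_right h6 (Nat.zero_le _)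
  have h10 : 2 * (q' + 3) * (q' + 4) ^ 2 * Y ≤ 2 * (q' + 3) * u * Y :=
    Nat.mul_le_mul_right _ (Nat.mul_le_mul_left _ hu)
  have h11 : (2 * (q' + 3) * Y) * (q' + 4) ^ 2 < ((q' + 4) * Y + (q' + 3)) * (q' + 4) ^ 2 := by
    calc _ = 2 * (q' + 3) * (q' + 4) ^ 2 * Y := by ring
      _ ≤ _ := h10
      _ < _ := h9
  have h12 := lt_of_mul_lt_mul_right h11 (Nat.zero_le _)
  have h13 : 2 ≤ Y := by
    rw [hYu]
    have : 4 * 1 ≤ (q' + 4) * u := Nat.mul_le_mul (by omega) hu0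
    omega
  nlinarith [Nat.mul_le_mul_left q' h13]

theorem plus_A5 {q s t n a K Y u : ℕ} (hq : 4 ≤ q) (hu : q ^ 2 ≤ u)
    (hYu : Y = q * u) (h2 : s * t ≤ n) (hs : 0 < s)
    (h3 : (q - 1) * n < q * (Y * Y) + (q - 1) * Y) (ha : a = q * s)
    (hK : K = Y * (Y - 1)) (h1 : (q - 1) * K * ((q - 1) * u ^ 2) ≤ t * (a * a))
    (hsY : s ≤ Y) : False := by
  obtain ⟨q', rfl⟩ : ∃ q', q = q' + 4 := ⟨q - 4, by omega⟩
  rw [show q' + 4 - 1 = q' + 3 by omega] at *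
  have hu0 : 0 < u := lt_of_lt_of_le (by positivity) hu
  have hY64 : 64 ≤ Y := by
    rw [hYu]
    have h16 : 16 ≤ u := by nlinarith
    calc 64 = 4 * 16 := by norm_num
      _ ≤ _ := Nat.mul_le_mul (by omega) h16
  obtain ⟨y, hy⟩ : ∃ y, Y = y + 1 := ⟨Y - 1, by omega⟩
  have hK' : K = Y * y := by rw [hK, hy, Nat.add_sub_cancel]
  have h6 : ((q' + 3) ^ 3 * y * u) * (Y * u * s) <
      (((q' + 4) * Y + (q' + 3)) * (q' + 4) ^ 3) * (Y * u * s) := by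
    calc ((q' + 3) ^ 3 * y * u) * (Y * u * s)
        = ((q' + 3) * s) * ((q' + 3) * K * ((q' + 3) * u ^ 2)) := by rw [hK']; ring
      _ ≤ ((q' + 3) * s) * (t * (a * a)) := Nat.mul_le_mul_left _ h1
      _ = (s * (s * (q' + 4) ^ 2)) * ((q' + 3) * (s * t)) := by rw [ha]; ring
      _ ≤ (Y * (s * (q' + 4) ^ 2)) * ((q' + 3) * n) :=
          Nat.mul_le_mul (Nat.mul_le_mul_right _ hsY) (Nat.mul_le_mul_left _ h2)
      _ < (Y * (s * (q' + 4) ^ 2)) * ((q' + 4) * (Y * Y) + (q' + 3) * Y) :=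
          Nat.mul_lt_mul_of_pos_left h3 (by positivity)
      _ = (((q' + 4) * Y + (q' + 3)) * (q' + 4) ^ 2) * (Y * s) * Y := by ring
      _ = (((q' + 4) * Y + (q' + 3)) * (q' + 4) ^ 2) * (Y * s) * ((q' + 4) * u) := by
          rw [← hYu]
      _ = _ := by ring
  have h9 := lt_of_mul_lt_mul_right h6 (Nat.zero_le _)
  have h10 : (q' + 3) ^ 3 * y * (q' + 4) ^ 2 ≤ (q' + 3) ^ 3 * y * u := Nat.mul_le_mul_left _ hu
  have h11 : ((q' + 3) ^ 3 * y) * (q' + 4) ^ 2 <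
      (((q' + 4) * Y + (q' + 3)) * (q' + 4)) * (q' + 4) ^ 2 := by
    calc _ ≤ _ := h10
      _ < _ := h9
      _ = _ := by ring
  have h12 := lt_of_mul_lt_mul_right h11 (Nat.zero_le _)
  rw [hy] at h12
  have hy63 : 63 ≤ y := by omega
  have e1 : (q' + 3) ^ 3 * y = q' ^ 3 * y + 9 * (q' ^ 2 * y) + 27 * (q' * y) + 27 * y := by ring
  have e2 : ((q' + 4) * (y + 1) + (q' + 3)) * (q' + 4) =
      q' ^ 2 * y + 8 * (q' * y) + 16 * y + 2 * q' ^ 2 + 15 * q' + 28 := by ring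
  rw [e1, e2] at h12
  have e3 : q' ^ 2 * 63 ≤ q' ^ 2 * y := Nat.mul_le_mul_left _ hy63
  have e4 : q' * 63 ≤ q' * y := Nat.mul_le_mul_left _ hy63
  omega

theorem plus_A6 {q t n VS M Y u : ℕ} (hq : 4 ≤ q) (hu : q ^ 3 ≤ u)
    (hYu : Y = q * u) (h1 : VS * M ≤ t * ((q * Y) * (q * Y))) (h2 : Y * t ≤ n)
    (h3 : (q - 1) * n < q * (Y * Y) + (q - 1) * Y)
    (hVS : Y * Y ≤ VS) (hM : Y * u ≤ M) : False := by
  obtain ⟨q', rfl⟩ : ∃ q', q = q' + 4 := ⟨q - 4, by omega⟩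
  rw [show q' + 4 - 1 = q' + 3 by omega] at *
  have hu0 : 0 < u := lt_of_lt_of_le (by positivity) hu
  have hY0 : 0 < Y := by rw [hYu]; positivity
  have h6 : ((q' + 3) * u * Y) * (Y * Y * Y) <
      (((q' + 4) * Y + (q' + 3)) * (q' + 4) ^ 2) * (Y * Y * Y) := by
    calc ((q' + 3) * u * Y) * (Y * Y * Y)
        = ((q' + 3) * Y) * ((Y * Y) * (Y * u)) := by ring
      _ ≤ ((q' + 3) * Y) * (VS * M) := Nat.mul_le_mul_left _ (Nat.mul_le_mul hVS hM)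
      _ ≤ ((q' + 3) * Y) * (t * (((q' + 4) * Y) * ((q' + 4) * Y))) := Nat.mul_le_mul_left _ h1
      _ = (((q' + 4) * Y) * ((q' + 4) * Y)) * ((q' + 3) * (Y * t)) := by ring
      _ ≤ (((q' + 4) * Y) * ((q' + 4) * Y)) * ((q' + 3) * n) :=
          Nat.mul_le_mul_left _ (Nat.mul_le_mul_left _ h2)
      _ < (((q' + 4) * Y) * ((q' + 4) * Y)) * ((q' + 4) * (Y * Y) + (q' + 3) * Y) :=
          Nat.mul_lt_mul_of_pos_left h3 (by positivity)
      _ = _ := by ring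
  have h9 := lt_of_mul_lt_mul_right h6 (Nat.zero_le _)
  have h10 : (q' + 3) * (q' + 4) ^ 3 * Y ≤ (q' + 3) * u * Y :=
    Nat.mul_le_mul_right _ (Nat.mul_le_mul_left _ hu)
  have h11 : ((q' + 3) * (q' + 4) * Y) * (q' + 4) ^ 2 <
      ((q' + 4) * Y + (q' + 3)) * (q' + 4) ^ 2 := by
    calc _ = (q' + 3) * (q' + 4) ^ 3 * Y := by ring
      _ ≤ _ := h10
      _ < _ := h9
  have h12 := lt_of_mul_lt_mul_right h11 (Nat.zero_le _)
  nlinarith [Nat.mul_le_mul_left q' hY0]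

end Cfsg.Agent.H75.OrthIdx
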