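import Cfsg.Agent.H75.PlusGeo

/-!
Plus type in dimension eight: stabilisers of maximal totally singular subspaces and the
exceptional case.
-/

set_option autoImplicit false

namespace Cfsg.Agent.H75.OrthIdx

open QuadraticMap Cfsg.Agent.LieClassical.OrthCore Cfsg.Agent.LieClassical.OrthTrans

variable {F V : Type*} [Field F] [AddCommGroup V] [Module F V] {Q : QuadraticForm F V}

section fin

variable [Finite F] [FiniteDimensional F V]

omit [Finite F] in
/-- Two vectors of a subspace independent of `e`. -/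
theorem exists_two_indep {T : Submodule F V} {e : V} (he0 : e ≠ 0)
    (hT3 : 3 ≤ Module.finrank F T) :
    ∃ v1 ∈ T, ∃ v2 ∈ T, LinearIndependent F ![e, v1, v2] := by
  have h1 : ∃ v1 ∈ T, v1 ∉ Submodule.span F {e} := by
    by_contra hcon
    push Not at hcon
    have h2 := Submodule.finrank_mono (show T ≤ Submodule.span F {e} from hcon)
    rw [finrank_span_singleton he0] at h2
    omega
  obtain ⟨v1, hv1, hv1n⟩ := h1
  have hli := li2_of_notMem (F := F) he0 hv1n
  have h2 : ∃ v2 ∈ T, v2 ∉ Submodule.span F {e, v1} := by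
    by_contra hcon
    push Not at hcon
    have h2 := Submodule.finrank_mono (show T ≤ Submodule.span F {e, v1} from hcon)
    have h3 := finrank_span_pair_le (F := F) e v1
    omega
  obtain ⟨v2, hv2, hv2n⟩ := h2
  exact ⟨v1, hv1, v2, hv2, li3_of_notMem hli hv2n⟩

/-- Pairs in a subspace. -/
theorem ncard_pairs_sub {T : Submodule F V} {e : V} (heT : e ∈ T) (he0 : e ≠ 0) (v1 v2 : V) :
    (PairSet Q e v1 v2 ∩ (T : Set V) ×ˢ (T : Set V)).ncard ≤
      (Nat.card F ^ Module.finrank F T - Nat.card F) *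
        (Nat.card F ^ Module.finrank F T - Nat.card F ^ 2) := by
  classical
  have : Finite V := Module.finite_of_finite F
  have hTc : (T : Set V).ncard = Nat.card F ^ Module.finrank F T := by
    have h1 : (T : Set V).ncard = Nat.card T := rfl
    rw [h1, Module.natCard_eq_pow_finrank (K := F) (V := T)]
  have hec : (Submodule.span F {e} : Set V).ncard = Nat.card F := by
    have h3 : (Submodule.span F {e} : Set V).ncard = Nat.card (Submodule.span F {e}) := rfl
    rw [h3, Module.natCard_eq_pow_finrank (K := F) (V := Submodule.span F {e}),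
      finrank_span_singleton he0, pow_one]
  have hW : ((T : Set V) \ (Submodule.span F {e} : Set V)).ncard =
      Nat.card F ^ Module.finrank F T - Nat.card F := by
    rw [Set.ncard_sdiff, hTc, hec]
    rw [SetLike.coe_subset_coe, Submodule.span_singleton_le_iff_mem]; exact heT
  rw [← hW]
  apply ncard_le_mul
  · rintro ⟨a, b⟩ ⟨⟨-, -, hli, -⟩, ha, -⟩
    refine ⟨ha, fun hmem => ?_⟩
    obtain ⟨c, hc⟩ := Submodule.mem_span_singleton.1 hmem
    have hc' : c • e = a := hc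
    rw [Fintype.linearIndependent_iff] at hli
    have h5 := hli ![c, -1, 0] (by
      rw [Fin.sum_univ_three]
      show c • e + (-1 : F) • a + (0 : F) • b = 0
      rw [← hc']; module) 1
    have h6 : (-1 : F) = 0 := h5
    exact one_ne_zero (neg_eq_zero.1 h6)
  · rintro w ⟨hw, hwn⟩
    have hli := li2_of_notMem (F := F) he0 hwn
    have h1 : ((T : Set V) \ (Submodule.span F {e, w} : Set V)).ncard =
        Nat.card F ^ Module.finrank F T - Nat.card F ^ 2 := by
      rw [Set.ncard_sdiff, hTc, ncard_span_pair hli]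
      rw [SetLike.coe_subset_coe, Submodule.span_le]
      rintro x (rfl | rfl)
      · exact heT
      · exact hw
    rw [← h1]
    refine Set.ncard_le_ncard ?_ (Set.toFinite _)
    rintro y ⟨⟨-, -, hli3, -⟩, -, hy⟩
    refine ⟨hy, fun hmem => ?_⟩
    obtain ⟨a, b, hab⟩ := Submodule.mem_span_pair.1 hmem
    rw [Fintype.linearIndependent_iff] at hli3
    have h5 := hli3 ![a, b, -1] (by
      rw [Fin.sum_univ_three]
      show a • e + b • w + (-1 : F) • y = 0
      rw [← hab]; module) 2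
    have h6 : (-1 : F) = 0 := h5
    exact one_ne_zero (neg_eq_zero.1 h6)

omit [Finite F] [FiniteDimensional F V] in
theorem stab_StT {T : Submodule F V} {e f : V} (b : Bool) :
    Stab Q e f b (StT Q T ⊓ Pst Q e) (T : Set V) := by
  intro n hn v hv
  exact T.smul_mem _ ((hn.1.2 v).1 hv)

/-- The number of maximal totally singular subspaces (of one class) on a point. -/
theorem le_relIndex_StT_Pst (hG : Good Q) (hC : PlusCount Q 4) {T : Submodule F V}
    (hT : ∀ x ∈ T, Q x = 0) (hT4 : Module.finrank F T = 4) {e : V} (heT : e ∈ T) (he0 : e ≠ 0) :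
    (Nat.card F + 1) * (Nat.card F ^ 2 + 1) ≤ (StT Q T ⊓ Pst Q e).relIndex (Pst Q e) := by
  have hQ := hG.nondeg
  have hd := hC.finrank
  obtain ⟨f, h⟩ := exists_hyp hQ (hT e heT) he0
  obtain ⟨v1, hv1, v2, hv2, hli⟩ := exists_two_indep (T := T) he0 (by omega)
  obtain ⟨-, hVS, hM⟩ := hC.data hQ h (u := Nat.card F ^ 2) (Y := Nat.card F * Nat.card F ^ 2)
    rfl rfl
  have h1 := ts_pair_bound hG (by omega) h true (StT Q T ⊓ Pst Q e) (T : Set V) (stab_StT true)
    hv1 hv2 (polar_eq_zero_of_ts hT heT hv1) (polar_eq_zero_of_ts hT heT hv2) (hT v1 hv1)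
    (hT v2 hv2) (polar_eq_zero_of_ts hT hv1 hv2) hli hM.le
  have h2 := ncard_pairs_sub (Q := Q) heT he0 v1 v2
  rw [hT4] at h2
  have h3 := hVS v1 (hT v1 hv1)
  have hq1 : 1 < Nat.card F := Finite.one_lt_card
  generalize Nat.card F = q at *
  obtain ⟨q', rfl⟩ : ∃ q', q = q' + 2 := ⟨q - 2, by omega⟩
  rw [show q' + 2 - 1 = q' + 1 by omega] at *
  set X := (VecSet Q e v1).ncard
  set t := (StT Q T ⊓ Pst Q e).relIndex (Pst Q e)
  set P := (PairSet Q e v1 v2 ∩ (T : Set V) ×ˢ (T : Set V)).ncard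
  -- write everything without subtraction
  obtain ⟨a, ha⟩ : ∃ a, (q' + 2) ^ 3 = a + 1 := ⟨(q' + 2) ^ 3 - 1, by
    have : 0 < (q' + 2) ^ 3 := by positivity
    omega⟩
  obtain ⟨b, hb⟩ : ∃ b, (q' + 2) ^ 2 = b + 1 := ⟨(q' + 2) ^ 2 - 1, by
    have : 0 < (q' + 2) ^ 2 := by positivity
    omega⟩
  have e1 : (q' + 2) ^ 4 - (q' + 2) = (q' + 2) * a := by
    have : (q' + 2) ^ 4 = (q' + 2) * a + (q' + 2) := by
      calc (q' + 2) ^ 4 = (q' + 2) * (q' + 2) ^ 3 := by ring
        _ = _ := by rw [ha]; ring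
    omega
  have e2 : (q' + 2) ^ 4 - (q' + 2) ^ 2 = (q' + 2) ^ 2 * b := by
    have : (q' + 2) ^ 4 = (q' + 2) ^ 2 * b + (q' + 2) ^ 2 := by
      calc (q' + 2) ^ 4 = (q' + 2) ^ 2 * (q' + 2) ^ 2 := by ring
        _ = (q' + 2) ^ 2 * (b + 1) := by rw [← hb]
        _ = _ := by ring
    omega
  rw [e1, e2] at h2
  have e3 : X = (q' + 2) * a * ((q' + 2) ^ 2 + 1) := by
    have h4 : (q' + 2) * (q' + 2) ^ 2 = a + 1 := by rw [← ha]; ring
    rw [h4] at h3
    have h5 : (a + 1) * (a + 1) + (q' + 1) * (a + 1) =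
        (q' + 2) * a * ((q' + 2) ^ 2 + 1) + (q' + 2) := by
      have h6 : (q' + 2) * a * ((q' + 2) ^ 2 + 1) = a * ((q' + 2) ^ 3) + (q' + 2) * a := by ring
      rw [h6, ha]; ring
    omega
  have e4 : (q' + 2) * (q' + 2) ^ 2 * (q' + 2) ^ 2 + (q' + 1) * ((q' + 2) * (q' + 2) ^ 2) -
      (q' + 2) ^ 2 = (q' + 2) ^ 2 * b * (q' + 3) := by
    have h6 : (q' + 2) * (q' + 2) ^ 2 * (q' + 2) ^ 2 + (q' + 1) * ((q' + 2) * (q' + 2) ^ 2) =
        (q' + 2) ^ 2 * b * (q' + 3) + (q' + 2) ^ 2 := by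
      have h7 : b + 1 = (q' + 2) ^ 2 := hb.symm
      have h8 : (q' + 2) ^ 2 * b * (q' + 3) + (q' + 2) ^ 2 + (q' + 2) ^ 2 * (q' + 3) =
          (q' + 2) ^ 2 * (b + 1) * (q' + 3) + (q' + 2) ^ 2 := by ring
      have h9 : (q' + 2) * (q' + 2) ^ 2 * (q' + 2) ^ 2 + (q' + 1) * ((q' + 2) * (q' + 2) ^ 2) +
          (q' + 2) ^ 2 * (q' + 3) = (q' + 2) ^ 2 * (q' + 2) ^ 2 * (q' + 3) + (q' + 2) ^ 2 := by
        ring
      rw [h7] at h8
      omega
    omega
  rw [e3, e4] at h1
  have hapos : 0 < a := by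
    have : 2 ^ 3 ≤ (q' + 2) ^ 3 := Nat.pow_le_pow_left (by omega) _
    omega
  have hbpos : 0 < b := by
    have : 2 ^ 2 ≤ (q' + 2) ^ 2 := Nat.pow_le_pow_left (by omega) _
    omega
  have h4 : ((q' + 2 + 1) * ((q' + 2) ^ 2 + 1)) * ((q' + 2) * a * ((q' + 2) ^ 2 * b)) ≤
      t * ((q' + 2) * a * ((q' + 2) ^ 2 * b)) := by
    calc _ = (q' + 2) * a * ((q' + 2) ^ 2 + 1) * ((q' + 2) ^ 2 * b * (q' + 3)) := by ring
      _ ≤ t * P := h1
      _ ≤ _ := Nat.mul_le_mul_left _ h2
  exact Nat.le_of_mul_le_mul_right h4 (by positivity)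

/-- The index of the stabiliser of a maximal totally singular subspace in dimension eight. -/
theorem le_relIndex_StT_max (hG : Good Q) (hC : PlusCount Q 4) {T : Submodule F V}
    (hT : ∀ x ∈ T, Q x = 0) (hT4 : Module.finrank F T = 4) :
    (Nat.card F ^ 3 + 1) * ((Nat.card F + 1) * (Nat.card F ^ 2 + 1)) ≤
      (StT Q T).relIndex (E Q) := by
  classical
  have : Finite V := Module.finite_of_finite F
  have hq1 : 1 < Nat.card F := Finite.one_lt_card
  obtain ⟨e, heT, he0⟩ := (Submodule.ne_bot_iff T).1 (by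
    intro h1
    rw [h1, finrank_bot] at hT4
    omega)
  have heQ := hT e heT
  set G := StT Q T with hGdef
  have hGE : G ≤ E Q := fun g hg => hg.1
  have h1 : (G ⊓ Pst Q e).relIndex G * G.relIndex (E Q) = (G ⊓ Pst Q e).relIndex (E Q) :=
    Subgroup.relIndex_mul_relIndex _ _ _ inf_le_left hGE
  have h2 : (G ⊓ Pst Q e).relIndex (Pst Q e) * (Pst Q e).relIndex (E Q) =
      (G ⊓ Pst Q e).relIndex (E Q) :=
    Subgroup.relIndex_mul_relIndex _ _ _ inf_le_right (Pst_le_E e)
  have h3 := le_relIndex_StT_Pst hG hC hT hT4 heT he0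
  rw [← hGdef] at h3
  -- the point stabiliser
  have h4 := sing_point_bound hG (Pst_le_E e) he0 heQ (fun g hg => by
    obtain ⟨-, c, -, hc⟩ := hg
    rw [hc]; exact Submodule.smul_mem _ _ (Submodule.mem_span_singleton_self e))
  -- orbit of the point in `T`
  have h5 : (G ⊓ Pst Q e).relIndex G * (Nat.card F - 1) ≤ Nat.card F ^ 4 - 1 := by
    have hTc : ((T : Set V) \ {0}).ncard = Nat.card F ^ 4 - 1 := by
      rw [Set.ncard_sdiff_singleton_of_mem (Submodule.zero_mem _)]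
      have h1 : (T : Set V).ncard = Nat.card T := rfl
      rw [h1, Module.natCard_eq_pow_finrank (K := F) (V := T), hT4]
    have hec : ((Submodule.span F {e} : Set V) \ {0}).ncard = Nat.card F - 1 := by
      rw [Set.ncard_sdiff_singleton_of_mem (Submodule.zero_mem _)]
      have h3 : (Submodule.span F {e} : Set V).ncard = Nat.card (Submodule.span F {e}) := rfl
      rw [h3, Module.natCard_eq_pow_finrank (K := F) (V := Submodule.span F {e}),
        finrank_span_singleton he0, pow_one]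
    rw [← hTc, ← hec]
    refine relIndex_mul_ncard_le G _ (relIndex_ne _ _) (fun g y => g y) _ _ (Set.toFinite _)
      ?_ ?_ ?_
    · rintro g hg x ⟨hx, hx0⟩
      obtain ⟨c, rfl⟩ := Submodule.mem_span_singleton.1 hx
      refine ⟨(hg.2 _).1 (T.smul_mem _ heT), ?_⟩
      intro h6
      exact hx0 ((map_eq_zero_iff g g.injective).1 h6)
    · rintro g hg g' hg' x ⟨hx, hx0⟩ x' ⟨hx', hx0'⟩ heq
      obtain ⟨c, rfl⟩ := Submodule.mem_span_singleton.1 hx
      obtain ⟨c', rfl⟩ := Submodule.mem_span_singleton.1 hx'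
      have hc : c ≠ 0 := fun h => hx0 (by rw [h, zero_smul]; rfl)
      have hc' : c' ≠ 0 := fun h => hx0' (by rw [h, zero_smul]; rfl)
      have hg'' := G.mul_mem (G.inv_mem hg) hg'
      refine ⟨hg'', hg''.1, c'⁻¹ * c, mul_ne_zero (inv_ne_zero hc') hc, ?_⟩
      show g⁻¹ (g' e) = _
      have h2 : g (c • e) = g' (c' • e) := heq
      rw [map_smul g'] at h2
      have h3 : g' e = c'⁻¹ • g (c • e) := by
        rw [h2, smul_smul, inv_mul_cancel₀ hc', one_smul]
      have h4 : g⁻¹ (g (c • e)) = c • e := LinearEquiv.symm_apply_apply g _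
      rw [h3, map_smul, h4, smul_smul]
    · intro g _ x _ y _ h
      exact g.injective h
  have hz := hC.zero
  have hz' : {w : V | Q w = 0}.ncard = {w : V | w ≠ 0 ∧ Q w = 0}.ncard + 1 := by
    have := Fintype.ofFinite F
    exact ncard_ne_zero_sing Q
  rw [hz'] at hz
  set S := {w : V | w ≠ 0 ∧ Q w = 0}.ncard
  set N := G.relIndex (E Q)
  set a := (G ⊓ Pst Q e).relIndex G
  set b := (G ⊓ Pst Q e).relIndex (Pst Q e)
  set c := (Pst Q e).relIndex (E Q)
  generalize Nat.card F = q at *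
  obtain ⟨q', rfl⟩ : ∃ q', q = q' + 2 := ⟨q - 2, by omega⟩
  rw [show q' + 2 - 1 = q' + 1 by omega] at *
  have e1 : (q' + 2) ^ 4 - 1 = (q' + 1) * ((q' + 2 + 1) * ((q' + 2) ^ 2 + 1)) := by
    have : (q' + 2) ^ 4 = (q' + 1) * ((q' + 2 + 1) * ((q' + 2) ^ 2 + 1)) + 1 := by ring
    omega
  have e2 : S = (q' + 1) * (((q' + 2) ^ 3 + 1) * ((q' + 2 + 1) * ((q' + 2) ^ 2 + 1))) := by
    have e3 : (q' + 2) ^ (2 * 4 - 1) + (q' + 2) ^ 4 =
      (q' + 1) * (((q' + 2) ^ 3 + 1) * ((q' + 2 + 1) * ((q' + 2) ^ 2 + 1))) + 1 +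
        (q' + 2) ^ (4 - 1) := by
      norm_num
      ring
    omega
  rw [e1] at h5
  have h6 : ((q' + 1) * ((q' + 2 + 1) * ((q' + 2) ^ 2 + 1))) *
      (((q' + 2) ^ 3 + 1) * ((q' + 2 + 1) * ((q' + 2) ^ 2 + 1))) ≤
      ((q' + 1) * ((q' + 2 + 1) * ((q' + 2) ^ 2 + 1))) * N := by
    calc _ = ((q' + 2 + 1) * ((q' + 2) ^ 2 + 1)) * S := by rw [e2]; ring
      _ ≤ b * (c * (q' + 1)) := Nat.mul_le_mul h3 h4
      _ = (a * (q' + 1)) * N := by
          calc b * (c * (q' + 1)) = (b * c) * (q' + 1) := by ring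
            _ = (a * N) * (q' + 1) := by rw [h2, ← h1]
            _ = _ := by ring
      _ ≤ _ := Nat.mul_le_mul_right _ h5
  exact Nat.le_of_mul_le_mul_left h6 (by positivity)

end fin

end Cfsg.Agent.H75.OrthIdx
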