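import Cfsg.Agent.H75.PlusMain
import Cfsg.Agent.H75.Transfer

/-!
Plus type, `q ≥ 4`: stabilisers of totally singular subspaces, the exceptional case in dimension
eight, and the lower bound.
-/

set_option autoImplicit false

namespace Cfsg.Agent.H75.OrthIdx

open QuadraticMap Cfsg.Agent.LieClassical.OrthCore Cfsg.Agent.LieClassical.OrthTrans

variable {F V : Type*} [Field F] [AddCommGroup V] [Module F V] {Q : QuadraticForm F V}

/-- Points with a small `Us`. -/
def Small (Q : QuadraticForm F V) (H : Subgroup (V ≃ₗ[F] V)) (e : V) : Prop :=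
  Module.finrank F (Us Q H e) ≤ 2 ∧ ((∀ x ∈ Us Q H e, Q x = 0) ∨
    ∃ a, Q a ≠ 0 ∧ polar Q e a = 0 ∧ Us Q H e ≤ Submodule.span F {e, a})

/-- Exceptional points: `Bs` is a totally singular subspace of dimension four. -/
def Exc (Q : QuadraticForm F V) (H : Subgroup (V ≃ₗ[F] V)) (e : V) : Prop :=
  ∃ M : Submodule F V, (Bs Q H e : Set V) = M ∧ (∀ x ∈ M, Q x = 0) ∧ Module.finrank F M = 4

theorem two_finrank_sup [FiniteDimensional F V] (hQ : Nondeg Q) {H : Subgroup (V ≃ₗ[F] V)}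
    {e f : V} (h : Hyp Q e f) (hcon : ∀ w, Q w ≠ 0 → w ∈ Ws Q H e → w ∉ Ws Q H f) :
    Module.finrank F V + 2 ≤
      2 * Module.finrank F (Us Q H e ⊔ Us Q H f : Submodule F V) := by
  set Y := Ws Q H e ⊓ Ws Q H f with hYdef
  set X := Us Q H e ⊔ Us Q H f with hXdef
  have hY : ∀ y ∈ Y, Q y = 0 := by
    rintro y ⟨hy1, hy2⟩
    by_contra hne
    exact hcon y hne hy1 hy2
  have hXY : perp Q X = Y := by
    rw [hXdef, perp_sup, Us, Us, perp_perp hQ, perp_perp hQ]
  have hYX : Y ≤ X := by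
    have h1 := le_perp_of_ts hY
    rwa [← hXY, perp_perp hQ, hXY] at h1
  have hdXY := finrank_perp_add hQ X
  rw [hXY] at hdXY
  have hdis : Disjoint Y (Submodule.span F {e, f}) := by
    rw [Submodule.disjoint_def]
    intro x hx hx'
    obtain ⟨a, b, rfl⟩ := Submodule.mem_span_pair.1 hx'
    have h3 := hx.1.1
    have h4 := hx.2.1
    rw [polar_add_right, polar_smul_right, polar_smul_right, h.polar_left, h.pair] at h3
    rw [polar_add_right, polar_smul_right, polar_smul_right, h.polar_right, h.pair'] at h4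
    simp only [smul_eq_mul, mul_zero, mul_one, zero_add, add_zero] at h3 h4
    rw [h3, h4]; simp
  have hle : Y ⊔ Submodule.span F {e, f} ≤ X := by
    refine sup_le hYX ?_
    rw [Submodule.span_le]
    rintro x (rfl | rfl)
    · exact Submodule.mem_sup_left self_mem_Us
    · exact Submodule.mem_sup_right self_mem_Us
  have h3 := Submodule.finrank_sup_add_finrank_inf_eq Y (Submodule.span F {e, f})
  have h4 := Submodule.finrank_mono hle
  have h5 : Module.finrank F (Submodule.span F {e, f}) = 2 := by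
    have := finrank_span_eq_card (hyp_linearIndependent h)
    rw [Matrix.range_cons_cons_empty] at this
    simpa using this
  rw [hdis.eq_bot, finrank_bot, h5] at h3
  omega

theorem com_of_small [FiniteDimensional F V] (hQ : Nondeg Q) (hd : 7 ≤ Module.finrank F V)
    {H : Subgroup (V ≃ₗ[F] V)} (hS : ∀ e ∈ PP Q H, Small Q H e) : Com Q H := by
  intro e f he hf h
  by_contra hcon
  push Not at hcon
  have h1 := two_finrank_sup hQ h hcon
  have h2 := Submodule.finrank_add_le_finrank_add_finrank (Us Q H e) (Us Q H f)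
  have h3 := (hS e he).1
  have h4 := (hS f hf).1
  omega

section fin

variable [Finite F] [FiniteDimensional F V]

theorem relIndex_ge_Pst {e : V} (he : Q e = 0) (H : Subgroup (V ≃ₗ[F] V)) :
    H.relIndex (rad Q e) * (Nst Q H e).relIndex (Pst Q e) ≤ H.relIndex (Pst Q e) := by
  have h1 : (H ⊓ Pst Q e).relIndex (Nst Q H e) * (Nst Q H e).relIndex (Pst Q e) =
      (H ⊓ Pst Q e).relIndex (Pst Q e) :=
    Subgroup.relIndex_mul_relIndex _ _ _ (inf_Pst_le_Nst e H) inf_le_left
  have h2 : (H ⊓ Pst Q e).relIndex (Pst Q e) = H.relIndex (Pst Q e) :=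
    Subgroup.inf_relIndex_right _ _
  have h4 : (H ⊓ Pst Q e).relIndex (rad Q e) ≤ (H ⊓ Pst Q e).relIndex (Nst Q H e) :=
    Subgroup.relIndex_le_of_le_right (rad_le_Nst he H) (relIndex_ne _ _)
  have h5 : H.relIndex (rad Q e) ≤ (H ⊓ Pst Q e).relIndex (rad Q e) :=
    Subgroup.relIndex_le_of_le_left inf_le_left (relIndex_ne _ _)
  calc H.relIndex (rad Q e) * (Nst Q H e).relIndex (Pst Q e)
      ≤ (H ⊓ Pst Q e).relIndex (Nst Q H e) * (Nst Q H e).relIndex (Pst Q e) :=
        Nat.mul_le_mul_right _ (h5.trans h4)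
    _ = H.relIndex (Pst Q e) := by rw [h1, h2]

/-- Two points in different `H`-orbits. -/
theorem orbit_sum {H : Subgroup (V ≃ₗ[F] V)} {e v : V} {x : V ≃ₗ[F] V}
    (hx : x ∈ E Q) (hxe : x e = v) (hne : ∀ h ∈ H, h v ∉ Submodule.span F {e}) :
    H.relIndex (Pst Q e) + H.relIndex (Pst Q v) ≤ H.relIndex (E Q) := by
  classical
  have := finite_equiv (F := F) (V := V)
  let φ : (Pst Q e ⧸ H.subgroupOf (Pst Q e)) ⊕ (Pst Q v ⧸ H.subgroupOf (Pst Q v)) →
      (E Q ⧸ H.subgroupOf (E Q)) := Sum.elim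
    (fun c => QuotientGroup.mk ⟨(c.out : Pst Q e), (c.out : Pst Q e).2.1⟩)
    (fun c => QuotientGroup.mk ⟨x⁻¹ * (c.out : Pst Q v),
      (E Q).mul_mem ((E Q).inv_mem hx) (c.out : Pst Q v).2.1⟩)
  have hφ : Function.Injective φ := by
    rintro (c | c) (c' | c') heq
    · have h1 : (QuotientGroup.mk ⟨(c.out : Pst Q e), (c.out : Pst Q e).2.1⟩ :
          E Q ⧸ H.subgroupOf (E Q)) = QuotientGroup.mk ⟨(c'.out : Pst Q e), (c'.out : Pst Q e).2.1⟩ :=
        heq
      rw [QuotientGroup.eq] at h1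
      have h2 : ((c.out : Pst Q e) : V ≃ₗ[F] V)⁻¹ * (c'.out : Pst Q e) ∈ H := h1
      congr 1
      rw [← Quotient.out_eq c, ← Quotient.out_eq c']
      exact QuotientGroup.eq.2 h2
    · exfalso
      have h1 : (QuotientGroup.mk ⟨(c.out : Pst Q e), (c.out : Pst Q e).2.1⟩ :
          E Q ⧸ H.subgroupOf (E Q)) = QuotientGroup.mk ⟨x⁻¹ * (c'.out : Pst Q v),
            (E Q).mul_mem ((E Q).inv_mem hx) (c'.out : Pst Q v).2.1⟩ := heq
      rw [QuotientGroup.eq] at h1
      set g := ((c.out : Pst Q e) : V ≃ₗ[F] V) with hg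
      set g' := ((c'.out : Pst Q v) : V ≃ₗ[F] V) with hg'
      have h2 : g⁻¹ * (x⁻¹ * g') ∈ H := h1
      apply hne _ h2
      obtain ⟨-, a, ha, hga⟩ := (Pst Q e).inv_mem (c.out : Pst Q e).2
      obtain ⟨-, b, hb, hgb⟩ := (c'.out : Pst Q v).2
      have h3 : (g⁻¹ * (x⁻¹ * g')) v = (b * a) • e := by
        show g⁻¹ (x⁻¹ (g' v)) = _
        have h4 : g' v = b • v := hgb
        have h5 : g⁻¹ e = a • e := hga
        have h6 : x⁻¹ v = e := by rw [← hxe]; exact LinearEquiv.symm_apply_apply x e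
        rw [h4, map_smul, h6, map_smul, h5, smul_smul]
      rw [h3]
      exact Submodule.smul_mem _ _ (Submodule.mem_span_singleton_self e)
    · exfalso
      have h1 : (QuotientGroup.mk ⟨(c'.out : Pst Q e), (c'.out : Pst Q e).2.1⟩ :
          E Q ⧸ H.subgroupOf (E Q)) = QuotientGroup.mk ⟨x⁻¹ * (c.out : Pst Q v),
            (E Q).mul_mem ((E Q).inv_mem hx) (c.out : Pst Q v).2.1⟩ := heq.symm
      rw [QuotientGroup.eq] at h1
      set g := ((c'.out : Pst Q e) : V ≃ₗ[F] V) with hg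
      set g' := ((c.out : Pst Q v) : V ≃ₗ[F] V) with hg'
      have h2 : g⁻¹ * (x⁻¹ * g') ∈ H := h1
      apply hne _ h2
      obtain ⟨-, a, ha, hga⟩ := (Pst Q e).inv_mem (c'.out : Pst Q e).2
      obtain ⟨-, b, hb, hgb⟩ := (c.out : Pst Q v).2
      have h3 : (g⁻¹ * (x⁻¹ * g')) v = (b * a) • e := by
        show g⁻¹ (x⁻¹ (g' v)) = _
        have h4 : g' v = b • v := hgb
        have h5 : g⁻¹ e = a • e := hga
        have h6 : x⁻¹ v = e := by rw [← hxe]; exact LinearEquiv.symm_apply_apply x e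
        rw [h4, map_smul, h6, map_smul, h5, smul_smul]
      rw [h3]
      exact Submodule.smul_mem _ _ (Submodule.mem_span_singleton_self e)
    · have h1 : (QuotientGroup.mk ⟨x⁻¹ * (c.out : Pst Q v),
            (E Q).mul_mem ((E Q).inv_mem hx) (c.out : Pst Q v).2.1⟩ :
          E Q ⧸ H.subgroupOf (E Q)) = QuotientGroup.mk ⟨x⁻¹ * (c'.out : Pst Q v),
            (E Q).mul_mem ((E Q).inv_mem hx) (c'.out : Pst Q v).2.1⟩ := heq
      rw [QuotientGroup.eq] at h1
      have h2 : (x⁻¹ * ((c.out : Pst Q v) : V ≃ₗ[F] V))⁻¹ * (x⁻¹ * (c'.out : Pst Q v)) ∈ H := h1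
      have h3 : (x⁻¹ * ((c.out : Pst Q v) : V ≃ₗ[F] V))⁻¹ * (x⁻¹ * (c'.out : Pst Q v)) =
          ((c.out : Pst Q v) : V ≃ₗ[F] V)⁻¹ * (c'.out : Pst Q v) := by group
      rw [h3] at h2
      congr 1
      rw [← Quotient.out_eq c, ← Quotient.out_eq c']
      exact QuotientGroup.eq.2 h2
  have hfi : Finite (E Q ⧸ H.subgroupOf (E Q)) := Quotient.finite _
  have h1 := Nat.card_le_card_of_injective φ hφ
  rw [Nat.card_sum] at h1
  exact h1

/-- small or exceptional -/
theorem plus_typ (hG : Good Q) {m : ℕ} (hC : PlusCount Q m) (hq4 : 4 ≤ Nat.card F)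
    {H : Subgroup (V ≃ₗ[F] V)}
    (hH : (Nat.card F - 1) * H.relIndex (E Q) <
      Nat.card F ^ (2 * m - 1) + (Nat.card F - 1) * Nat.card F ^ (m - 1))
    {e : V} (he : e ∈ PP Q H) : Small Q H e ∨ (m = 4 ∧ Exc Q H e) := by
  obtain ⟨he0, heQ, v, hv, hvn⟩ := he
  obtain ⟨f, h⟩ := exists_hyp hG.nondeg heQ he0
  obtain ⟨p, hp, θ, hpF, hθ, hcard, hdd⟩ := exists_dual (Q := Q) hG.nondeg
  have hle := Us_le_span hG.nondeg (hdd (Bs Q H e))
  rcases plus_dual hG hC hq4 θ hpF hθ hcard hdd hH h hv hvn with ⟨a, ha, h1⟩ | h1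
  · left
    have hle' : Us Q H e ≤ Submodule.span F {e, a} := by
      refine hle.trans ?_
      rw [Submodule.span_le]
      exact h1
    refine ⟨(Submodule.finrank_mono hle').trans (finrank_span_pair_le (F := F) e a), ?_⟩
    have hea := dl_perp hθ heQ ha
    by_cases haQ : Q a = 0
    · left
      intro x hx
      obtain ⟨s, t, rfl⟩ := Submodule.mem_span_pair.1 (hle' hx)
      rw [Q_add, QuadraticMap.map_smul, QuadraticMap.map_smul, heQ, haQ, polar_smul_left,
        polar_smul_right, hea]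
      simp
    · right
      exact ⟨a, haQ, hea, hle'⟩
  · right
    exact h1

end fin

end Cfsg.Agent.H75.OrthIdx
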