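import Cfsg.Agent.H75.Cnt2
import Cfsg.Agent.H75.OddGeo
import Cfsg.Agent.H75.PlusArith

/-!
Plus type, `q ≥ 4`: the dichotomy for the dual of `Bs`, with the exceptional case in dimension 8.
-/

set_option autoImplicit false

namespace Cfsg.Agent.H75.OrthIdx

open QuadraticMap Cfsg.Agent.LieClassical.OrthCore Cfsg.Agent.LieClassical.OrthTrans

variable {F V : Type*} [Field F] [AddCommGroup V] [Module F V] {Q : QuadraticForm F V}

/-- The number of vectors of each norm in plus type. -/
structure PlusCount (Q : QuadraticForm F V) (m : ℕ) : Prop where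
  finrank : Module.finrank F V = 2 * m
  four : 4 ≤ m
  zero : {w : V | Q w = 0}.ncard + Nat.card F ^ (m - 1) =
    Nat.card F ^ (2 * m - 1) + Nat.card F ^ m
  ne_zero : ∀ c : F, c ≠ 0 → {w : V | Q w = c}.ncard + Nat.card F ^ (m - 1) =
    Nat.card F ^ (2 * m - 1)

section fin

variable [Finite F] [FiniteDimensional F V]

/-- all the numerical data -/
theorem PlusCount.data {m : ℕ} (hC : PlusCount Q m) (hQ : Nondeg Q) {e f : V}
    (h : Hyp Q e f) {Y u : ℕ} (hu : u = Nat.card F ^ (m - 2)) (hY : Y = Nat.card F * u) :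
    (∀ c : F, c ≠ 0 → Y * (Y - 1) ≤ {w | polar Q e w = 0 ∧ Q w = c}.ncard) ∧
    (∀ w : V, Q w = 0 → (VecSet Q e w).ncard + Nat.card F =
      Y * Y + (Nat.card F - 1) * Y) ∧
    (Y * u + (Nat.card F - 1) * Y - Nat.card F ^ 2) + Nat.card F ^ 2 +
      (Nat.card F - 1) * Nat.card F ^ (Module.finrank F V - 3) =
        {w : V | polar Q e w = 0 ∧ Q w = 0}.ncard := by
  have hm := hC.four
  obtain ⟨r, rfl⟩ : ∃ r, m = r + 4 := ⟨m - 4, by omega⟩
  have hd := hC.finrank
  have e1 : r + 4 - 2 = r + 2 := by omega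
  rw [e1] at hu
  have hYm : Y = Nat.card F ^ (r + 3) := by rw [hY, hu]; ring
  have h1 := hC.zero
  have h2 := hC.ne_zero
  have e2 : r + 4 - 1 = r + 3 := by omega
  have e3 : Nat.card F ^ (2 * (r + 4) - 1) = Nat.card F * (Y * Y) := by
    rw [hYm, show 2 * (r + 4) - 1 = 1 + (r + 3) + (r + 3) by omega]; ring
  have e4 : Nat.card F ^ (r + 4) = Nat.card F * Y := by rw [hYm]; ring
  rw [e2, e3, ← hYm, e4] at h1
  simp only [e2, e3, ← hYm] at h2
  have e5 : Nat.card F ^ (Module.finrank F V - 2) = Y * Y := by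
    rw [hd, hYm, show 2 * (r + 4) - 2 = (r + 3) + (r + 3) by omega, pow_add]
  have e6 : Nat.card F ^ (Module.finrank F V - 3) = Y * u := by
    rw [hd, hYm, hu, show 2 * (r + 4) - 3 = (r + 3) + (r + 2) by omega, pow_add]
  have hq1 : 1 < Nat.card F := Finite.one_lt_card
  obtain ⟨q', hq'⟩ : ∃ q', Nat.card F = q' + 2 := ⟨Nat.card F - 2, by omega⟩
  have hYpos : 0 < Y := by rw [hYm]; positivity
  obtain ⟨y, hy⟩ : ∃ y, Y = y + 1 := ⟨Y - 1, by omega⟩
  have hz := ncard_norm_perp_sing hQ h 0
  rw [e5] at hz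
  have hN1 : {w | polar Q e w = 0 ∧ Q w = 0}.ncard = Y * Y + (Nat.card F - 1) * Y := by
    rw [hq'] at hz h1 ⊢
    rw [show q' + 2 - 1 = q' + 1 by omega] at hz ⊢
    have e7 : (q' + 2) * (Y * Y) = (q' + 1) * (Y * Y) + Y * Y := by ring
    have e8 : (q' + 2) * Y = (q' + 1) * Y + Y := by ring
    omega
  refine ⟨?_, ?_, ?_⟩
  · intro c hc
    have h3 := ncard_norm_perp_sing hQ h c
    rw [e5] at h3
    have h4 := h2 c hc
    rw [hq'] at h3 h4
    rw [show q' + 2 - 1 = q' + 1 by omega] at h3
    have e7 : (q' + 2) * (Y * Y) = (q' + 1) * (Y * Y) + Y * Y := by ring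
    have e8 : Y * (Y - 1) + Y = Y * Y := by
      rw [hy, Nat.add_sub_cancel]; ring
    omega
  · intro w hw
    rw [ncard_vecSet_sing h.left_ne h.left hw, hN1]
  · rw [hN1, e6, hq', show q' + 2 - 1 = q' + 1 by omega]
    have e9 : (q' + 2) ^ 2 ≤ Y * u := by
      have h5 : (q' + 2) ^ 2 ≤ u := by
        rw [hu, hq']; exact Nat.pow_le_pow_right (by omega) (by omega)
      exact h5.trans (Nat.le_mul_of_pos_left _ hYpos)
    have e10 : Y * Y = (q' + 2) * (Y * u) := by
      nth_rewrite 2 [hY]
      rw [hq']; ring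
    have e11 : (q' + 2) * (Y * u) = (q' + 1) * (Y * u) + Y * u := by ring
    omega

set_option maxHeartbeats 2000000 in
/-- The dichotomy for the dual of `Bs` in plus type. -/
theorem plus_dual (hG : Good Q) {m : ℕ} (hC : PlusCount Q m) (hq4 : 4 ≤ Nat.card F)
    {p : ℕ} [hpp : Fact p.Prime]
    (θ : F →+ ZMod p) (hpF : p ∣ Nat.card F)
    (hθ : ∀ x : F, x ≠ 0 → ∃ c : F, θ (c * x) ≠ 0)
    (hcard : ∀ B : AddSubgroup V, Nat.card (dl Q θ B) * Nat.card B = Nat.card V)
    (hdd : ∀ B : AddSubgroup V, dl Q θ (dl Q θ B) = B)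
    {H : Subgroup (V ≃ₗ[F] V)}
    (hH : (Nat.card F - 1) * H.relIndex (E Q) <
      Nat.card F ^ (2 * m - 1) + (Nat.card F - 1) * Nat.card F ^ (m - 1))
    {e f : V} (h : Hyp Q e f) {v : V} (hv : v ∈ Bs Q H e) (hvn : v ∉ Submodule.span F {e}) :
    (∃ a ∈ dl Q θ (Bs Q H e), ∀ x ∈ dl Q θ (Bs Q H e), x ∈ Submodule.span F {e, a}) ∨
    (m = 4 ∧ ∃ M : Submodule F V, (Bs Q H e : Set V) = M ∧ (∀ x ∈ M, Q x = 0) ∧
      Module.finrank F M = 4) := by
  classical
  have : Finite V := Module.finite_of_finite F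
  have hm := hC.four
  have hd := hC.finrank
  have hQ := hG.nondeg
  have he0 : e ≠ 0 := h.left_ne
  set q := Nat.card F with hq
  obtain ⟨k, hk0, hqk⟩ : ∃ k, 0 < k ∧ q = p ^ k := by
    have := Fintype.ofFinite F
    obtain ⟨p', hp'⟩ := CharP.exists F
    obtain ⟨n, hprime, hn⟩ := FiniteField.card F p'
    rw [← Nat.card_eq_fintype_card, ← hq] at hn
    rw [hn] at hpF
    have h1 := hpp.out.dvd_of_dvd_pow hpF
    have h2 := (Nat.prime_dvd_prime_iff_eq hpp.out hprime).1 h1
    exact ⟨n, n.pos, by rw [hn, h2]⟩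
  have hp2 : 2 ≤ p := hpp.out.two_le
  have hpq : p ≤ q := Nat.le_of_dvd (by omega) hpF
  set u := q ^ (m - 2) with hu
  set Y := q * u with hYu
  obtain ⟨r, hr⟩ : ∃ r, m = r + 4 := ⟨m - 4, by omega⟩
  have hYm : Y = q ^ (m - 1) := by
    rw [hYu, hu, ← pow_succ']; congr 1; omega
  have hqYm : q * Y = q ^ m := by
    rw [hYm, ← pow_succ']; congr 1; omega
  have hqYY : q ^ (2 * m - 1) = q * (Y * Y) := by
    rw [hYm, ← pow_add, ← pow_succ']; congr 1; omega
  rw [← hYm, hqYY] at hH
  have hu2 : q ^ 2 ≤ u := Nat.pow_le_pow_right (by omega) (by omega)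
  have hu16 : 16 ≤ u := by nlinarith
  have hY64 : 64 ≤ Y := by
    rw [hYu]
    calc 64 = 4 * 16 := by norm_num
      _ ≤ _ := Nat.mul_le_mul hq4 hu16
  obtain ⟨hK, hVS, hM⟩ := hC.data hQ h hu hYu
  rw [← hq] at hVS hM
  have hVS' : ∀ w : V, Q w = 0 → Y * Y ≤ (VecSet Q e w).ncard := by
    intro w hw
    have h1 := hVS w hw
    have h2 : q ≤ (q - 1) * Y := by
      obtain ⟨q', hq'⟩ : ∃ q', q = q' + 4 := ⟨q - 4, by omega⟩
      rw [hq', show q' + 4 - 1 = q' + 3 by omega]
      nlinarith [Nat.mul_le_mul_left q' hY64]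
    omega
  have hMle : Y * u ≤ Y * u + (q - 1) * Y - q ^ 2 := by
    have h1 : q ^ 2 ≤ (q - 1) * Y := by
      have h2 : q ^ 2 ≤ Y := hu2.trans (Nat.le_mul_of_pos_left _ (by omega))
      calc q ^ 2 ≤ 1 * Y := by omega
        _ ≤ _ := Nat.mul_le_mul_right _ (by omega)
    omega
  set B := Bs Q H e with hB
  set A := dl Q θ B with hA
  set s := H.relIndex (rad Q e) with hs
  set t := (Nst Q H e).relIndex (Pst Q e) with ht
  set n := H.relIndex (E Q) with hn
  have hst : s * t ≤ n := relIndex_ge h.left H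
  have hsβ : s * Nat.card B = q * (Y * Y) := by
    have h1 := relIndex_rad_mul hQ he0 H
    rw [hd, ← hq, hqYY] at h1
    exact h1
  have haβ : Nat.card A * Nat.card B = q * (q * (Y * Y)) := by
    have h1 := hcard B
    rw [Module.natCard_eq_pow_finrank (K := F) (V := V), hd, ← hq,
      show 2 * m = (2 * m - 1) + 1 by omega, pow_succ', hqYY] at h1
    exact h1
  have hβpos : 0 < Nat.card B := Nat.card_pos
  have haqs : Nat.card A = q * s := by
    have h1 : Nat.card A * Nat.card B = (q * s) * Nat.card B := by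
      rw [haβ, ← hsβ]; ring
    exact Nat.eq_of_mul_eq_mul_right hβpos h1
  have hspos : 0 < s := Nat.pos_of_ne_zero (relIndex_ne _ _)
  have hd4 : q ^ (Module.finrank F V - 4) = u ^ 2 := by
    rw [hd, hu, ← pow_mul]; congr 1; omega
  have hBe : ∀ x ∈ B, polar Q e x = 0 := fun x hx => hx.1
  have hAe : ∀ x ∈ A, polar Q e x = 0 := fun x hx => dl_perp hθ h.left hx
  -- powers of `p`
  have hBp : ∃ j, Nat.card B = p ^ j := by
    have h1 : Nat.card B ∣ p ^ (k * (2 * m - 1)) := by
      rw [pow_mul, ← hqk, hqYY, ← hsβ]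
      exact dvd_mul_left _ _
    obtain ⟨j, -, hj⟩ := (Nat.dvd_prime_pow hpp.out).1 h1
    exact ⟨j, hj⟩
  obtain ⟨j, hj⟩ := hBp
  have hYp : q * Y = p ^ (k * m) := by
    rw [hqYm, hqk, ← pow_mul]
  have hpow : ¬ p * Nat.card B ≤ q * Y → q * Y ≤ Nat.card B := by
    intro h1
    rw [hj, hYp] at h1 ⊢
    rw [← pow_succ'] at h1
    apply Nat.pow_le_pow_right (by omega)
    by_contra h2
    exact h1 (Nat.pow_le_pow_right (by omega) (by omega))
  -- lower bound for `|B|` from a nonsingular vector
  have hnons : ∀ w ∈ B, Q w ≠ 0 → q * Y ≤ Nat.card B := by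
    intro w hw hwQ
    apply hpow
    intro hcon
    have hwn : w ∉ Submodule.span F {e} := by
      intro hmem
      obtain ⟨c, rfl⟩ := Submodule.mem_span_singleton.1 hmem
      rw [QuadraticMap.map_smul, h.left, smul_zero] at hwQ
      exact hwQ rfl
    have h6 := vec_bound hG (by omega) h true (Nst Q H e) B (stab_Bs h) hw hw.1 hwn
    have h7 : (VecSet Q e w ∩ (B : Set V)).ncard ≤ Nat.card B :=
      Set.ncard_le_ncard Set.inter_subset_right (Set.toFinite _)
    have h8 := h6.trans (Nat.mul_le_mul_left _ h7)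
    exact plus_A2 hq4 hY64 h8 hst hH hsβ (four_mul_le_vecSet hpp.out hqk he0 h.left hwQ hK) rfl
      hcon
  have hqY : Y < q * Y := by
    calc Y = 1 * Y := (one_mul Y).symm
      _ < q * Y := Nat.mul_lt_mul_of_pos_right (by omega) (by omega)
  have hBY : Y < Nat.card B := by
    by_cases hvQ : Q v = 0
    · by_contra hcon
      push Not at hcon
      have h6 := vec_bound hG (by omega) h true (Nst Q H e) B (stab_Bs h) hv hv.1 hvn
      have h7 : (VecSet Q e v ∩ (B : Set V)).ncard ≤ Nat.card B :=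
        Set.ncard_le_ncard Set.inter_subset_right (Set.toFinite _)
      have h8 := h6.trans (Nat.mul_le_mul_left _ h7)
      refine plus_A1 hq4 (by omega) ?_ h8 hst hH hsβ (hVS v hvQ).ge hcon
      obtain ⟨q', hq'⟩ : ∃ q', q = q' + 4 := ⟨q - 4, by omega⟩
      rw [hq', show q' + 4 - 1 = q' + 3 by omega]
      nlinarith [Nat.mul_le_mul_left q' hY64]
    · exact hqY.trans_le (hnons v hv hvQ)
  by_cases hBn : ∃ v1 ∈ B, Q v1 ≠ 0
  · -- case 2
    left
    obtain ⟨v1, hv1, hv1Q⟩ := hBn
    have hβ := hnons v1 hv1 hv1Q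
    have hsY : s ≤ Y := by
      have h1 : s * (q * Y) ≤ Y * (q * Y) := by
        calc s * (q * Y) ≤ s * Nat.card B := Nat.mul_le_mul_left _ hβ
          _ = Y * (q * Y) := by rw [hsβ]; ring
      exact Nat.le_of_mul_le_mul_right h1 (by omega)
    by_contra hcon
    push Not at hcon
    by_cases hAn : ∃ a ∈ A, Q a ≠ 0
    · obtain ⟨a, ha, haQ⟩ := hAn
      have h6 := pair_bound' hG (by omega) h false (Nst Q H e) A
        (stab_dl h) hAe ha haQ (hcon a ha) hK
      rw [hd4, ← ht] at h6
      exact plus_A5 hq4 hu2 hYu hst hspos hH haqs rfl h6 hsY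
    · push Not at hAn
      -- two independent vectors of `A`
      have heA : e ∈ A := by
        have h1 : (1 : F) • e ∈ dl Q θ (Bs Q H e) := self_smul_mem_dl (1 : F)
        rwa [one_smul] at h1
      obtain ⟨a1, ha1, ha1n⟩ := hcon e heA
      have ha1n' : a1 ∉ Submodule.span F {e} := by
        intro h1
        apply ha1n
        exact Submodule.span_mono (by simp) h1
      obtain ⟨a2, ha2, ha2n⟩ := hcon a1 ha1
      have hli2 := li2_of_notMem (F := F) he0 ha1n'
      have hli3 := li3_of_notMem hli2 ha2n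
      have h6 := ts_pair_bound hG (by omega) h false (Nst Q H e) (A : Set V) (stab_dl h)
        ha1 ha2 (hAe a1 ha1) (hAe a2 ha2) (hAn a1 ha1) (hAn a2 ha2)
        (addSubgroup_ts hAn ha1 ha2) hli3 hM.le
      have h7 := h6.trans (Nat.mul_le_mul_left _ (trivial_inter_le (F := F) A _))
      -- `s = Y`
      have hsp : ¬ p * s ≤ Y := fun h8 =>
        plus_A4 hq4 hp2 hu2 hYu h7 hst hspos hH haqs (hVS' a1 (hAn a1 ha1)) hMle h8
      have hsY' : s = Y := by
        have h8 : q * Y = Nat.card B := by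
          refine le_antisymm hβ ?_
          have h9 : ¬ p * (q * Y) ≤ Nat.card B := by
            intro h9
            apply hsp
            have h10 : (p * s) * (q * Y) ≤ Y * (q * Y) := by
              calc (p * s) * (q * Y) = s * (p * (q * Y)) := by ring
                _ ≤ s * Nat.card B := Nat.mul_le_mul_left _ h9
                _ = Y * (q * Y) := by rw [hsβ]; ring
            exact Nat.le_of_mul_le_mul_right h10 (by omega)
          rw [hj, hYp] at h9 ⊢
          rw [← pow_succ'] at h9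
          apply Nat.pow_le_pow_right (by omega)
          by_contra h10
          exact h9 (Nat.pow_le_pow_right (by omega) (by omega))
        rw [← h8] at hsβ
        have h9 : s * (q * Y) = Y * (q * Y) := by rw [hsβ]; ring
        exact Nat.eq_of_mul_eq_mul_right (by omega) h9
      -- `A` is a maximal totally singular subspace
      set M := Submodule.span F (A : Set V) with hMdef
      have hMts : ∀ x ∈ M, Q x = 0 := span_ts hAn fun x hx y hy => addSubgroup_ts hAn hx hy
      have hMd : Module.finrank F M ≤ m := by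
        have := finrank_ts_le hQ hMts
        omega
      have hAM : (A : Set V) ⊆ M := Submodule.subset_span
      have hMc : Nat.card M = q ^ Module.finrank F M := by
        rw [Module.natCard_eq_pow_finrank (K := F) (V := M), ← hq]
      have hMA : Nat.card A ≤ Nat.card M :=
        Set.ncard_le_ncard (s := (A : Set V)) (t := (M : Set V)) hAM (Set.toFinite _)
      have hAc : Nat.card A = q ^ m := by rw [haqs, hsY', hqYm]
      have hMd' : Module.finrank F M = m := by
        rw [hMc, hAc] at hMA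
        have := (Nat.pow_le_pow_iff_right (by omega : 1 < q)).1 hMA
        omega
      have hAeqM : (A : Set V) = (M : Set V) := by
        apply Set.eq_of_subset_of_ncard_le hAM _ (Set.toFinite _)
        show Nat.card M ≤ Nat.card A
        rw [hMc, hMd', hAc]
      have hperp : perp Q M = M := by
        symm
        apply Submodule.eq_of_le_of_finrank_le (le_perp_of_ts hMts)
        have := finrank_perp_add hQ M
        omega
      have hv1M : v1 ∈ perp Q M := by
        intro x hx
        by_contra hne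
        obtain ⟨c, hc⟩ := hθ _ hne
        apply hc
        have hcx : c • x ∈ A := by
          have : c • x ∈ (M : Set V) := M.smul_mem c hx
          rw [← hAeqM] at this
          exact this
        have h8 : v1 ∈ dl Q θ (dl Q θ (Bs Q H e)) := by rw [hdd]; exact hv1
        have h9 := h8 _ hcx
        rwa [polar_smul_left, smul_eq_mul] at h9
      rw [hperp] at hv1M
      exact hv1Q (hMts _ hv1M)
  · -- case 1
    right
    push Not at hBn
    have hsp : ∃ v2 ∈ B, v2 ∉ Submodule.span F {e, v} := by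
      by_contra hcon
      push Not at hcon
      have h1 : Nat.card B ≤ Nat.card (Submodule.span F {e, v}) :=
        Set.ncard_le_ncard (s := (B : Set V)) (t := (Submodule.span F {e, v} : Set V)) hcon
          (Set.toFinite _)
      rw [Module.natCard_eq_pow_finrank (K := F) (V := Submodule.span F {e, v}), ← hq] at h1
      have h2 : q ^ Module.finrank F (Submodule.span F {e, v}) ≤ q ^ 2 :=
        Nat.pow_le_pow_right (by omega) (finrank_span_pair_le (F := F) e v)
      have h3 : q ^ 2 ≤ Y := hu2.trans (Nat.le_mul_of_pos_left _ (by omega))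
      omega
    obtain ⟨v2, hv2, hv2n⟩ := hsp
    have hli2 := li2_of_notMem (F := F) he0 hvn
    have hli3 := li3_of_notMem hli2 hv2n
    have h6 := ts_pair_bound hG (by omega) h true (Nst Q H e) (B : Set V) (stab_Bs h)
      hv hv2 (hBe v hv) (hBe v2 hv2) (hBn v hv) (hBn v2 hv2)
      (addSubgroup_ts hBn hv hv2) hli3 hM.le
    have h7 := h6.trans (Nat.mul_le_mul_left _ (trivial_inter_le (F := F) B _))
    have hβ : q * Y ≤ Nat.card B := hpow fun h8 =>
      plus_A3 hq4 hp2 hu2 hYu h7 hst hH hsβ (hVS' v (hBn v hv)) hMle h8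
    set M := Submodule.span F (B : Set V) with hMdef
    have hMts : ∀ x ∈ M, Q x = 0 := span_ts hBn fun x hx y hy => addSubgroup_ts hBn hx hy
    have hMd : Module.finrank F M ≤ m := by
      have := finrank_ts_le hQ hMts
      omega
    have hBM : (B : Set V) ⊆ M := Submodule.subset_span
    have hMc : Nat.card M = q ^ Module.finrank F M := by
      rw [Module.natCard_eq_pow_finrank (K := F) (V := M), ← hq]
    have hMB : Nat.card B ≤ Nat.card M :=
      Set.ncard_le_ncard (s := (B : Set V)) (t := (M : Set V)) hBM (Set.toFinite _)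
    have hMd' : Module.finrank F M = m := by
      have h8 := hβ.trans hMB
      rw [hMc, hqYm] at h8
      have := (Nat.pow_le_pow_iff_right (by omega : 1 < q)).1 h8
      omega
    have hBc : Nat.card B = q * Y := by
      apply le_antisymm _ hβ
      rw [hqYm, ← hMd', ← hMc]; exact hMB
    have hBeqM : (B : Set V) = (M : Set V) := by
      apply Set.eq_of_subset_of_ncard_le hBM _ (Set.toFinite _)
      show Nat.card M ≤ Nat.card B
      rw [hMc, hMd', hBc, hqYm]
    have hm4 : m = 4 := by
      by_contra hne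
      have hsc : s = Y := by
        rw [hBc] at hsβ
        have h9 : s * (q * Y) = Y * (q * Y) := by rw [hsβ]; ring
        exact Nat.eq_of_mul_eq_mul_right (by omega) h9
      rw [hBc] at h7
      rw [hsc] at hst
      refine plus_A6 hq4 ?_ hYu h7 hst hH (hVS' v (hBn v hv)) hMle
      exact Nat.pow_le_pow_right (by omega) (by omega)
    exact ⟨hm4, M, hBeqM, hMts, by rw [hMd', hm4]⟩

end fin

end Cfsg.Agent.H75.OrthIdx
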