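import Cfsg.Agent.H75.PlusExc

/-!
Plus type in dimension eight: an exceptional point forces a full radical inside `H`.
-/

set_option autoImplicit false

namespace Cfsg.Agent.H75.OrthIdx

open QuadraticMap Cfsg.Agent.LieClassical.OrthCore Cfsg.Agent.LieClassical.OrthTrans

variable {F V : Type*} [Field F] [AddCommGroup V] [Module F V] {Q : QuadraticForm F V}

theorem mem_StT_of_map [FiniteDimensional F V] {T : Submodule F V} {g : V ≃ₗ[F] V}
    (hg : g ∈ E Q) (h : ∀ x ∈ T, g x ∈ T) : g ∈ StT Q T := by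
  refine ⟨hg, fun x => ⟨h x, fun hx => ?_⟩⟩
  have h1 : T.map (g : V →ₗ[F] V) ≤ T := by
    rintro _ ⟨y, hy, rfl⟩
    exact h y hy
  have h2 : T.map (g : V →ₗ[F] V) = T := by
    apply Submodule.eq_of_le_of_finrank_eq h1
    exact LinearEquiv.finrank_map_eq g T
  rw [← h2] at hx
  obtain ⟨y, hy, hyx⟩ := hx
  have : y = x := g.injective hyx
  rw [← this]; exact hy

/-- Torus elements for `q ≥ 4`. -/
theorem exists_zz [Finite F] (hG : Good Q) (hq : 4 ≤ Nat.card F) :
    ∃ lam : F, lam ≠ 0 ∧ lam ≠ 1 ∧ ∀ e f : V, Hyp Q e f → ∃ z ∈ E Q, z e = lam • e ∧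
      ∀ x, polar Q e x = 0 → polar Q f x = 0 → z x = x := by
  classical
  obtain ⟨μ, hμ⟩ : ∃ μ : F, μ ∉ ({0, 1, -1} : Set F) := by
    by_contra hcon
    push Not at hcon
    have h1 : (Set.univ : Set F) ⊆ ({0, 1, -1} : Set F) := fun x _ => hcon x
    have h2 := Set.ncard_le_ncard h1 (Set.toFinite _)
    rw [Set.ncard_univ] at h2
    have h3 : ({0, 1, -1} : Set F).ncard ≤ 3 := by
      refine (Set.ncard_insert_le _ _).trans ?_
      have h4 : ({1, -1} : Set F).ncard ≤ 2 := by
        refine (Set.ncard_insert_le _ _).trans ?_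
        rw [Set.ncard_singleton]
      omega
    omega
  simp only [Set.mem_insert_iff, Set.mem_singleton_iff, not_or] at hμ
  obtain ⟨hμ0, hμ1, hμ2⟩ := hμ
  refine ⟨μ * μ, mul_ne_zero hμ0 hμ0, ?_, ?_⟩
  · intro h1
    have h2 : (μ - 1) * (μ + 1) = 0 := by linear_combination h1
    rcases mul_eq_zero.1 h2 with h3 | h3
    · exact hμ1 (sub_eq_zero.1 h3)
    · exact hμ2 (eq_neg_of_add_eq_zero_left h3)
  · intro e f h
    set lam := μ * μ with hlam
    have hl0 : lam ≠ 0 := mul_ne_zero hμ0 hμ0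
    have hQ1 : Q (e + (1 : F) • f) = 1 := Q_smul_add h 1
    have hQl : Q (e + lam • f) = lam := Q_smul_add h lam
    have hQ1' : Q (e + (1 : F) • f) ≠ 0 := by rw [hQ1]; exact one_ne_zero
    have hQl' : Q (e + lam • f) ≠ 0 := by rw [hQl]; exact hl0
    refine ⟨refl Q (e + (1 : F) • f) hQ1' * refl Q (e + lam • f) hQl', ?_, ?_, ?_⟩
    · have hQs : Q (μ⁻¹ • (e + lam • f)) = 1 := by
        rw [QuadraticMap.map_smul, hQl, hlam, smul_eq_mul]
        field_simp
      have hQs' : Q (μ⁻¹ • (e + lam • f)) ≠ 0 := by rw [hQs]; exact one_ne_zero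
      rw [← refl_smul hQl' (inv_ne_zero hμ0) hQs']
      exact hG.refl_mul_refl_mem _ _ (by rw [hQs, hQ1])
    · show refl Q (e + (1 : F) • f) hQ1' (refl Q (e + lam • f) hQl' e) = _
      rw [refl_apply, refl_apply, hQ1, hQl]
      simp only [polar_sub_right, polar_add_right, polar_add_left, polar_smul_left,
        polar_smul_right, h.pair, h.pair', h.polar_left, h.polar_right, smul_eq_mul]
      match_scalars <;> field_simp <;> ring
    · intro x hx hx'
      show refl Q (e + (1 : F) • f) hQ1' (refl Q (e + lam • f) hQl' x) = _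
      rw [refl_apply, refl_apply]
      simp only [polar_sub_right, polar_add_left, polar_smul_left,
        polar_smul_right, hx, hx', smul_eq_mul]
      simp

section fin

variable [Finite F] [FiniteDimensional F V]

/-- conjugating by the radical -/
theorem exists_rad_conj {e : V} {z h0 ρ : V ≃ₗ[F] V} (hzP : z ∈ Pst Q e) (hρ : ρ ∈ rad Q e)
    (hzh : z = h0 * ρ) (hfree : ∀ x ∈ rad Q e, z * x = x * z → x = 1) :
    ∃ x ∈ rad Q e, x * z * x⁻¹ = h0 := by
  have hfin := finite_equiv (F := F) (V := V)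
  let φ : rad Q e → rad Q e := fun x =>
    ⟨z⁻¹ * x * z * (x : V ≃ₗ[F] V)⁻¹, (rad Q e).mul_mem (by
      have := conj_mem_rad (Subgroup.inv_mem _ hzP) x.2
      rwa [inv_inv] at this) ((rad Q e).inv_mem x.2)⟩
  have hφ : Function.Injective φ := by
    intro x y hxy
    have h1 : z⁻¹ * x * z * (x : V ≃ₗ[F] V)⁻¹ = z⁻¹ * y * z * (y : V ≃ₗ[F] V)⁻¹ :=
      congrArg Subtype.val hxy
    have h2 : z * ((y : V ≃ₗ[F] V)⁻¹ * x) = ((y : V ≃ₗ[F] V)⁻¹ * x) * z := by
      have h3 : (z⁻¹ * (y : V ≃ₗ[F] V) * z)⁻¹ * (z⁻¹ * x * z) =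
          (y : V ≃ₗ[F] V)⁻¹ * x := by
        calc (z⁻¹ * (y : V ≃ₗ[F] V) * z)⁻¹ * (z⁻¹ * x * z)
            = (z⁻¹ * (y : V ≃ₗ[F] V) * z)⁻¹ * (z⁻¹ * x * z * (x : V ≃ₗ[F] V)⁻¹) * x := by
              group
          _ = (y : V ≃ₗ[F] V)⁻¹ * x := by rw [h1]; group
      calc z * ((y : V ≃ₗ[F] V)⁻¹ * x) = z * ((z⁻¹ * (y : V ≃ₗ[F] V) * z)⁻¹ * (z⁻¹ * x * z)) := by
            rw [h3]
        _ = _ := by group
    have h4 := hfree _ ((rad Q e).mul_mem ((rad Q e).inv_mem y.2) x.2) h2
    apply Subtype.ext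
    exact (inv_mul_eq_one.1 h4).symm
  have hsurj := Finite.surjective_of_injective hφ
  obtain ⟨x, hxρ⟩ := hsurj ⟨ρ⁻¹, (rad Q e).inv_mem hρ⟩
  have h1 : z⁻¹ * x * z * (x : V ≃ₗ[F] V)⁻¹ = ρ⁻¹ := congrArg Subtype.val hxρ
  refine ⟨x, x.2, ?_⟩
  calc (x : V ≃ₗ[F] V) * z * (x : V ≃ₗ[F] V)⁻¹ = z * (z⁻¹ * x * z * (x : V ≃ₗ[F] V)⁻¹) := by
        group
    _ = h0 := by rw [h1, hzh, mul_inv_cancel_right]

set_option maxHeartbeats 1000000 in
/-- An exceptional point forces a radical inside `H`. -/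
theorem exc_rad (hG : Good Q) (hC : PlusCount Q 4) (hq4 : 4 ≤ Nat.card F)
    {H : Subgroup (V ≃ₗ[F] V)} (hHE : H ≤ E Q)
    (hn : H.relIndex (E Q) <
      (Nat.card F ^ 3 + 1) * ((Nat.card F + 1) * (Nat.card F ^ 2 + 1)))
    {e : V} (he0 : e ≠ 0) (heQ : Q e = 0) (hexc : Exc Q H e) :
    ∃ v, v ≠ 0 ∧ Q v = 0 ∧ ∀ w, polar Q v w = 0 → sg Q v w ∈ H := by
  classical
  have : Finite V := Module.finite_of_finite F
  have hQ := hG.nondeg
  have hd := hC.finrank
  obtain ⟨M, hBM, hMts, hM4⟩ := hexc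
  obtain ⟨f, h⟩ := exists_hyp hQ heQ he0
  have hmemM : ∀ x, x ∈ M ↔ x ∈ Bs Q H e := by
    intro x
    rw [← SetLike.mem_coe, ← hBM]; rfl
  have heM : e ∈ M := by
    rw [hmemM]
    have := smul_mem_Bs (H := H) (Q := Q) heQ (1 : F)
    rwa [one_smul] at this
  have hMe : ∀ x ∈ M, polar Q e x = 0 := fun x hx => ((hmemM x).1 hx).1
  have hMH : ∀ x ∈ M, sg Q e x ∈ H := fun x hx => ((hmemM x).1 hx).2
  -- `s = q³`
  have hBc : Nat.card (Bs Q H e) = Nat.card F ^ 4 := by
    have h1 : Nat.card (Bs Q H e) = Nat.card M := by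
      show (Bs Q H e : Set V).ncard = (M : Set V).ncard
      rw [hBM]
    rw [h1, Module.natCard_eq_pow_finrank (K := F) (V := M), hM4]
  have hqpos : 0 < Nat.card F := by omega
  have hs : H.relIndex (rad Q e) = Nat.card F ^ 3 := by
    have h1 := relIndex_rad_mul hQ he0 H
    rw [hBc, hd] at h1
    have h2 : Nat.card F ^ (2 * 4 - 1) = Nat.card F ^ 3 * Nat.card F ^ 4 := by
      rw [← pow_add]
    rw [h2] at h1
    exact Nat.eq_of_mul_eq_mul_right (by positivity) h1
  -- the groups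
  set P := Pst Q e with hP
  set R := HR Q H e with hR
  set G := StT Q M ⊓ P with hGdef
  set N0 := (Nat.card F + 1) * (Nat.card F ^ 2 + 1) with hN0
  have hN0pos : 0 < N0 := by positivity
  have hradM : ∀ r, polar Q e r = 0 → ∀ x ∈ M, sg Q e r x ∈ M := by
    intro r hr x hx
    rw [sg_apply heQ hr, hMe x hx, zero_smul, add_zero, mul_zero, zero_smul, sub_zero]
    exact M.sub_mem hx (M.smul_mem _ heM)
  have hRG : R ≤ G := by
    rintro g ⟨g1, hg1, ρ, hρ, rfl⟩
    refine G.mul_mem ⟨?_, hg1.2⟩ ⟨?_, rad_le_Pst heQ hρ⟩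
    · apply mem_StT_of_map hg1.2.1
      intro x hx
      obtain ⟨-, c, hc, hgc⟩ := hg1.2
      have h1 := smul_mem_Bs_of_mem_Nst (inf_Pst_le_Nst e H hg1) hc hgc ((hmemM x).1 hx)
      rw [← hmemM] at h1
      have h2 := M.smul_mem c⁻¹ h1
      rwa [smul_smul, inv_mul_cancel₀ hc, one_smul] at h2
    · obtain ⟨r, hr, rfl⟩ := mem_rad.1 hρ
      exact mem_StT_of_map (sg_mem_E _ _) (hradM r hr)
  have hHR : H ⊓ P ≤ R := by
    intro g hg
    exact ⟨g, hg, 1, Subgroup.one_mem _, by rw [mul_one]⟩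
  have hradR : rad Q e ≤ R := by
    intro g hg
    exact ⟨1, Subgroup.one_mem _, g, hg, by rw [one_mul]⟩
  have h1 : (H ⊓ P).relIndex R * R.relIndex P = H.relIndex P := by
    rw [Subgroup.relIndex_mul_relIndex _ _ _ hHR (hRG.trans inf_le_right),
      Subgroup.inf_relIndex_right]
  have h2 : Nat.card F ^ 3 ≤ (H ⊓ P).relIndex R := by
    rw [← hs]
    exact (Subgroup.relIndex_le_of_le_left inf_le_left (relIndex_ne _ _)).trans
      (Subgroup.relIndex_le_of_le_right hradR (relIndex_ne _ _))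
  have h3 : R.relIndex G * G.relIndex P = R.relIndex P :=
    Subgroup.relIndex_mul_relIndex _ _ _ hRG inf_le_right
  have h4 : N0 ≤ G.relIndex P := le_relIndex_StT_Pst hG hC hMts hM4 heM he0
  have h5 : H.relIndex P ≤ H.relIndex (E Q) :=
    Subgroup.relIndex_le_of_le_right (Pst_le_E e) (relIndex_ne _ _)
  have hRG1 : R.relIndex G = 1 := by
    have h6 : R.relIndex G ≠ 0 := relIndex_ne _ _
    by_contra h7
    have h8 : 2 ≤ R.relIndex G := by omega
    have h9 : 2 * N0 ≤ R.relIndex P := by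
      rw [← h3]; exact Nat.mul_le_mul h8 h4
    have h10 : Nat.card F ^ 3 * (2 * N0) ≤ H.relIndex P := by
      rw [← h1]; exact Nat.mul_le_mul h2 h9
    have h11 : (Nat.card F ^ 3 + 1) * N0 ≤ Nat.card F ^ 3 * (2 * N0) := by
      have : 1 ≤ Nat.card F ^ 3 := Nat.one_le_pow _ _ hqpos
      nlinarith
    omega
  have hGR : G ≤ R := Subgroup.relIndex_eq_one.1 hRG1
  have hne' : Nat.card F ^ 3 * N0 ≤ H.relIndex P := by
    rw [← h1, ← h3, hRG1, one_mul]
    exact Nat.mul_le_mul h2 h4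
  -- the torus element
  obtain ⟨lam, hl0, hl1, hzz⟩ := exists_zz (V := V) hG hq4
  have hl1' : lam - 1 ≠ 0 := sub_ne_zero.2 hl1
  obtain ⟨z, hzE, hze, hzfix⟩ := hzz e f h
  have hzP : z ∈ P := ⟨hzE, lam, hl0, hze⟩
  -- action of such elements on `e⊥`
  have hact : ∀ (z : V ≃ₗ[F] V) (f : V), Hyp Q e f → z e = lam • e →
      (∀ x, polar Q e x = 0 → polar Q f x = 0 → z x = x) → ∀ x, polar Q e x = 0 →
      z x = x + ((lam - 1) * polar Q f x) • e := by
    intro z f h hze hzfix x hx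
    obtain ⟨e1, e2, e3⟩ := eq_smul_add_of_perp h hx
    have e4 : z x = z (polar Q f x • e + (x - polar Q f x • e)) := by rw [← e1]
    rw [e4, map_add, map_smul, hze, hzfix _ e2 e3]
    module
  have hzG : z ∈ G := by
    refine ⟨mem_StT_of_map hzE fun x hx => ?_, hzP⟩
    rw [hact z f h hze hzfix x (hMe x hx)]
    exact M.add_mem hx (M.smul_mem _ heM)
  have hfree : ∀ x ∈ rad Q e, z * x = x * z → x = 1 := by
    intro x hx hxz
    obtain ⟨v, hv, rfl⟩ := mem_rad.1 hx
    have h1 : z * sg Q e v * z⁻¹ = sg Q e v := by rw [hxz, mul_inv_cancel_right]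
    rw [conj_sg (E_le_O hzE) hl0 hze] at h1
    have h3 : polar Q e (lam • z v) = 0 := by
      have h4 := polar_map (E_le_O hzE) e v
      rw [hze, polar_smul_left, hv] at h4
      rw [polar_smul_right]; exact h4
    have h2 : sg Q e (lam • z v - v) = 1 := by
      have hv' : polar Q e (-v) = 0 := by rw [polar_neg_right, hv, neg_zero]
      rw [sub_eq_add_neg, ← sg_mul h3 hv', h1, ← sg_inv hv, mul_inv_cancel]
    obtain ⟨a, ha⟩ := eq_smul_of_sg_eq_one hQ heQ he0 (by
      rw [polar_sub_right, h3, hv, sub_zero]) h2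
    rw [hact z f h hze hzfix v hv] at ha
    have h5 : (lam - 1) • v = (a - lam * ((lam - 1) * polar Q f v)) • e := by
      rw [sub_smul _ _ e, ← ha]
      module
    have h6 : v = ((lam - 1)⁻¹ * (a - lam * ((lam - 1) * polar Q f v))) • e := by
      rw [mul_smul, ← h5, smul_smul, inv_mul_cancel₀ hl1', one_smul]
    rw [h6]
    exact sg_smul_self heQ _
  obtain ⟨h0, hh0, ρ, hρ, hzh⟩ := hGR hzG
  obtain ⟨x, hx, hxz⟩ := exists_rad_conj hzP hρ hzh hfree
  have hxP := rad_le_Pst heQ hx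
  have hxO := E_le_O hxP.1
  have hxe : x e = e := by
    obtain ⟨r, hr, rfl⟩ := mem_rad.1 hx
    exact sg_apply_self heQ hr
  set f' := x f with hf'
  have h' : Hyp Q e f' := by
    have := h.map hxO
    rwa [hxe] at this
  have hxe' : x⁻¹ e = e := by
    nth_rewrite 1 [← hxe]
    exact LinearEquiv.symm_apply_apply x e
  -- `z' = h0`
  have hz'H : h0 ∈ H := hh0.1
  have hz'E : h0 ∈ E Q := hHE hz'H
  have hz'e : h0 e = lam • e := by
    rw [← hxz]
    show x (z (x⁻¹ e)) = _
    rw [hxe', hze, map_smul, hxe]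
  have hz'fix : ∀ y, polar Q e y = 0 → polar Q f' y = 0 → h0 y = y := by
    intro y hy hy'
    rw [← hxz]
    show x (z (x⁻¹ y)) = y
    have hxx : x (x⁻¹ y) = y := LinearEquiv.apply_symm_apply x y
    have e1 : polar Q e (x⁻¹ y) = 0 := by
      rw [← polar_map hxO, hxe, hxx]; exact hy
    have e2 : polar Q f (x⁻¹ y) = 0 := by
      rw [← polar_map hxO, hxx]; exact hy'
    rw [hzfix _ e1 e2, hxx]
  have hact' := hact h0 f' h' hz'e hz'fix
  -- Claim C
  have claimC : ∀ y ∈ G, h0 * y = y * h0 → y ∈ H := by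
    intro y hy hcomm
    obtain ⟨h1, hh1, ρ1, hρ1, hyh⟩ := hGR hy
    have hh1' : h1 ∈ H := hh1.1
    rw [hyh] at hcomm
    have h4 : h1⁻¹ * h0 * h1 * h0⁻¹ = ρ1 * (h0 * ρ1⁻¹ * h0⁻¹) := by
      have h5 : h0 * h1 = h1 * ρ1 * h0 * ρ1⁻¹ := by
        calc h0 * h1 = (h0 * (h1 * ρ1)) * ρ1⁻¹ := by group
          _ = ((h1 * ρ1) * h0) * ρ1⁻¹ := by rw [hcomm]
          _ = _ := by group
      calc h1⁻¹ * h0 * h1 * h0⁻¹ = h1⁻¹ * (h0 * h1) * h0⁻¹ := by group
        _ = h1⁻¹ * (h1 * ρ1 * h0 * ρ1⁻¹) * h0⁻¹ := by rw [h5]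
        _ = _ := by group
    have h6 : ρ1 * (h0 * ρ1⁻¹ * h0⁻¹) ∈ H := by
      rw [← h4]
      exact H.mul_mem (H.mul_mem (H.mul_mem (H.inv_mem hh1') hz'H) hh1') (H.inv_mem hz'H)
    obtain ⟨r, hr, rfl⟩ := mem_rad.1 hρ1
    have hr' : polar Q e (-r) = 0 := by rw [polar_neg_right, hr, neg_zero]
    rw [sg_inv hr, conj_sg (E_le_O hz'E) hl0 hz'e] at h6
    have h7 : polar Q e (lam • h0 (-r)) = 0 := by
      have h8 := polar_map (E_le_O hz'E) e (-r)
      rw [hz'e, polar_smul_left, hr'] at h8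
      rw [polar_smul_right]; exact h8
    rw [sg_mul hr h7] at h6
    have h8 : r + lam • h0 (-r) ∈ M := by
      rw [hmemM]
      exact ⟨by rw [polar_add_right, hr, h7, add_zero], h6⟩
    rw [map_neg, hact' r hr] at h8
    have h9 : (lam - 1) • r ∈ M := by
      have h10 : (lam - 1) • r = -(r + lam • -(r + ((lam - 1) * polar Q f' r) • e)) -
          (lam * ((lam - 1) * polar Q f' r)) • e := by module
      rw [h10]
      exact M.sub_mem (M.neg_mem h8) (M.smul_mem _ heM)
    have h10 : r ∈ M := by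
      have h11 := M.smul_mem (lam - 1)⁻¹ h9
      rwa [smul_smul, inv_mul_cancel₀ hl1', one_smul] at h11
    rw [hyh]
    exact H.mul_mem hh1' (hMH r h10)
  -- `v`
  have hv : ∃ v ∈ M, v ≠ 0 ∧ polar Q f' v = 0 := by
    let φ : M →ₗ[F] F := (polarBilin Q f').comp M.subtype
    have h1 := LinearMap.finrank_range_add_finrank_ker φ
    have h2 : Module.finrank F (LinearMap.range φ) ≤ 1 := by
      refine (Submodule.finrank_le _).trans ?_
      rw [Module.finrank_self]
    have h3 : 0 < Module.finrank F (LinearMap.ker φ) := by omega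
    have h4 : LinearMap.ker φ ≠ ⊥ := by
      intro h5
      rw [h5, finrank_bot] at h3
      exact lt_irrefl _ h3
    obtain ⟨v, hv, hv0⟩ := (Submodule.ne_bot_iff _).1 h4
    exact ⟨v, v.2, fun h5 => hv0 (Subtype.ext h5), hv⟩
  obtain ⟨v, hvM, hv0, hf'v⟩ := hv
  have hvQ := hMts v hvM
  have hev : polar Q e v = 0 := hMe v hvM
  have hve : polar Q v e = 0 := by rw [polar_comm]; exact hev
  -- Claim D
  have claimD : ∀ w, polar Q e w = 0 → polar Q f' w = 0 → polar Q v w = 0 → sg Q v w ∈ H := by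
    intro w hew hfw hvw
    apply claimC
    · refine ⟨mem_StT_of_map (sg_mem_E _ _) fun y hy => ?_, sg_mem_E _ _, 1, one_ne_zero, ?_⟩
      · rw [sg_apply hvQ hvw, polar_eq_zero_of_ts hMts hvM hy, zero_smul, add_zero, mul_zero,
          zero_smul, sub_zero]
        exact M.sub_mem hy (M.smul_mem _ hvM)
      · rw [one_smul]
        exact sg_fix hve (by rw [polar_comm]; exact hew)
    · have h1 : h0 * sg Q v w * h0⁻¹ = sg Q v w := by
        rw [sg_conj (E_le_O hz'E), hz'fix v hev hf'v, hz'fix w hew hfw]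
      calc h0 * sg Q v w = h0 * sg Q v w * h0⁻¹ * h0 := by group
        _ = _ := by rw [h1]
  set S := perp Q (Submodule.span F {e, f', v}) with hSdef
  have hSd : 5 ≤ Module.finrank F S := by
    have h3 := finrank_perp_add hQ (Submodule.span F {e, f', v})
    have h4 : Module.finrank F (Submodule.span F {e, f', v}) ≤ 3 := by
      have h5 := finrank_span_finset_le_card (R := F) ({e, f', v} : Finset V)
      rw [Finset.coe_insert, Finset.coe_insert, Finset.coe_singleton] at h5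
      exact h5.trans Finset.card_le_three
    rw [← hSdef] at h3
    omega
  have hSm : ∀ w ∈ S, polar Q e w = 0 ∧ polar Q f' w = 0 ∧ polar Q v w = 0 := by
    intro y hy
    exact ⟨hy e (Submodule.subset_span (by simp)), hy f' (Submodule.subset_span (by simp)),
      hy v (Submodule.subset_span (by simp))⟩
  -- Claim E
  have claimE : ∀ g ∈ H, g v ∉ Submodule.span F {e} := by
    intro g hg hmem
    obtain ⟨c, hc⟩ := Submodule.mem_span_singleton.1 hmem
    have hgO := E_le_O (hHE hg)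
    have hc0 : c ≠ 0 := by
      rintro rfl
      rw [zero_smul] at hc
      exact hv0 ((map_eq_zero_iff g g.injective).1 hc.symm)
    have hle : S.map (g : V →ₗ[F] V) ≤ M := by
      rintro _ ⟨w, hw, rfl⟩
      obtain ⟨h1, h2, h3⟩ := hSm w hw
      have h4 := claimD w h1 h2 h3
      have h5 := H.mul_mem (H.mul_mem hg h4) (H.inv_mem hg)
      rw [sg_conj hgO, ← hc, sg_smul_left hc0] at h5
      have h6 : polar Q e (c • g w) = 0 := by
        have h7 := polar_map hgO v w
        rw [← hc, polar_smul_left, h3] at h7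
        rw [polar_smul_right]; exact h7
      have h7 : c • g w ∈ M := by rw [hmemM]; exact ⟨h6, h5⟩
      have h8 := M.smul_mem c⁻¹ h7
      rw [smul_smul, inv_mul_cancel₀ hc0, one_smul] at h8
      exact h8
    have h1 := Submodule.finrank_mono hle
    have h2 : Module.finrank F (S.map (g : V →ₗ[F] V)) = Module.finrank F S :=
      LinearEquiv.finrank_map_eq g S
    omega
  obtain ⟨x1, hx1, hx1e⟩ := hG.trans_sing heQ hvQ he0 hv0
  have hos := orbit_sum hx1 hx1e claimE
  rw [← hP] at hos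
  have hnv : H.relIndex (Pst Q v) < N0 := by
    have h6 : (Nat.card F ^ 3 + 1) * N0 = Nat.card F ^ 3 * N0 + N0 := by ring
    rw [h6] at hn
    omega
  refine ⟨v, hv0, hvQ, ?_⟩
  -- Claim F
  obtain ⟨p, hp, θ, hpF, hθ, hcard, hdd⟩ := exists_dual (Q := Q) hQ
  set Av := dl Q θ (Bs Q H v) with hAv
  by_cases hA : ∀ y ∈ Av, y ∈ Submodule.span F {v}
  · intro w hvw
    have h6 : w ∈ dl Q θ (dl Q θ (Bs Q H v)) := by
      intro y hy
      obtain ⟨c, rfl⟩ := Submodule.mem_span_singleton.1 (hA y hy)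
      rw [polar_smul_left, hvw, smul_zero, map_zero]
    rw [hdd] at h6
    exact h6.2
  · exfalso
    push Not at hA
    obtain ⟨y, hy, hyn⟩ := hA
    have hvy : polar Q v y = 0 := dl_perp hθ hvQ hy
    -- `y ∈ ⟨e, f', v⟩`
    have hyS : y ∈ perp Q S := by
      intro w hw
      by_contra hne
      obtain ⟨c, hc⟩ := hθ _ hne
      apply hc
      obtain ⟨h1, h2, h3⟩ := hSm w hw
      have h4 : c • w ∈ Bs Q H v := ⟨by rw [polar_smul_right, h3, smul_zero], by
        apply claimD
        · rw [polar_smul_right, h1, smul_zero]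
        · rw [polar_smul_right, h2, smul_zero]
        · rw [polar_smul_right, h3, smul_zero]⟩
      have h5 := hy _ h4
      rwa [polar_smul_left, smul_eq_mul] at h5
    have hey : polar Q e y = 0 := by
      by_contra hne
      obtain ⟨c, hc⟩ := hθ _ hne
      apply hc
      have h4 : c • e ∈ Bs Q H v := by
        refine ⟨by rw [polar_smul_right, hve, smul_zero], ?_⟩
        rw [sg_swap hvQ (by rw [QuadraticMap.map_smul, heQ, smul_zero]) (by
          rw [polar_smul_right, hve, smul_zero])]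
        by_cases hc0 : c = 0
        · rw [hc0, zero_smul]
          have : sg Q (0 : V) (-v) = 1 := by
            ext x
            rw [sg_apply (QuadraticMap.map_zero Q) (polar_zero_left (Q := Q) _)]
            simp
          rw [this]; exact H.one_mem
        · rw [sg_smul_left hc0]
          exact hMH _ (M.smul_mem _ (M.neg_mem hvM))
      have h5 := hy _ h4
      rwa [polar_smul_left, smul_eq_mul] at h5
    have hyQ : Q y = 0 := by
      rw [hSdef, perp_perp hQ] at hyS
      obtain ⟨a, b, c, rfl⟩ := Submodule.mem_span_triple.1 hyS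
      rw [polar_add_right, polar_add_right, polar_smul_right, polar_smul_right,
        polar_smul_right, h'.polar_left, hev, h'.pair] at hey
      simp only [smul_eq_mul, mul_zero, mul_one, add_zero, zero_add] at hey
      rw [hey, zero_smul, add_zero, Q_add, QuadraticMap.map_smul, QuadraticMap.map_smul, heQ,
        hvQ, polar_smul_left, polar_smul_right, hev]
      simp
    obtain ⟨g, hvg⟩ := exists_hyp hQ hvQ hv0
    have h6 := vec_bound hG (by omega) hvg false (Nst Q H v) Av (stab_dl hvg) hy hvy hyn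
    obtain ⟨-, hVS, -⟩ := hC.data hQ hvg (u := Nat.card F ^ 2)
      (Y := Nat.card F * Nat.card F ^ 2) rfl rfl
    have h7 := hVS y hyQ
    have h8 : (VecSet Q v y ∩ (Av : Set V)).ncard + Nat.card F ≤ Nat.card Av := by
      have h8 : Disjoint (VecSet Q v y ∩ (Av : Set V)) (Submodule.span F {v} : Set V) := by
        rw [Set.disjoint_left]
        rintro w ⟨⟨-, hli', -⟩, -⟩ hw
        exact notMem_of_li2 hli' hw
      have h9 : (Submodule.span F {v} : Set V).ncard = Nat.card F := by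
        have h3 : (Submodule.span F {v} : Set V).ncard = Nat.card (Submodule.span F {v}) := rfl
        rw [h3, Module.natCard_eq_pow_finrank (K := F) (V := Submodule.span F {v}),
          finrank_span_singleton hv0, pow_one]
      have h10 : Nat.card Av = (Av : Set V).ncard := rfl
      rw [h10, ← h9, ← Set.ncard_union_eq h8 (Set.toFinite _) (Set.toFinite _)]
      refine Set.ncard_le_ncard ?_ (Set.toFinite _)
      apply Set.union_subset Set.inter_subset_right
      intro w hw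
      obtain ⟨a, rfl⟩ := Submodule.mem_span_singleton.1 hw
      exact self_smul_mem_dl a
    have h9 : Nat.card Av = Nat.card F * H.relIndex (rad Q v) := by
      have e1 := hcard (Bs Q H v)
      have e2 := relIndex_rad_mul hQ hv0 H
      rw [Module.natCard_eq_pow_finrank (K := F) (V := V), hd,
        show 2 * 4 = (2 * 4 - 1) + 1 by norm_num, pow_succ', ← hd, ← e2] at e1
      have e3 : Nat.card Av * Nat.card (Bs Q H v) =
          (Nat.card F * H.relIndex (rad Q v)) * Nat.card (Bs Q H v) := by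
        rw [e1]; ring
      exact Nat.eq_of_mul_eq_mul_right Nat.card_pos e3
    have h10 := relIndex_ge_Pst hvQ H
    set sv := H.relIndex (rad Q v)
    set tv := (Nst Q H v).relIndex (Pst Q v)
    set VS := (VecSet Q v y).ncard
    set a' := (VecSet Q v y ∩ (Av : Set V)).ncard
    set nv := H.relIndex (Pst Q v)
    generalize Nat.card F = q at *
    -- `VS + q tv ≤ q sv tv ≤ q nv`
    have h11 : VS + q * tv ≤ q * nv := by
      calc VS + q * tv ≤ tv * a' + q * tv := Nat.add_le_add_right h6 _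
        _ = tv * (a' + q) := by ring
        _ ≤ tv * (q * sv) := Nat.mul_le_mul_left _ (by omega)
        _ = q * (sv * tv) := by ring
        _ ≤ q * nv := Nat.mul_le_mul_left _ h10
    have h12 : q * nv < q * N0 := Nat.mul_lt_mul_of_pos_left hnv hqpos
    have h13 : VS < q * N0 := by omega
    obtain ⟨q', rfl⟩ : ∃ q', q = q' + 4 := ⟨q - 4, by omega⟩
    rw [show q' + 4 - 1 = q' + 3 by omega] at h7
    rw [hN0] at h13
    have e1 : (q' + 4) * (q' + 4) ^ 2 * ((q' + 4) * (q' + 4) ^ 2) +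
        (q' + 3) * ((q' + 4) * (q' + 4) ^ 2) = q' ^ 6 + 24 * q' ^ 5 + 241 * q' ^ 4 + 1295 * q' ^ 3
          + 3924 * q' ^ 2 + 6352 * q' + 4288 := by ring
    have e2 : (q' + 4) * ((q' + 4 + 1) * ((q' + 4) ^ 2 + 1)) = q' ^ 4 + 17 * q' ^ 3 + 109 * q' ^ 2
        + 313 * q' + 340 := by ring
    rw [e1] at h7
    rw [e2] at h13
    nlinarith [Nat.zero_le (q' ^ 6), Nat.zero_le (q' ^ 5), Nat.zero_le (q' ^ 4),
      Nat.zero_le (q' ^ 3), Nat.zero_le (q' ^ 2)]

end fin

end Cfsg.Agent.H75.OrthIdx
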