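import Cfsg.Agent.H425.ChrK

/-!
# Groups of Lie type of odd characteristic with few prime divisors: 17 and 5, 7, 11 or 31 (helper75)

`q2_a`, `q2_b`, `q2_c` : the sets `{2,3,5,7,17}`, `{2,3,5,7,11,17}`, `{2,3,5,7,17,31}`.
-/

set_option autoImplicit false
set_option linter.unusedSectionVars false
set_option linter.style.haveILetI false

namespace Cfsg.Agent.H75.Q2Num

open Cfsg Cfsg.Agent.OrdDiv Cfsg.Agent.H436 Cfsg.Agent.H425.Chr Cfsg.Agent.H425.PartP

/-- a primitive prime from remainders -/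
theorem mk {q e w : ℕ} (hw : w.Prime) (hq : 1 ≤ q) (he : 0 < e) (h1 : q ^ e % w = 1)
    (h2 : ∀ d < e, 0 < d → q ^ d % w ≠ 1) : Prim q e w := by
  have := Fact.mk hw
  have hw1 : 1 % w = 1 := Nat.mod_eq_of_lt hw.one_lt
  have key : ∀ m, ((q : ℕ) : ZMod w) ^ m = 1 ↔ q ^ m % w = 1 := by
    intro m
    rw [← Nat.cast_pow, ← Nat.cast_one (R := ZMod w), ZMod.natCast_eq_natCast_iff', hw1]
  have ho : orderOf ((q : ℕ) : ZMod w) = e := by
    rw [orderOf_eq_iff he]
    exact ⟨(key e).2 h1, fun m hm hm0 h => h2 m hm hm0 ((key m).1 h)⟩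
  refine ⟨hw, fun m => ?_, fun hd => ?_⟩
  · have h3 : 1 ≤ q ^ m := Nat.one_le_pow _ _ hq
    rw [← ZMod.natCast_eq_zero_iff, Nat.cast_sub h3, Nat.cast_pow, Nat.cast_one, sub_eq_zero, ← ho,
      orderOf_dvd_iff_pow_eq_one]
  · have h3 : w ∣ q ^ e := hd.trans (dvd_pow_self q (by omega))
    rw [Nat.mod_eq_zero_of_dvd h3] at h1
    exact zero_ne_one h1

variable {p f c : ℕ} {g : Grp}

/-- the characteristic divides the order -/
theorem p_dvd (H : Dat p f c g) : p ∣ c := by
  have key : ∀ N, N ≠ 0 → c.factorization p = f * N → p ∣ c := fun N hN h =>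
    Nat.dvd_of_factorization_pos (by rw [h]; exact Nat.mul_ne_zero H.hf hN)
  have two : ∀ n, 2 ≤ n → n * (n - 1) / 2 ≠ 0 := by
    intro n hn
    have h1 : 2 * 1 ≤ n * (n - 1) := Nat.mul_le_mul hn (by omega)
    omega
  obtain ⟨hp, hp2, hf, hc, hcond, hq, heq⟩ := H
  cases g with
  | psl n q =>
    obtain rfl : q = p ^ f := hq
    exact key _ (two n hcond.1) (v_psl hp hf heq hc)
  | psp n q =>
    obtain rfl : q = p ^ f := hq
    exact key _ (pow_ne_zero _ (by have := hcond.1; omega)) (v_psp hp hf heq hc)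
  | psu n q =>
    obtain rfl : q = p ^ f := hq
    exact key _ (two n (by have := hcond.1; omega)) (v_psu hp hf heq hc)
  | oodd n q =>
    obtain rfl : q = p ^ f := hq
    exact key _ (pow_ne_zero _ (by have := hcond.1; omega)) (v_oodd hp hf hp2 heq hc)
  | oplus n q =>
    obtain rfl : q = p ^ f := hq
    have h4 := hcond.1
    exact key _ (Nat.mul_ne_zero (by omega) (by omega)) (v_oplus hp hf (by omega) heq hc)
  | ominus n q =>
    obtain rfl : q = p ^ f := hq
    have h4 := hcond.1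
    exact key _ (Nat.mul_ne_zero (by omega) (by omega)) (v_ominus hp hf (by omega) heq hc)
  | g2 q =>
    obtain rfl : q = p ^ f := hq
    exact key _ (by norm_num) (v_g2 hp hf heq hc)
  | f4 q =>
    obtain rfl : q = p ^ f := hq
    exact key _ (by norm_num) (v_f4 hp hf heq hc)
  | e6 q =>
    obtain rfl : q = p ^ f := hq
    exact key _ (by norm_num) (v_e6 hp hf heq hc)
  | e7 q =>
    obtain rfl : q = p ^ f := hq
    exact key _ (by norm_num) (v_e7 hp hf heq hc)
  | e8 q =>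
    obtain rfl : q = p ^ f := hq
    exact key _ (by norm_num) (v_e8 hp hf heq hc)
  | te6 q =>
    obtain rfl : q = p ^ f := hq
    exact key _ (by norm_num) (v_te6 hp hf heq hc)
  | td4 q =>
    obtain rfl : q = p ^ f := hq
    exact key _ (by norm_num) (v_td4 hp hf heq hc)
  | sz q =>
    obtain rfl : q = p ^ f := hq
    exact key _ (by norm_num) (v_sz hp hf heq hc)
  | ree q =>
    obtain rfl : q = p ^ f := hq
    exact key _ (by norm_num) (v_ree hp hf heq hc)
  | tf4 q =>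
    obtain rfl : q = p ^ f := hq
    exact key _ (by norm_num) (v_tf4 hp hf heq hc)
  | _ => exfalso; have h0 : 0 = p ^ f := hq; have := Nat.pow_pos (n := f) hp.pos; omega

/-- names other than `PSL₂` have a class among `3, 4, 6, 8` -/
theorem high (H : Dat p f c g) (hg : ∀ q, g ≠ .psl 2 q) : ∃ d, (d = 3 ∨ d = 4 ∨ d = 6 ∨ d = 8) ∧ K g d := by
  obtain ⟨hp, hp2, hf, hc, hcond, hq, heq⟩ := H
  cases g with
  | psl n q =>
    have h2 := hcond.1
    have h3 : n ≠ 2 := by
      rintro rfl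
      exact hg q rfl
    exact ⟨3, Or.inl rfl, K_psl.2 (by omega)⟩
  | psp n q => exact ⟨4, by norm_num, (K_psp (by norm_num)).2 (by have := hcond.1; omega)⟩
  | psu n q => exact ⟨6, by norm_num, (K_psu (by norm_num)).2 (by have := hcond.1; omega)⟩
  | oodd n q => exact ⟨4, by norm_num, (K_oodd (by norm_num)).2 (by have := hcond.1; omega)⟩
  | oplus n q =>
    have h4 := hcond.1
    exact ⟨4, by norm_num, (K_oplus (by omega) (by norm_num)).2 (by omega)⟩
  | ominus n q =>
    have h4 := hcond.1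
    exact ⟨4, by norm_num, (K_ominus (by omega) (by norm_num)).2 (by omega)⟩
  | g2 q => exact ⟨6, by norm_num, Or.inr dvd_rfl⟩
  | f4 q => exact ⟨6, by norm_num, Or.inr (Or.inl dvd_rfl)⟩
  | e6 q => exact ⟨6, by norm_num, Or.inr (Or.inr (Or.inl dvd_rfl))⟩
  | e7 q => exact ⟨6, by norm_num, Or.inr (Or.inl dvd_rfl)⟩
  | e8 q => exact ⟨8, by norm_num, Or.inr (Or.inl dvd_rfl)⟩
  | te6 q => exact ⟨6, by norm_num, Or.inr (Or.inr (Or.inl dvd_rfl))⟩
  | td4 q => exact ⟨6, by norm_num, Or.inr (Or.inl dvd_rfl)⟩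
  | sz q => exact ⟨4, by norm_num, Or.inr ⟨by norm_num, by norm_num⟩⟩
  | ree q => exact ⟨6, by norm_num, Or.inr ⟨by norm_num, by norm_num⟩⟩
  | tf4 q => exact ⟨6, by norm_num, Or.inr (Or.inl ⟨by norm_num, by norm_num⟩)⟩
  | _ => exfalso; have h0 : 0 = p ^ f := hq; have := Nat.pow_pos (n := f) hp.pos; omega

/-- two primes of one class over the prime field -/
theorem twin (H : Dat p f c g) {e w w' : ℕ} (he : 3 ≤ e) (hw : Prim p e w) (hw' : Prim p e w') (h : w ∣ c) :
    w' ∣ c ∨ (e ∣ 2 * f ∧ ∃ d u, (d = 3 ∨ d = 4 ∨ d = 6 ∨ d = 8) ∧ Prim p (f * d) u ∧ u ∣ c) := by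
  by_cases h3 : 3 ≤ e / Nat.gcd e f
  · left
    exact (dvd_iff H.two_le h3 (prim_quot H.hf hw') H.hq H.eq).2
      ((dvd_iff H.two_le h3 (prim_quot H.hf hw) H.hq H.eq).1 h)
  · have hg0 : 0 < Nat.gcd e f := Nat.gcd_pos_of_pos_left _ (by omega)
    have h4 : e ∣ 2 * f := by
      obtain ⟨k, hk⟩ := Nat.gcd_dvd_left e f
      obtain ⟨l, hl⟩ := Nat.gcd_dvd_right e f
      have h5 : e / Nat.gcd e f = k := Nat.div_eq_of_eq_mul_right hg0 hk
      rw [h5] at h3
      have h6 : k ≠ 0 := by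
        rintro rfl
        omega
      have h7 : k ∣ 2 := by
        have h8 : k = 1 ∨ k = 2 := by omega
        rcases h8 with rfl | rfl
        · exact one_dvd _
        · exact dvd_rfl
      obtain ⟨j, hj⟩ := h7
      refine ⟨j * l, ?_⟩
      calc 2 * f = (k * j) * (Nat.gcd e f * l) := by rw [← hj, ← hl]
        _ = (Nat.gcd e f * k) * (j * l) := by ring
        _ = e * (j * l) := by rw [← hk]
    by_cases hpsl : ∃ q, g = .psl 2 q
    · left
      obtain ⟨q, rfl⟩ := hpsl
      obtain rfl : q = p ^ f := H.hq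
      have h5 : w' ∣ (p ^ f) ^ 2 - 1 := by
        rw [← pow_mul, mul_comm f 2]
        exact hw'.dvd h4
      have h2 : w' ≠ 2 := by
        rintro rfl
        exact hw'.not_dvd_two he dvd_rfl
      have h1 : Nat.gcd 2 (p ^ f - 1) * (p ^ f - 1) * c = glN 2 (p ^ f) := H.eq
      have hq2 := H.two_le
      generalize p ^ f = q at h5 h1 hq2
      have hs : glN 2 q = (q ^ 2 - 1) * (q ^ 2 - q) := by
        simp [glN, List.range_succ]
      have hs2 : q ^ 2 - q = (q - 1) * q := by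
        rw [pow_two, Nat.sub_mul, one_mul]
      rw [hs, hs2] at h1
      have h6 : Nat.gcd 2 (q - 1) * c = (q ^ 2 - 1) * q := by
        apply Nat.eq_of_mul_eq_mul_left (show 0 < q - 1 by omega)
        linarith [h1]
      have h7 : w' ∣ Nat.gcd 2 (q - 1) * c := by
        rw [h6]
        exact h5.mul_right _
      rcases hw'.prime.dvd_mul.1 h7 with h8 | h8
      · exact absurd ((Nat.prime_dvd_prime_iff_eq hw'.prime Nat.prime_two).1 (h8.trans (Nat.gcd_dvd_left _ _))) h2
      · exact h8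
    · right
      push Not at hpsl
      obtain ⟨d, hd, hK⟩ := high H hpsl
      obtain ⟨u, hu, huc⟩ := H.in_mul (d := d) (by omega) hK
      exact ⟨h4, d, u, hd, hu, huc⟩

/-- the primes of the class -/
theorem sub_one {e u : ℕ} (hp : 1 ≤ p) (h : Prim p e u) : e ∣ u - 1 := by
  have := Fact.mk h.prime
  apply (h.dvd_iff _).1
  have h2 : ((p : ℕ) : ZMod u) ≠ 0 := by
    rw [Ne, ZMod.natCast_eq_zero_iff]
    exact h.not_dvd
  have h3 := ZMod.pow_card_sub_one_eq_one h2
  have h4 : 1 ≤ p ^ (u - 1) := Nat.one_le_pow _ _ hp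
  rw [← ZMod.natCast_eq_zero_iff, Nat.cast_sub h4, Nat.cast_pow, h3, Nat.cast_one, sub_self]

theorem pr17_3 : Prim 3 16 17 := mk (by norm_num) (by norm_num) (by norm_num) (by decide) (by decide)
theorem pr17_5 : Prim 5 16 17 := mk (by norm_num) (by norm_num) (by norm_num) (by decide) (by decide)
theorem pr17_7 : Prim 7 16 17 := mk (by norm_num) (by norm_num) (by norm_num) (by decide) (by decide)
theorem pr17_11 : Prim 11 16 17 := mk (by norm_num) (by norm_num) (by norm_num) (by decide) (by decide)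
theorem pr17_31 : Prim 31 16 17 := mk (by norm_num) (by norm_num) (by norm_num) (by decide) (by decide)
theorem pr193 : Prim 3 16 193 := mk (by norm_num) (by norm_num) (by norm_num) (by decide) (by decide)
theorem pr11489 : Prim 5 16 11489 := mk (by norm_num) (by norm_num) (by norm_num) (by decide) (by decide)
theorem pr169553 : Prim 7 16 169553 := mk (by norm_num) (by norm_num) (by norm_num) (by decide) (by decide)
theorem pr6304673 : Prim 11 16 6304673 := mk (by norm_num) (by norm_num) (by norm_num) (by decide) (by decide)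
theorem pr17_4 : Prim 17 4 5 := mk (by norm_num) (by norm_num) (by norm_num) (by decide) (by decide)
theorem pr17_4' : Prim 17 4 29 := mk (by norm_num) (by norm_num) (by norm_num) (by decide) (by decide)
theorem pr17_6 : Prim 17 6 7 := mk (by norm_num) (by norm_num) (by norm_num) (by decide) (by decide)
theorem pr17_6' : Prim 17 6 13 := mk (by norm_num) (by norm_num) (by norm_num) (by decide) (by decide)
theorem pr17_10 : Prim 17 10 11 := mk (by norm_num) (by norm_num) (by norm_num) (by decide) (by decide)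
theorem pr17_10' : Prim 17 10 71 := mk (by norm_num) (by norm_num) (by norm_num) (by decide) (by decide)
theorem pr17_30 : Prim 17 30 31 := mk (by norm_num) (by norm_num) (by norm_num) (by decide) (by decide)
theorem pr17_30' : Prim 17 30 238212511 := mk (by norm_num) (by norm_num) (by norm_num) (by decide) (by decide)

theorem pr31 : ∃ w, Prim 31 16 w ∧ w ∉ ({2, 3, 5, 7, 17, 31} : Finset ℕ) := by
  have hN : (25085030513 : ℕ) ≠ 1 := by norm_num
  have hw := Nat.minFac_prime hN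
  have hd := Nat.minFac_dvd 25085030513
  generalize Nat.minFac 25085030513 = w at hw hd
  have hne : ∀ u, ¬ u ∣ 25085030513 → w ≠ u := by
    rintro u hu rfl
    exact hu hd
  have h2 := hne 2 (by norm_num)
  have h8 : w ∣ 31 ^ 8 + 1 := hd.trans ⟨34, by norm_num⟩
  have := Fact.mk hw
  have hx : ((31 : ℕ) : ZMod w) ^ 8 = -1 := by
    have h9 : ((31 ^ 8 + 1 : ℕ) : ZMod w) = 0 := (ZMod.natCast_eq_zero_iff _ _).2 h8
    rw [Nat.cast_add, Nat.cast_pow, Nat.cast_one] at h9
    exact eq_neg_of_add_eq_zero_left h9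
  have hone : (-1 : ZMod w) ≠ 1 := by
    have : Fact (2 < w) := ⟨by have := hw.two_le; omega⟩
    exact ZMod.neg_one_ne_one
  have ho : orderOf ((31 : ℕ) : ZMod w) = 2 ^ (3 + 1) := by
    have : Fact (Nat.Prime 2) := ⟨Nat.prime_two⟩
    refine orderOf_eq_prime_pow ?_ ?_
    · rw [show 2 ^ 3 = 8 by norm_num, hx]
      exact hone
    · rw [show 2 ^ (3 + 1) = 8 * 2 by norm_num, pow_mul, hx, neg_one_sq]
  refine ⟨w, ⟨hw, fun m => ?_, fun hd31 => ?_⟩, ?_⟩
  · have h3 : 1 ≤ 31 ^ m := Nat.one_le_pow _ _ (by norm_num)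
    rw [← ZMod.natCast_eq_zero_iff, Nat.cast_sub h3, Nat.cast_pow, Nat.cast_one, sub_eq_zero,
      ← orderOf_dvd_iff_pow_eq_one, ho]
    norm_num
  · exact hne 31 (by norm_num) ((Nat.prime_dvd_prime_iff_eq hw (by norm_num)).1 hd31)
  · simp only [Finset.mem_insert, Finset.mem_singleton, not_or]
    exact ⟨h2, hne 3 (by norm_num), hne 5 (by norm_num), hne 7 (by norm_num), hne 17 (by norm_num),
      hne 31 (by norm_num)⟩

/-- the key elimination -/
theorem kill (H : Dat p f c g) {P : Finset ℕ} (hπ : ∀ r : ℕ, r.Prime → r ∣ c → r ∈ P) {e w w' : ℕ} (he : 3 ≤ e)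
    (hw : Prim p e w) (hw' : Prim p e w') (h : w ∣ c) (hP : w' ∉ P)
    (hb : ∀ f' d : ℕ, f' ≠ 0 → e ∣ 2 * f' → (d = 3 ∨ d = 4 ∨ d = 6 ∨ d = 8) → ∀ u ∈ P, u ≠ p → 2 ≤ u →
      ¬ f' * d ∣ u - 1) : False := by
  rcases twin H he hw hw' h with h1 | ⟨h1, d, u, hd, hu, huc⟩
  · exact hP (hπ _ hw'.prime h1)
  · refine hb f d H.hf h1 hd u (hπ u hu.prime huc) ?_ hu.prime.two_le (sub_one H.hp.one_lt.le hu)
    rintro rfl
    exact hu.not_dvd dvd_rfl

theorem bound16 {P : Finset ℕ} {p : ℕ} (hP : ∀ u ∈ P, u ≠ p → u ≤ 17 ∨ u = 31) (f' d : ℕ) (hf : f' ≠ 0)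
    (h : 16 ∣ 2 * f') (hd : d = 3 ∨ d = 4 ∨ d = 6 ∨ d = 8) (u : ℕ) (hu : u ∈ P) (hup : u ≠ p) (hu2 : 2 ≤ u) :
    ¬ f' * d ∣ u - 1 := by
  intro h1
  obtain ⟨k, hk⟩ : ∃ k, f' = 8 * k := by
    obtain ⟨k, hk⟩ := h
    exact ⟨k, by omega⟩
  have h2 := Nat.le_of_dvd (by omega) h1
  have hk0 : 1 ≤ k := by
    rcases Nat.eq_zero_or_pos k with h3 | h3
    · rw [h3] at hk; omega
    · exact h3
  have h3 : 8 * 3 ≤ f' * d := Nat.mul_le_mul (by omega) (by omega)
  rcases hP u hu hup with h4 | h4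
  · omega
  · have h5 : 8 ∣ f' * d := ⟨k * d, by rw [hk]; ring⟩
    have h6 := h5.trans h1
    omega

theorem big {p e L : ℕ} {P : Finset ℕ} (hP : ∀ u ∈ P, u ≠ p → u ≤ L) (m : ℕ) (he : ∀ f', e ∣ 2 * f' → m ∣ f')
    (hm : L ≤ 3 * m) (f' d : ℕ) (hf : f' ≠ 0)
    (h : e ∣ 2 * f') (hd : d = 3 ∨ d = 4 ∨ d = 6 ∨ d = 8) (u : ℕ) (hu : u ∈ P) (hup : u ≠ p) (hu2 : 2 ≤ u) :
    ¬ f' * d ∣ u - 1 := by
  intro h1
  have h2 := Nat.le_of_dvd (by omega) h1
  have h3 := Nat.le_of_dvd (Nat.pos_of_ne_zero hf) (he f' h)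
  have h4 : m * 3 ≤ f' * d := Nat.mul_le_mul h3 (by omega)
  have := hP u hu hup
  omega

theorem q2_a (H : Dat p f c g) (hπ : ∀ r : ℕ, r.Prime → r ∣ c → r ∈ ({2, 3, 5, 7, 17} : Finset ℕ)) (h17 : 17 ∣ c)
    (h57 : 5 ∣ c ∨ 7 ∣ c) : False := by
  have hp := hπ p H.hp (p_dvd H)
  simp only [Finset.mem_insert, Finset.mem_singleton] at hp
  rcases hp with rfl | rfl | rfl | rfl | rfl
  · exact H.hp2 rfl
  · exact kill H hπ (by norm_num) pr17_3 pr193 h17 (by decide) (bound16 (by decide))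
  · exact kill H hπ (by norm_num) pr17_5 pr11489 h17 (by decide) (bound16 (by decide))
  · exact kill H hπ (by norm_num) pr17_7 pr169553 h17 (by decide) (bound16 (by decide))
  · have h7 : ¬ 7 ∣ c := fun h7 => kill H hπ (by norm_num) pr17_6 pr17_6' h7 (by decide)
      (big (L := 7) (by decide) 3 (fun f' h => by omega) (by norm_num))
    have h5 : 5 ∣ c := h57.resolve_right h7
    rcases twin H (by norm_num) pr17_4 pr17_4' h5 with h1 | ⟨h1, d, u, hd, hu, huc⟩
    · exact absurd (hπ _ pr17_4'.prime h1) (by decide)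
    · have h2 := hπ u hu.prime huc
      have h3 := sub_one (by norm_num) hu
      have h4 : 2 * 3 ≤ f * d := Nat.mul_le_mul (by have := H.hf; omega) (by omega)
      have h6 := Nat.le_of_dvd (by have := hu.prime.two_le; omega) h3
      simp only [Finset.mem_insert, Finset.mem_singleton] at h2
      rcases h2 with rfl | rfl | rfl | rfl | rfl
      · omega
      · omega
      · omega
      · exact h7 huc
      · exact hu.not_dvd dvd_rfl

theorem q2_b (H : Dat p f c g) (hπ : ∀ r : ℕ, r.Prime → r ∣ c → r ∈ ({2, 3, 5, 7, 11, 17} : Finset ℕ)) (h11 : 11 ∣ c)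
    (h17 : 17 ∣ c) : False := by
  have hp := hπ p H.hp (p_dvd H)
  simp only [Finset.mem_insert, Finset.mem_singleton] at hp
  rcases hp with rfl | rfl | rfl | rfl | rfl | rfl
  · exact H.hp2 rfl
  · exact kill H hπ (by norm_num) pr17_3 pr193 h17 (by decide) (bound16 (by decide))
  · exact kill H hπ (by norm_num) pr17_5 pr11489 h17 (by decide) (bound16 (by decide))
  · exact kill H hπ (by norm_num) pr17_7 pr169553 h17 (by decide) (bound16 (by decide))
  · exact kill H hπ (by norm_num) pr17_11 pr6304673 h17 (by decide) (bound16 (by decide))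
  · exact kill H hπ (by norm_num) pr17_10 pr17_10' h11 (by decide)
      (big (L := 11) (by decide) 5 (fun f' h => by omega) (by norm_num))

theorem q2_c (H : Dat p f c g) (hπ : ∀ r : ℕ, r.Prime → r ∣ c → r ∈ ({2, 3, 5, 7, 17, 31} : Finset ℕ)) (h17 : 17 ∣ c)
    (h31 : 31 ∣ c) : False := by
  have hp := hπ p H.hp (p_dvd H)
  simp only [Finset.mem_insert, Finset.mem_singleton] at hp
  rcases hp with rfl | rfl | rfl | rfl | rfl | rfl
  · exact H.hp2 rfl
  · exact kill H hπ (by norm_num) pr17_3 pr193 h17 (by decide) (bound16 (by decide))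
  · exact kill H hπ (by norm_num) pr17_5 pr11489 h17 (by decide) (bound16 (by decide))
  · exact kill H hπ (by norm_num) pr17_7 pr169553 h17 (by decide) (bound16 (by decide))
  · exact kill H hπ (by norm_num) pr17_30 pr17_30' h31 (by decide)
      (big (L := 31) (by decide) 15 (fun f' h => by omega) (by norm_num))
  · obtain ⟨w, hw, hwP⟩ := pr31
    exact kill H hπ (by norm_num) pr17_31 hw h17 hwP (bound16 (by decide))

end Cfsg.Agent.H75.Q2Num
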