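import Cfsg.Agent.LieClassical.OrthFinite
import Cfsg.Agent.ClassicalGeometry.WittQuad

/-!
Siegel transformations without proof arguments (`sg Q u w`), the Weyl elements they generate, and
transitivity of `E Q` on tuples of vectors (Witt's theorem for `E Q`).
-/

set_option autoImplicit false

namespace Cfsg.Agent.H75.OrthIdx

open QuadraticMap Cfsg.Agent.LieClassical.OrthCore Cfsg.Agent.LieClassical.OrthTrans

variable {F V : Type*} [Field F] [AddCommGroup V] [Module F V] {Q : QuadraticForm F V}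

open Classical in
/-- The Siegel transformation, `1` when the side conditions fail. -/
noncomputable def sg (Q : QuadraticForm F V) (u w : V) : V ≃ₗ[F] V :=
  if h : Q u = 0 ∧ polar Q u w = 0 then siegel Q u w h.1 h.2 else 1

theorem sg_eq {u w : V} (hu : Q u = 0) (hw : polar Q u w = 0) :
    sg Q u w = siegel Q u w hu hw := by
  rw [sg, dif_pos ⟨hu, hw⟩]

theorem sg_of_not {u w : V} (h : ¬ (Q u = 0 ∧ polar Q u w = 0)) : sg Q u w = 1 := by
  rw [sg, dif_neg h]

theorem sg_apply {u w : V} (hu : Q u = 0) (hw : polar Q u w = 0) (v : V) :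
    sg Q u w v = v + polar Q u v • w - polar Q w v • u - (Q w * polar Q u v) • u := by
  rw [sg_eq hu hw, siegel_apply]

theorem sg_mem_E (u w : V) : sg Q u w ∈ E Q := by
  by_cases h : Q u = 0 ∧ polar Q u w = 0
  · rw [sg_eq h.1 h.2]; exact siegel_mem_E h.1 h.2
  · rw [sg_of_not h]; exact Subgroup.one_mem _

theorem sg_mem_O (u w : V) : sg Q u w ∈ O Q := E_le_O (sg_mem_E u w)

theorem sg_mul {u w w' : V} (hw : polar Q u w = 0) (hw' : polar Q u w' = 0) :
    sg Q u w * sg Q u w' = sg Q u (w + w') := by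
  have hww : polar Q u (w + w') = 0 := by rw [polar_add_right, hw, hw', add_zero]
  by_cases hu : Q u = 0
  · rw [sg_eq hu hw, sg_eq hu hw', sg_eq hu hww]
    exact siegel_mul hu hw hw' hww
  · rw [sg_of_not (fun h => hu h.1), sg_of_not (fun h => hu h.1), sg_of_not (fun h => hu h.1),
      one_mul]

theorem sg_zero (u : V) : sg Q u 0 = 1 := by
  have h := sg_mul (Q := Q) (u := u) (w := 0) (w' := 0) (polar_zero_right (Q := Q) u)
    (polar_zero_right (Q := Q) u)
  rw [add_zero] at h
  exact mul_eq_left.1 h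

theorem sg_inv {u w : V} (hw : polar Q u w = 0) : (sg Q u w)⁻¹ = sg Q u (-w) := by
  have hw' : polar Q u (-w) = 0 := by rw [polar_neg_right, hw, neg_zero]
  apply inv_eq_of_mul_eq_one_right
  rw [sg_mul hw hw', add_neg_cancel, sg_zero]

theorem sg_conj {g : V ≃ₗ[F] V} (hg : g ∈ O Q) (u w : V) :
    g * sg Q u w * g⁻¹ = sg Q (g u) (g w) := by
  by_cases h : Q u = 0 ∧ polar Q u w = 0
  · have hu' : Q (g u) = 0 := by rw [mem_O.1 hg]; exact h.1
    have hw' : polar Q (g u) (g w) = 0 := by rw [polar_map hg]; exact h.2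
    rw [sg_eq h.1 h.2, sg_eq hu' hw', siegel_conj hg h.1 h.2 hu' hw']
  · have h' : ¬ (Q (g u) = 0 ∧ polar Q (g u) (g w) = 0) := by
      rw [mem_O.1 hg, polar_map hg]; exact h
    rw [sg_of_not h, sg_of_not h', mul_one, mul_inv_cancel]

theorem sg_smul_left {u w : V} {c : F} (hc : c ≠ 0) : sg Q (c • u) w = sg Q u (c • w) := by
  by_cases h : Q u = 0 ∧ polar Q u w = 0
  · have h1 : Q (c • u) = 0 := by rw [QuadraticMap.map_smul, h.1, smul_zero]
    have h2 : polar Q (c • u) w = 0 := by rw [polar_smul_left, h.2, smul_zero]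
    have h3 : polar Q u (c • w) = 0 := by rw [polar_smul_right, h.2, smul_zero]
    rw [sg_eq h1 h2, sg_eq h.1 h3]
    ext x
    rw [siegel_apply, siegel_apply, polar_smul_left, polar_smul_left, QuadraticMap.map_smul]
    simp only [smul_eq_mul]
    module
  · have h1 : ¬ (Q (c • u) = 0 ∧ polar Q (c • u) w = 0) := by
      rw [QuadraticMap.map_smul, polar_smul_left, smul_eq_mul, smul_eq_mul, mul_eq_zero,
        mul_eq_zero, mul_eq_zero]
      rintro ⟨h1, h2⟩
      exact h ⟨by tauto, by tauto⟩
    have h3 : ¬ (Q u = 0 ∧ polar Q u (c • w) = 0) := by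
      rw [polar_smul_right, smul_eq_mul, mul_eq_zero]
      rintro ⟨h1, h2⟩
      exact h ⟨h1, by tauto⟩
    rw [sg_of_not h1, sg_of_not h3]

theorem sg_add_smul {u : V} (hu : Q u = 0) (w : V) (c : F) :
    sg Q u (w + c • u) = sg Q u w := by
  have e : polar Q u (w + c • u) = polar Q u w := by
    rw [polar_add_right, polar_smul_right, polar_self_of_sing hu, smul_zero, add_zero]
  by_cases h : polar Q u w = 0
  · have h' : polar Q u (w + c • u) = 0 := by rw [e, h]
    have hQ : Q (w + c • u) = Q w := by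
      rw [Q_add, QuadraticMap.map_smul, hu, polar_smul_right, polar_comm Q w u, h]
      simp
    ext x
    rw [sg_apply hu h', sg_apply hu h, hQ, polar_add_left, polar_smul_left]
    simp only [smul_eq_mul]
    module
  · rw [sg_of_not (fun h' => h h'.2), sg_of_not (fun h' => h (e ▸ h'.2))]

theorem sg_smul_self {u : V} (hu : Q u = 0) (c : F) : sg Q u (c • u) = 1 := by
  have := sg_add_smul (Q := Q) hu 0 c
  rwa [zero_add, sg_zero] at this

theorem sg_fix {u w x : V} (h1 : polar Q u x = 0) (h2 : polar Q w x = 0) : sg Q u w x = x := by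
  by_cases h : Q u = 0 ∧ polar Q u w = 0
  · rw [sg_apply h.1 h.2, h1, h2]; simp
  · rw [sg_of_not h]; rfl

theorem sg_swap {u w : V} (hu : Q u = 0) (hw : Q w = 0) (huw : polar Q u w = 0) :
    sg Q u w = sg Q w (-u) := by
  have h1 : polar Q w (-u) = 0 := by rw [polar_neg_right, polar_comm, huw, neg_zero]
  ext x
  rw [sg_apply hu huw, sg_apply hw h1, hw, QuadraticMap.map_neg, hu, polar_neg_left]
  module

theorem eq_smul_of_sg_eq_one {u w : V} (hQ : Nondeg Q) (hu : Q u = 0) (hu0 : u ≠ 0)
    (hw : polar Q u w = 0) (h : sg Q u w = 1) : ∃ c : F, w = c • u := by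
  obtain ⟨y, hy⟩ := hQ.exists_polar_eq hu0 1
  have h1 : sg Q u w y = y := by rw [h]; rfl
  rw [sg_apply hu hw, hy, one_smul, mul_one] at h1
  refine ⟨polar Q w y + Q w, ?_⟩
  have h2 : w - (polar Q w y + Q w) • u = (y + w - polar Q w y • u - Q w • u) - y := by module
  rw [h1, sub_self] at h2
  exact sub_eq_zero.1 h2

/-! ### The Weyl element -/

/-- The Weyl element attached to a hyperbolic pair `(e, f)` and a nonsingular `w`. -/
noncomputable def wl (Q : QuadraticForm F V) (e f w : V) : V ≃ₗ[F] V :=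
  sg Q e w * sg Q f ((Q w)⁻¹ • w) * sg Q e w

theorem wl_mem_O (e f w : V) : wl Q e f w ∈ O Q :=
  (O Q).mul_mem ((O Q).mul_mem (sg_mem_O _ _) (sg_mem_O _ _)) (sg_mem_O _ _)

theorem wl_perp {e f w x : V} (h : Hyp Q e f) (hw : Q w ≠ 0) (hew : polar Q e w = 0)
    (hfw : polar Q f w = 0) (hex : polar Q e x = 0) (hfx : polar Q f x = 0) :
    wl Q e f w x = x - ((Q w)⁻¹ * polar Q w x) • w := by
  have hfw' : polar Q f ((Q w)⁻¹ • w) = 0 := by rw [polar_smul_right, hfw, smul_zero]
  have hwf : polar Q w f = 0 := by rw [polar_comm]; exact hfw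
  have hwe : polar Q w e = 0 := by rw [polar_comm]; exact hew
  have hE := fun x => sg_apply (Q := Q) h.left hew x
  have hF := fun x => sg_apply (Q := Q) h.right hfw' x
  show sg Q e w (sg Q f ((Q w)⁻¹ • w) (sg Q e w x)) = _
  rw [hE x, hF, hE]
  simp only [polar_sub_right, polar_add_right, polar_smul_right, h.pair, h.pair', h.polar_left,
    h.polar_right, hew, polar_smul_left, QuadraticMap.map_smul, hex, hfx,
    polar_self', hwe, hwf, hfw, smul_eq_mul]
  match_scalars <;> field_simp <;> ring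

theorem wl_left {e f w : V} (h : Hyp Q e f) (hw : Q w ≠ 0) (hew : polar Q e w = 0)
    (hfw : polar Q f w = 0) : wl Q e f w e = (-(Q w)⁻¹) • f := by
  have hfw' : polar Q f ((Q w)⁻¹ • w) = 0 := by rw [polar_smul_right, hfw, smul_zero]
  have hwf : polar Q w f = 0 := by rw [polar_comm]; exact hfw
  have hwe : polar Q w e = 0 := by rw [polar_comm]; exact hew
  have hE := fun x => sg_apply (Q := Q) h.left hew x
  have hF := fun x => sg_apply (Q := Q) h.right hfw' x
  show sg Q e w (sg Q f ((Q w)⁻¹ • w) (sg Q e w e)) = _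
  rw [hE e, hF, hE]
  simp only [polar_sub_right, polar_add_right, polar_smul_right, h.pair, h.pair', h.polar_left,
    h.polar_right, hew, polar_smul_left, QuadraticMap.map_smul,
    polar_self', hwe, hwf, hfw, smul_eq_mul]
  match_scalars <;> field_simp <;> ring

theorem wl_right {e f w : V} (h : Hyp Q e f) (hw : Q w ≠ 0) (hew : polar Q e w = 0)
    (hfw : polar Q f w = 0) : wl Q e f w f = (-(Q w)) • e := by
  have hfw' : polar Q f ((Q w)⁻¹ • w) = 0 := by rw [polar_smul_right, hfw, smul_zero]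
  have hwf : polar Q w f = 0 := by rw [polar_comm]; exact hfw
  have hwe : polar Q w e = 0 := by rw [polar_comm]; exact hew
  have hE := fun x => sg_apply (Q := Q) h.left hew x
  have hF := fun x => sg_apply (Q := Q) h.right hfw' x
  show sg Q e w (sg Q f ((Q w)⁻¹ • w) (sg Q e w f)) = _
  rw [hE f, hF, hE]
  simp only [polar_sub_right, polar_add_right, polar_smul_right, h.pair, h.pair', h.polar_left,
    h.polar_right, hew, polar_smul_left, QuadraticMap.map_smul,
    polar_self', hwe, hwf, hfw, smul_eq_mul]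
  match_scalars <;> field_simp <;> ring

end Cfsg.Agent.H75.OrthIdx
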