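import Cfsg.Agent.H75.Lower

/-!
Step 1: a subgroup of index less than `2 q^(d-2)` contains a nontrivial Siegel transformation.
-/

set_option autoImplicit false

namespace Cfsg.Agent.H75.OrthIdx

open QuadraticMap Cfsg.Agent.LieClassical.OrthCore Cfsg.Agent.LieClassical.OrthTrans

variable {F V : Type*} [Field F] [AddCommGroup V] [Module F V] {Q : QuadraticForm F V}

/-- Singular vectors `e` whose `Bs` is nontrivial. -/
def PP (Q : QuadraticForm F V) (H : Subgroup (V ≃ₗ[F] V)) : Set V :=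
  {e | e ≠ 0 ∧ Q e = 0 ∧ ∃ v ∈ Bs Q H e, v ∉ Submodule.span F {e}}

/-- The product `(H ⊓ P) rad`. -/
noncomputable def HR (Q : QuadraticForm F V) (H : Subgroup (V ≃ₗ[F] V)) (e : V) :
    Subgroup (V ≃ₗ[F] V) where
  carrier := {g | ∃ h ∈ H ⊓ Pst Q e, ∃ ρ ∈ rad Q e, g = h * ρ}
  mul_mem' {a b} := by
    rintro ⟨h, hh, ρ, hρ, rfl⟩ ⟨h', hh', ρ', hρ', rfl⟩
    refine ⟨h * h', (H ⊓ Pst Q e).mul_mem hh hh', (h'⁻¹ * ρ * h') * ρ', ?_, by group⟩
    apply (rad Q e).mul_mem _ hρ'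
    have := conj_mem_rad (Subgroup.inv_mem _ hh'.2) hρ
    rwa [inv_inv] at this
  one_mem' := ⟨1, Subgroup.one_mem _, 1, Subgroup.one_mem _, by rw [mul_one]⟩
  inv_mem' {a} := by
    rintro ⟨h, hh, ρ, hρ, rfl⟩
    refine ⟨h⁻¹, Subgroup.inv_mem _ hh, h * ρ⁻¹ * h⁻¹, conj_mem_rad hh.2 (Subgroup.inv_mem _ hρ),
      by group⟩

theorem mem_HR {H : Subgroup (V ≃ₗ[F] V)} {e : V} {g : V ≃ₗ[F] V} :
    g ∈ HR Q H e ↔ ∃ h ∈ H ⊓ Pst Q e, ∃ ρ ∈ rad Q e, g = h * ρ := Iff.rfl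

section fin

variable [Finite F] [FiniteDimensional F V]

theorem step1_aux (hG : Good Q) {H : Subgroup (V ≃ₗ[F] V)}
    (hn : H.relIndex (E Q) < 2 * Nat.card F ^ (Module.finrank F V - 2))
    {e : V} (he0 : e ≠ 0) (heQ : Q e = 0)
    (htriv : ∀ v ∈ Bs Q H e, v ∈ Submodule.span F {e})
    {c : F} {z : V ≃ₗ[F] V} (hz : z ∈ E Q) (hc : c ≠ 0) (hze : z e = c • e)
    (hfpf : ∀ v, polar Q e v = 0 → c • z v - v ∈ Submodule.span F {e} →
      v ∈ Submodule.span F {e})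
    {u w : V} (heu : polar Q e u = 0)
    (hew : polar Q e w = 0) (hzu : z u = u) (hzw : z w = w) :
    ∃ x ∈ rad Q e, sg Q (x u) (x w) ∈ H := by
  classical
  have hQ := hG.nondeg
  have hfin := finite_equiv (F := F) (V := V)
  have hd1 : 1 ≤ Module.finrank F V := by
    have := finrank_ep hQ he0
    omega
  -- `H ⊓ rad = 1`
  have hHrad : ∀ g ∈ H, g ∈ rad Q e → g = 1 := by
    intro g hgH hg
    obtain ⟨v, hv, rfl⟩ := mem_rad.1 hg
    obtain ⟨a, rfl⟩ := Submodule.mem_span_singleton.1 (htriv v ⟨hv, hgH⟩)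
    exact sg_smul_self heQ a
  have hzP : z ∈ Pst Q e := ⟨hz, c, hc, hze⟩
  -- `rad` acts fixed point freely
  have hfree : ∀ x ∈ rad Q e, z * x = x * z → x = 1 := by
    intro x hx hxz
    obtain ⟨v, hv, rfl⟩ := mem_rad.1 hx
    have h1 : z * sg Q e v * z⁻¹ = sg Q e v := by rw [hxz, mul_inv_cancel_right]
    rw [conj_sg (E_le_O hz) hc hze] at h1
    have h3 : polar Q e (c • z v) = 0 := by
      have h4 := polar_map (E_le_O hz) e v
      rw [hze, polar_smul_left, hv] at h4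
      rw [polar_smul_right]; exact h4
    have h2 : sg Q e (c • z v - v) = 1 := by
      have hv' : polar Q e (-v) = 0 := by rw [polar_neg_right, hv, neg_zero]
      rw [sub_eq_add_neg, ← sg_mul h3 hv', h1, ← sg_inv hv, mul_inv_cancel]
    obtain ⟨a, ha⟩ := eq_smul_of_sg_eq_one hQ heQ he0 (by
      rw [polar_sub_right, h3, hv, sub_zero]) h2
    obtain ⟨b, rfl⟩ := Submodule.mem_span_singleton.1 (hfpf v hv (by
      rw [ha]; exact Submodule.smul_mem _ _ (Submodule.mem_span_singleton_self e)))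
    exact sg_smul_self heQ b
  -- `P = (H ⊓ P) rad`
  have hP : Pst Q e ≤ HR Q H e := by
    have hradidx : H.relIndex (rad Q e) = Nat.card F ^ (Module.finrank F V - 2) := by
      have h1 := relIndex_rad_mul hQ he0 H
      have h2 : Nat.card (Bs Q H e) = Nat.card F := by
        have h3 : (Bs Q H e : Set V) = (Submodule.span F {e} : Set V) := by
          ext v
          constructor
          · exact htriv v
          · intro hv
            obtain ⟨a, rfl⟩ := Submodule.mem_span_singleton.1 hv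
            exact ⟨by rw [polar_smul_right, polar_self_of_sing heQ, smul_zero], by
              rw [sg_smul_self heQ]; exact H.one_mem⟩
        have h4 : (Bs Q H e : Set V).ncard = (Submodule.span F {e} : Set V).ncard := by rw [h3]
        have h5 : Nat.card (Bs Q H e) = (Bs Q H e : Set V).ncard := rfl
        have h6 : (Submodule.span F {e} : Set V).ncard = Nat.card (Submodule.span F {e}) := rfl
        rw [h5, h4, h6, Module.natCard_eq_pow_finrank (K := F) (V := Submodule.span F {e}),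
          finrank_span_singleton he0, pow_one]
      rw [h2] at h1
      have h5 : 2 ≤ Module.finrank F V := by
        by_contra hcon
        have h6 : Module.finrank F V = 1 := by omega
        have h7 := finrank_ep hQ he0
        have h8 : Module.finrank F (ep Q e) = 0 := by omega
        have h9 := Submodule.finrank_eq_zero.1 h8
        have h10 : e ∈ ep Q e := mem_ep.2 (polar_self_of_sing heQ)
        rw [h9] at h10
        exact he0 ((Submodule.mem_bot F).1 h10)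
      have h3 : Nat.card F ^ (Module.finrank F V - 1) =
          Nat.card F ^ (Module.finrank F V - 2) * Nat.card F := by
        rw [← pow_succ]; congr 1; omega
      rw [h3] at h1
      exact Nat.eq_of_mul_eq_mul_right Nat.card_pos h1
    have hHK : H ⊓ Pst Q e ≤ HR Q H e := by
      intro g hg
      exact ⟨g, hg, 1, Subgroup.one_mem _, by rw [mul_one]⟩
    have hRK : rad Q e ≤ HR Q H e := by
      intro g hg
      exact ⟨1, Subgroup.one_mem _, g, hg, by rw [one_mul]⟩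
    have hKP : HR Q H e ≤ Pst Q e := by
      rintro g ⟨h, hh, ρ, hρ, rfl⟩
      exact (Pst Q e).mul_mem hh.2 (rad_le_Pst heQ hρ)
    have h1 : (H ⊓ Pst Q e).relIndex (HR Q H e) * (HR Q H e).relIndex (Pst Q e) =
        (H ⊓ Pst Q e).relIndex (Pst Q e) := Subgroup.relIndex_mul_relIndex _ _ _ hHK hKP
    have h2 : (H ⊓ Pst Q e).relIndex (Pst Q e) = H.relIndex (Pst Q e) :=
      Subgroup.inf_relIndex_right _ _
    have h3 : H.relIndex (Pst Q e) ≤ H.relIndex (E Q) :=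
      Subgroup.relIndex_le_of_le_right (Pst_le_E e) (relIndex_ne _ _)
    have h4 : H.relIndex (rad Q e) ≤ (H ⊓ Pst Q e).relIndex (HR Q H e) :=
      (Subgroup.relIndex_le_of_le_left inf_le_left (relIndex_ne _ _)).trans
        (Subgroup.relIndex_le_of_le_right hRK (relIndex_ne _ _))
    rw [hradidx] at h4
    have h5 : (HR Q H e).relIndex (Pst Q e) = 1 := by
      have h6 : (HR Q H e).relIndex (Pst Q e) ≠ 0 := relIndex_ne _ _
      by_contra h7
      have h8 : 2 ≤ (HR Q H e).relIndex (Pst Q e) := by omega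
      have h9 := Nat.mul_le_mul h4 h8
      rw [h1, h2] at h9
      omega
    exact Subgroup.relIndex_eq_one.1 h5
  -- `z` is conjugate to an element of `H`
  obtain ⟨h0, hh0, ρ, hρ, hzh⟩ := hP hzP
  have hx : ∃ x ∈ rad Q e, x * z * x⁻¹ = h0 := by
    let φ : rad Q e → rad Q e := fun x =>
      ⟨z⁻¹ * x * z * (x : V ≃ₗ[F] V)⁻¹, (rad Q e).mul_mem (by
        have := conj_mem_rad (Subgroup.inv_mem _ hzP) x.2
        rwa [inv_inv] at this) ((rad Q e).inv_mem x.2)⟩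
    have hφ : Function.Injective φ := by
      intro x y hxy
      have h1 : z⁻¹ * x * z * (x : V ≃ₗ[F] V)⁻¹ = z⁻¹ * y * z * (y : V ≃ₗ[F] V)⁻¹ :=
        congrArg Subtype.val hxy
      have h2 : z * ((y : V ≃ₗ[F] V)⁻¹ * x) = ((y : V ≃ₗ[F] V)⁻¹ * x) * z := by
        have h3 : (z⁻¹ * (y : V ≃ₗ[F] V) * z)⁻¹ * (z⁻¹ * x * z) =
            (y : V ≃ₗ[F] V)⁻¹ * x := by
          calc (z⁻¹ * (y : V ≃ₗ[F] V) * z)⁻¹ * (z⁻¹ * x * z)
              = (z⁻¹ * (y : V ≃ₗ[F] V) * z)⁻¹ * (z⁻¹ * x * z * (x : V ≃ₗ[F] V)⁻¹) * x := by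
                group
            _ = (y : V ≃ₗ[F] V)⁻¹ * x := by rw [h1]; group
        calc z * ((y : V ≃ₗ[F] V)⁻¹ * x) = z * ((z⁻¹ * (y : V ≃ₗ[F] V) * z)⁻¹ * (z⁻¹ * x * z)) := by
              rw [h3]
          _ = _ := by group
      have h4 := hfree _ ((rad Q e).mul_mem ((rad Q e).inv_mem y.2) x.2) h2
      apply Subtype.ext
      exact (inv_mul_eq_one.1 h4).symm
    have hsurj := Finite.surjective_of_injective hφ
    obtain ⟨x, hxρ⟩ := hsurj ⟨ρ⁻¹, (rad Q e).inv_mem hρ⟩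
    have h1 : z⁻¹ * x * z * (x : V ≃ₗ[F] V)⁻¹ = ρ⁻¹ := congrArg Subtype.val hxρ
    refine ⟨x, x.2, ?_⟩
    calc (x : V ≃ₗ[F] V) * z * (x : V ≃ₗ[F] V)⁻¹ = z * (z⁻¹ * x * z * (x : V ≃ₗ[F] V)⁻¹) := by
          group
      _ = h0 := by rw [h1, hzh, mul_inv_cancel_right]
  obtain ⟨x, hx, hxz⟩ := hx
  refine ⟨x, hx, ?_⟩
  have hxP := rad_le_Pst heQ hx
  have hxO := E_le_O hxP.1
  rw [← sg_conj hxO]
  set y := sg Q u w with hy
  have hyP : y ∈ Pst Q e := ⟨sg_mem_E _ _, 1, one_ne_zero, by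
    rw [hy, sg_fix, one_smul]
    · rw [polar_comm]; exact heu
    · rw [polar_comm]; exact hew⟩
  obtain ⟨h1, hh1, ρ1, hρ1, hyh⟩ := hP ((Pst Q e).mul_mem ((Pst Q e).mul_mem hxP hyP)
    (Subgroup.inv_mem _ hxP))
  have hzy : z * y = y * z := by
    have h2 : z * y * z⁻¹ = y := by rw [hy, sg_conj (E_le_O hz), hzu, hzw]
    calc z * y = z * y * z⁻¹ * z := by group
      _ = y * z := by rw [h2]
  -- `h0` commutes with `x y x⁻¹ = h1 ρ1`
  have h3 : h0 * (h1 * ρ1) = (h1 * ρ1) * h0 := by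
    rw [← hyh, ← hxz]
    calc x * z * x⁻¹ * (x * y * x⁻¹) = x * (z * y) * x⁻¹ := by group
      _ = x * (y * z) * x⁻¹ := by rw [hzy]
      _ = _ := by group
  have hh0' : h0 ∈ H := hh0.1
  have hh1' : h1 ∈ H := hh1.1
  have h4 : h1⁻¹ * h0 * h1 * h0⁻¹ = ρ1 * (h0 * ρ1⁻¹ * h0⁻¹) := by
    have h5 : h0 * h1 = h1 * ρ1 * h0 * ρ1⁻¹ := by rw [← h3]; group
    calc h1⁻¹ * h0 * h1 * h0⁻¹ = h1⁻¹ * (h0 * h1) * h0⁻¹ := by group
      _ = h1⁻¹ * (h1 * ρ1 * h0 * ρ1⁻¹) * h0⁻¹ := by rw [h5]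
      _ = _ := by group
  have h5 : ρ1 * (h0 * ρ1⁻¹ * h0⁻¹) = 1 := by
    apply hHrad
    · rw [← h4]
      exact H.mul_mem (H.mul_mem (H.mul_mem (H.inv_mem hh1') hh0') hh1') (H.inv_mem hh0')
    · exact (rad Q e).mul_mem hρ1 (conj_mem_rad hh0.2 ((rad Q e).inv_mem hρ1))
  have h6 : h0 * ρ1 = ρ1 * h0 := by
    have h7 : h0 * ρ1 * h0⁻¹ = ρ1 := by
      have h8 : ρ1 = (h0 * ρ1⁻¹ * h0⁻¹)⁻¹ := eq_inv_of_mul_eq_one_left h5
      have h9 : (h0 * ρ1⁻¹ * h0⁻¹)⁻¹ = h0 * ρ1 * h0⁻¹ := by group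
      rw [h9] at h8
      exact h8.symm
    calc h0 * ρ1 = h0 * ρ1 * h0⁻¹ * h0 := by group
      _ = _ := by rw [h7]
  have h7 : ρ1 = 1 := by
    apply hfree ρ1 hρ1
    rw [← hxz] at h6
    have h8 := mul_comm_rad hx hρ1
    calc z * ρ1 = x⁻¹ * ((x * z * x⁻¹) * (x * ρ1)) := by group
      _ = x⁻¹ * ((x * z * x⁻¹) * (ρ1 * x)) := by rw [h8]
      _ = x⁻¹ * ((x * z * x⁻¹ * ρ1) * x) := by group
      _ = x⁻¹ * ((ρ1 * (x * z * x⁻¹)) * x) := by rw [h6]
      _ = x⁻¹ * (ρ1 * x) * z := by group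
      _ = x⁻¹ * (x * ρ1) * z := by rw [h8]
      _ = ρ1 * z := by group
  rw [hyh, h7, mul_one]
  exact hh1'

/-- **Step 1.** -/
theorem step1 (hG : Good Q) {H : Subgroup (V ≃ₗ[F] V)}
    (hn : H.relIndex (E Q) < 2 * Nat.card F ^ (Module.finrank F V - 2))
    {e : V} (he0 : e ≠ 0) (heQ : Q e = 0)
    {c : F} {z : V ≃ₗ[F] V} (hz : z ∈ E Q) (hc : c ≠ 0) (hze : z e = c • e)
    (hfpf : ∀ v, polar Q e v = 0 → c • z v - v ∈ Submodule.span F {e} →
      v ∈ Submodule.span F {e})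
    {u w : V} (hu0 : u ≠ 0) (huQ : Q u = 0) (huw : polar Q u w = 0)
    (hwn : w ∉ Submodule.span F {u}) (heu : polar Q e u = 0)
    (hew : polar Q e w = 0) (hzu : z u = u) (hzw : z w = w) :
    ∃ e', e' ∈ PP Q H := by
  by_cases htriv : ∀ v ∈ Bs Q H e, v ∈ Submodule.span F {e}
  · obtain ⟨x, hx, hxH⟩ := step1_aux hG hn he0 heQ htriv hz hc hze hfpf heu hew hzu hzw
    have hxO := E_le_O (rad_le_Pst heQ hx).1
    refine ⟨x u, ?_, ?_, x w, ⟨?_, hxH⟩, ?_⟩
    · exact (map_ne_zero_iff x x.injective).2 hu0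
    · rw [mem_O.1 hxO]; exact huQ
    · rw [polar_map hxO]; exact huw
    · intro hmem
      obtain ⟨a, ha⟩ := Submodule.mem_span_singleton.1 hmem
      apply hwn
      rw [← map_smul] at ha
      exact Submodule.mem_span_singleton.2 ⟨a, x.injective ha⟩
  · push Not at htriv
    exact ⟨e, he0, heQ, htriv⟩

end fin

end Cfsg.Agent.H75.OrthIdx
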